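import Cfsg.Agent.Lib.Chevalley.Twist.D4

/-!
Swapping root elements of the unipotent group of type D4.
-/

set_option autoImplicit false

namespace Cfsg.Agent.TwistMult.D4.Sw

open Cfsg.Lie Cfsg.Agent.Chevalley Cfsg.Agent.Chevalley.Table Cfsg.Agent.Chevalley.Cert
  Cfsg.Agent.Chevalley.Group Cfsg.Agent.Chevalley.Unip Cfsg.Agent.Chevalley.Twist.D4

variable {K : Type*} [Field K]

local notation "Xr" => xg (F := K) hC

theorem none_ok : ∀ p ∈ [(12, 15), (12, 20), (12, 17), (12, 22), (12, 23), (13, 16), (13, 21), (13, 17), (13, 22), (13, 23), (18, 19), (18, 21), (18, 20), (18, 22), (18, 23), (15, 14), (16, 14), (19, 14), (21, 14), (20, 14), (17, 14), (23, 14), (16, 15), (19, 15), (20, 15), (17, 15), (22, 15), (23, 15), (19, 16), (21, 16), (17, 16), (22, 16), (23, 16), (21, 19), (20, 19), (22, 19), (23, 19), (20, 21), (17, 21), (22, 21), (23, 21), (17, 20), (22, 20), (23, 20), (22, 17),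 (23, 17), (23, 22)], p.1 < chevD4.nroots ∧
    p.2 < chevD4.nroots ∧ p.2 ≠ p.1 ∧ p.2 ≠ chevD4.neg p.1 ∧ chevD4.commTerms p.1 p.2 = [] := by decide +kernel

theorem one_ok : ∀ p ∈ ([(12, 14, 15, 1), (12, 16, 17, 1), (12, 19, 20, 1), (12, 21, 22, 1), (13, 14, 16, 1), (13, 15, 17, 1), (13, 19, 21, 1), (13, 20, 22, 1), (18, 14, 19, -1), (18, 15, 20, -1), (18, 16, 21, -1), (18, 17, 22, -1), (22, 14, 23, -1), (21, 15, 23, 1), (20, 16, 23, 1), (17, 19, 23, 1)] :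
    List (ℕ × ℕ × ℕ × ℤ)), p.1 < chevD4.nroots ∧ p.2.1 < chevD4.nroots ∧ p.2.1 ≠ p.1 ∧
    p.2.1 ≠ chevD4.neg p.1 ∧ chevD4.commTerms p.1 p.2.1 = [(p.2.2.1, p.2.2.2, 1, 1)] := by decide +kernel

theorem cmt {r s : ℕ} (h : r < chevD4.nroots ∧ s < chevD4.nroots ∧ s ≠ r ∧ s ≠ chevD4.neg r ∧
    chevD4.commTerms r s = []) (t u : K) : Xr r t * Xr s u = Xr s u * Xr r t := by
  obtain ⟨hr, hs, h1, h2, h3⟩ := h
  rw [xg_comm hC hr hs h1 h2]
  simp [ChevalleyDatum.commWord, h3]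

theorem sw {r s k : ℕ} {c : ℤ} (h : r < chevD4.nroots ∧ s < chevD4.nroots ∧ s ≠ r ∧ s ≠ chevD4.neg r ∧
    chevD4.commTerms r s = [(k, c, 1, 1)]) (t u : K) :
    Xr r t * Xr s u = Xr s u * (Xr k ((c : K) * t * u) * Xr r t) := by
  obtain ⟨hr, hs, h1, h2, h3⟩ := h
  have e := xg_comm (F := K) hC hr hs h1 h2 (-t) u
  rw [← xg_inv hC r t] at e
  simp [ChevalleyDatum.commWord, h3] at e
  calc Xr r t * Xr s u = Xr r t * (Xr s u * (Xr r t)⁻¹) * Xr r t := by group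
    _ = _ := by rw [e]; group

theorem w12_15 (t u : K) : Xr 12 t * Xr 15 u = Xr 15 u * Xr 12 t :=
  cmt (none_ok (12, 15) (by simp)) t u

theorem w12_15' (t u : K) (R : GL chevD4.Idx K) : Xr 12 t * (Xr 15 u * R) = Xr 15 u * (Xr 12 t * R) := by
  rw [← mul_assoc, w12_15, mul_assoc]

theorem w12_20 (t u : K) : Xr 12 t * Xr 20 u = Xr 20 u * Xr 12 t :=
  cmt (none_ok (12, 20) (by simp)) t u

theorem w12_20' (t u : K) (R : GL chevD4.Idx K) : Xr 12 t * (Xr 20 u * R) = Xr 20 u * (Xr 12 t * R) := by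
  rw [← mul_assoc, w12_20, mul_assoc]

theorem w12_17 (t u : K) : Xr 12 t * Xr 17 u = Xr 17 u * Xr 12 t :=
  cmt (none_ok (12, 17) (by simp)) t u

theorem w12_17' (t u : K) (R : GL chevD4.Idx K) : Xr 12 t * (Xr 17 u * R) = Xr 17 u * (Xr 12 t * R) := by
  rw [← mul_assoc, w12_17, mul_assoc]

theorem w12_22 (t u : K) : Xr 12 t * Xr 22 u = Xr 22 u * Xr 12 t :=
  cmt (none_ok (12, 22) (by simp)) t u

theorem w12_22' (t u : K) (R : GL chevD4.Idx K) : Xr 12 t * (Xr 22 u * R) = Xr 22 u * (Xr 12 t * R) := by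
  rw [← mul_assoc, w12_22, mul_assoc]

theorem w12_23 (t u : K) : Xr 12 t * Xr 23 u = Xr 23 u * Xr 12 t :=
  cmt (none_ok (12, 23) (by simp)) t u

theorem w12_23' (t u : K) (R : GL chevD4.Idx K) : Xr 12 t * (Xr 23 u * R) = Xr 23 u * (Xr 12 t * R) := by
  rw [← mul_assoc, w12_23, mul_assoc]

theorem w13_16 (t u : K) : Xr 13 t * Xr 16 u = Xr 16 u * Xr 13 t :=
  cmt (none_ok (13, 16) (by simp)) t u

theorem w13_16' (t u : K) (R : GL chevD4.Idx K) : Xr 13 t * (Xr 16 u * R) = Xr 16 u * (Xr 13 t * R) := by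
  rw [← mul_assoc, w13_16, mul_assoc]

theorem w13_21 (t u : K) : Xr 13 t * Xr 21 u = Xr 21 u * Xr 13 t :=
  cmt (none_ok (13, 21) (by simp)) t u

theorem w13_21' (t u : K) (R : GL chevD4.Idx K) : Xr 13 t * (Xr 21 u * R) = Xr 21 u * (Xr 13 t * R) := by
  rw [← mul_assoc, w13_21, mul_assoc]

theorem w13_17 (t u : K) : Xr 13 t * Xr 17 u = Xr 17 u * Xr 13 t :=
  cmt (none_ok (13, 17) (by simp)) t u

theorem w13_17' (t u : K) (R : GL chevD4.Idx K) : Xr 13 t * (Xr 17 u * R) = Xr 17 u * (Xr 13 t * R) := by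
  rw [← mul_assoc, w13_17, mul_assoc]

theorem w13_22 (t u : K) : Xr 13 t * Xr 22 u = Xr 22 u * Xr 13 t :=
  cmt (none_ok (13, 22) (by simp)) t u

theorem w13_22' (t u : K) (R : GL chevD4.Idx K) : Xr 13 t * (Xr 22 u * R) = Xr 22 u * (Xr 13 t * R) := by
  rw [← mul_assoc, w13_22, mul_assoc]

theorem w13_23 (t u : K) : Xr 13 t * Xr 23 u = Xr 23 u * Xr 13 t :=
  cmt (none_ok (13, 23) (by simp)) t u

theorem w13_23' (t u : K) (R : GL chevD4.Idx K) : Xr 13 t * (Xr 23 u * R) = Xr 23 u * (Xr 13 t * R) := by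
  rw [← mul_assoc, w13_23, mul_assoc]

theorem w18_19 (t u : K) : Xr 18 t * Xr 19 u = Xr 19 u * Xr 18 t :=
  cmt (none_ok (18, 19) (by simp)) t u

theorem w18_19' (t u : K) (R : GL chevD4.Idx K) : Xr 18 t * (Xr 19 u * R) = Xr 19 u * (Xr 18 t * R) := by
  rw [← mul_assoc, w18_19, mul_assoc]

theorem w18_21 (t u : K) : Xr 18 t * Xr 21 u = Xr 21 u * Xr 18 t :=
  cmt (none_ok (18, 21) (by simp)) t u

theorem w18_21' (t u : K) (R : GL chevD4.Idx K) : Xr 18 t * (Xr 21 u * R) = Xr 21 u * (Xr 18 t * R) := by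
  rw [← mul_assoc, w18_21, mul_assoc]

theorem w18_20 (t u : K) : Xr 18 t * Xr 20 u = Xr 20 u * Xr 18 t :=
  cmt (none_ok (18, 20) (by simp)) t u

theorem w18_20' (t u : K) (R : GL chevD4.Idx K) : Xr 18 t * (Xr 20 u * R) = Xr 20 u * (Xr 18 t * R) := by
  rw [← mul_assoc, w18_20, mul_assoc]

theorem w18_22 (t u : K) : Xr 18 t * Xr 22 u = Xr 22 u * Xr 18 t :=
  cmt (none_ok (18, 22) (by simp)) t u

theorem w18_22' (t u : K) (R : GL chevD4.Idx K) : Xr 18 t * (Xr 22 u * R) = Xr 22 u * (Xr 18 t * R) := by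
  rw [← mul_assoc, w18_22, mul_assoc]

theorem w18_23 (t u : K) : Xr 18 t * Xr 23 u = Xr 23 u * Xr 18 t :=
  cmt (none_ok (18, 23) (by simp)) t u

theorem w18_23' (t u : K) (R : GL chevD4.Idx K) : Xr 18 t * (Xr 23 u * R) = Xr 23 u * (Xr 18 t * R) := by
  rw [← mul_assoc, w18_23, mul_assoc]

theorem w15_14 (t u : K) : Xr 15 t * Xr 14 u = Xr 14 u * Xr 15 t :=
  cmt (none_ok (15, 14) (by simp)) t u

theorem w15_14' (t u : K) (R : GL chevD4.Idx K) : Xr 15 t * (Xr 14 u * R) = Xr 14 u * (Xr 15 t * R) := by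
  rw [← mul_assoc, w15_14, mul_assoc]

theorem w16_14 (t u : K) : Xr 16 t * Xr 14 u = Xr 14 u * Xr 16 t :=
  cmt (none_ok (16, 14) (by simp)) t u

theorem w16_14' (t u : K) (R : GL chevD4.Idx K) : Xr 16 t * (Xr 14 u * R) = Xr 14 u * (Xr 16 t * R) := by
  rw [← mul_assoc, w16_14, mul_assoc]

theorem w19_14 (t u : K) : Xr 19 t * Xr 14 u = Xr 14 u * Xr 19 t :=
  cmt (none_ok (19, 14) (by simp)) t u

theorem w19_14' (t u : K) (R : GL chevD4.Idx K) : Xr 19 t * (Xr 14 u * R) = Xr 14 u * (Xr 19 t * R) := by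
  rw [← mul_assoc, w19_14, mul_assoc]

theorem w21_14 (t u : K) : Xr 21 t * Xr 14 u = Xr 14 u * Xr 21 t :=
  cmt (none_ok (21, 14) (by simp)) t u

theorem w21_14' (t u : K) (R : GL chevD4.Idx K) : Xr 21 t * (Xr 14 u * R) = Xr 14 u * (Xr 21 t * R) := by
  rw [← mul_assoc, w21_14, mul_assoc]

theorem w20_14 (t u : K) : Xr 20 t * Xr 14 u = Xr 14 u * Xr 20 t :=
  cmt (none_ok (20, 14) (by simp)) t u

theorem w20_14' (t u : K) (R : GL chevD4.Idx K) : Xr 20 t * (Xr 14 u * R) = Xr 14 u * (Xr 20 t * R) := by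
  rw [← mul_assoc, w20_14, mul_assoc]

theorem w17_14 (t u : K) : Xr 17 t * Xr 14 u = Xr 14 u * Xr 17 t :=
  cmt (none_ok (17, 14) (by simp)) t u

theorem w17_14' (t u : K) (R : GL chevD4.Idx K) : Xr 17 t * (Xr 14 u * R) = Xr 14 u * (Xr 17 t * R) := by
  rw [← mul_assoc, w17_14, mul_assoc]

theorem w23_14 (t u : K) : Xr 23 t * Xr 14 u = Xr 14 u * Xr 23 t :=
  cmt (none_ok (23, 14) (by simp)) t u

theorem w23_14' (t u : K) (R : GL chevD4.Idx K) : Xr 23 t * (Xr 14 u * R) = Xr 14 u * (Xr 23 t * R) := by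
  rw [← mul_assoc, w23_14, mul_assoc]

theorem w16_15 (t u : K) : Xr 16 t * Xr 15 u = Xr 15 u * Xr 16 t :=
  cmt (none_ok (16, 15) (by simp)) t u

theorem w16_15' (t u : K) (R : GL chevD4.Idx K) : Xr 16 t * (Xr 15 u * R) = Xr 15 u * (Xr 16 t * R) := by
  rw [← mul_assoc, w16_15, mul_assoc]

theorem w19_15 (t u : K) : Xr 19 t * Xr 15 u = Xr 15 u * Xr 19 t :=
  cmt (none_ok (19, 15) (by simp)) t u

theorem w19_15' (t u : K) (R : GL chevD4.Idx K) : Xr 19 t * (Xr 15 u * R) = Xr 15 u * (Xr 19 t * R) := by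
  rw [← mul_assoc, w19_15, mul_assoc]

theorem w20_15 (t u : K) : Xr 20 t * Xr 15 u = Xr 15 u * Xr 20 t :=
  cmt (none_ok (20, 15) (by simp)) t u

theorem w20_15' (t u : K) (R : GL chevD4.Idx K) : Xr 20 t * (Xr 15 u * R) = Xr 15 u * (Xr 20 t * R) := by
  rw [← mul_assoc, w20_15, mul_assoc]

theorem w17_15 (t u : K) : Xr 17 t * Xr 15 u = Xr 15 u * Xr 17 t :=
  cmt (none_ok (17, 15) (by simp)) t u

theorem w17_15' (t u : K) (R : GL chevD4.Idx K) : Xr 17 t * (Xr 15 u * R) = Xr 15 u * (Xr 17 t * R) := by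
  rw [← mul_assoc, w17_15, mul_assoc]

theorem w22_15 (t u : K) : Xr 22 t * Xr 15 u = Xr 15 u * Xr 22 t :=
  cmt (none_ok (22, 15) (by simp)) t u

theorem w22_15' (t u : K) (R : GL chevD4.Idx K) : Xr 22 t * (Xr 15 u * R) = Xr 15 u * (Xr 22 t * R) := by
  rw [← mul_assoc, w22_15, mul_assoc]

theorem w23_15 (t u : K) : Xr 23 t * Xr 15 u = Xr 15 u * Xr 23 t :=
  cmt (none_ok (23, 15) (by simp)) t u

theorem w23_15' (t u : K) (R : GL chevD4.Idx K) : Xr 23 t * (Xr 15 u * R) = Xr 15 u * (Xr 23 t * R) := by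
  rw [← mul_assoc, w23_15, mul_assoc]

theorem w19_16 (t u : K) : Xr 19 t * Xr 16 u = Xr 16 u * Xr 19 t :=
  cmt (none_ok (19, 16) (by simp)) t u

theorem w19_16' (t u : K) (R : GL chevD4.Idx K) : Xr 19 t * (Xr 16 u * R) = Xr 16 u * (Xr 19 t * R) := by
  rw [← mul_assoc, w19_16, mul_assoc]

theorem w21_16 (t u : K) : Xr 21 t * Xr 16 u = Xr 16 u * Xr 21 t :=
  cmt (none_ok (21, 16) (by simp)) t u

theorem w21_16' (t u : K) (R : GL chevD4.Idx K) : Xr 21 t * (Xr 16 u * R) = Xr 16 u * (Xr 21 t * R) := by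
  rw [← mul_assoc, w21_16, mul_assoc]

theorem w17_16 (t u : K) : Xr 17 t * Xr 16 u = Xr 16 u * Xr 17 t :=
  cmt (none_ok (17, 16) (by simp)) t u

theorem w17_16' (t u : K) (R : GL chevD4.Idx K) : Xr 17 t * (Xr 16 u * R) = Xr 16 u * (Xr 17 t * R) := by
  rw [← mul_assoc, w17_16, mul_assoc]

theorem w22_16 (t u : K) : Xr 22 t * Xr 16 u = Xr 16 u * Xr 22 t :=
  cmt (none_ok (22, 16) (by simp)) t u

theorem w22_16' (t u : K) (R : GL chevD4.Idx K) : Xr 22 t * (Xr 16 u * R) = Xr 16 u * (Xr 22 t * R) := by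
  rw [← mul_assoc, w22_16, mul_assoc]

theorem w23_16 (t u : K) : Xr 23 t * Xr 16 u = Xr 16 u * Xr 23 t :=
  cmt (none_ok (23, 16) (by simp)) t u

theorem w23_16' (t u : K) (R : GL chevD4.Idx K) : Xr 23 t * (Xr 16 u * R) = Xr 16 u * (Xr 23 t * R) := by
  rw [← mul_assoc, w23_16, mul_assoc]

theorem w21_19 (t u : K) : Xr 21 t * Xr 19 u = Xr 19 u * Xr 21 t :=
  cmt (none_ok (21, 19) (by simp)) t u

theorem w21_19' (t u : K) (R : GL chevD4.Idx K) : Xr 21 t * (Xr 19 u * R) = Xr 19 u * (Xr 21 t * R) := by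
  rw [← mul_assoc, w21_19, mul_assoc]

theorem w20_19 (t u : K) : Xr 20 t * Xr 19 u = Xr 19 u * Xr 20 t :=
  cmt (none_ok (20, 19) (by simp)) t u

theorem w20_19' (t u : K) (R : GL chevD4.Idx K) : Xr 20 t * (Xr 19 u * R) = Xr 19 u * (Xr 20 t * R) := by
  rw [← mul_assoc, w20_19, mul_assoc]

theorem w22_19 (t u : K) : Xr 22 t * Xr 19 u = Xr 19 u * Xr 22 t :=
  cmt (none_ok (22, 19) (by simp)) t u

theorem w22_19' (t u : K) (R : GL chevD4.Idx K) : Xr 22 t * (Xr 19 u * R) = Xr 19 u * (Xr 22 t * R) := by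
  rw [← mul_assoc, w22_19, mul_assoc]

theorem w23_19 (t u : K) : Xr 23 t * Xr 19 u = Xr 19 u * Xr 23 t :=
  cmt (none_ok (23, 19) (by simp)) t u

theorem w23_19' (t u : K) (R : GL chevD4.Idx K) : Xr 23 t * (Xr 19 u * R) = Xr 19 u * (Xr 23 t * R) := by
  rw [← mul_assoc, w23_19, mul_assoc]

theorem w20_21 (t u : K) : Xr 20 t * Xr 21 u = Xr 21 u * Xr 20 t :=
  cmt (none_ok (20, 21) (by simp)) t u

theorem w20_21' (t u : K) (R : GL chevD4.Idx K) : Xr 20 t * (Xr 21 u * R) = Xr 21 u * (Xr 20 t * R) := by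
  rw [← mul_assoc, w20_21, mul_assoc]

theorem w17_21 (t u : K) : Xr 17 t * Xr 21 u = Xr 21 u * Xr 17 t :=
  cmt (none_ok (17, 21) (by simp)) t u

theorem w17_21' (t u : K) (R : GL chevD4.Idx K) : Xr 17 t * (Xr 21 u * R) = Xr 21 u * (Xr 17 t * R) := by
  rw [← mul_assoc, w17_21, mul_assoc]

theorem w22_21 (t u : K) : Xr 22 t * Xr 21 u = Xr 21 u * Xr 22 t :=
  cmt (none_ok (22, 21) (by simp)) t u

theorem w22_21' (t u : K) (R : GL chevD4.Idx K) : Xr 22 t * (Xr 21 u * R) = Xr 21 u * (Xr 22 t * R) := by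
  rw [← mul_assoc, w22_21, mul_assoc]

theorem w23_21 (t u : K) : Xr 23 t * Xr 21 u = Xr 21 u * Xr 23 t :=
  cmt (none_ok (23, 21) (by simp)) t u

theorem w23_21' (t u : K) (R : GL chevD4.Idx K) : Xr 23 t * (Xr 21 u * R) = Xr 21 u * (Xr 23 t * R) := by
  rw [← mul_assoc, w23_21, mul_assoc]

theorem w17_20 (t u : K) : Xr 17 t * Xr 20 u = Xr 20 u * Xr 17 t :=
  cmt (none_ok (17, 20) (by simp)) t u

theorem w17_20' (t u : K) (R : GL chevD4.Idx K) : Xr 17 t * (Xr 20 u * R) = Xr 20 u * (Xr 17 t * R) := by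
  rw [← mul_assoc, w17_20, mul_assoc]

theorem w22_20 (t u : K) : Xr 22 t * Xr 20 u = Xr 20 u * Xr 22 t :=
  cmt (none_ok (22, 20) (by simp)) t u

theorem w22_20' (t u : K) (R : GL chevD4.Idx K) : Xr 22 t * (Xr 20 u * R) = Xr 20 u * (Xr 22 t * R) := by
  rw [← mul_assoc, w22_20, mul_assoc]

theorem w23_20 (t u : K) : Xr 23 t * Xr 20 u = Xr 20 u * Xr 23 t :=
  cmt (none_ok (23, 20) (by simp)) t u

theorem w23_20' (t u : K) (R : GL chevD4.Idx K) : Xr 23 t * (Xr 20 u * R) = Xr 20 u * (Xr 23 t * R) := by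
  rw [← mul_assoc, w23_20, mul_assoc]

theorem w22_17 (t u : K) : Xr 22 t * Xr 17 u = Xr 17 u * Xr 22 t :=
  cmt (none_ok (22, 17) (by simp)) t u

theorem w22_17' (t u : K) (R : GL chevD4.Idx K) : Xr 22 t * (Xr 17 u * R) = Xr 17 u * (Xr 22 t * R) := by
  rw [← mul_assoc, w22_17, mul_assoc]

theorem w23_17 (t u : K) : Xr 23 t * Xr 17 u = Xr 17 u * Xr 23 t :=
  cmt (none_ok (23, 17) (by simp)) t u

theorem w23_17' (t u : K) (R : GL chevD4.Idx K) : Xr 23 t * (Xr 17 u * R) = Xr 17 u * (Xr 23 t * R) := by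
  rw [← mul_assoc, w23_17, mul_assoc]

theorem w23_22 (t u : K) : Xr 23 t * Xr 22 u = Xr 22 u * Xr 23 t :=
  cmt (none_ok (23, 22) (by simp)) t u

theorem w23_22' (t u : K) (R : GL chevD4.Idx K) : Xr 23 t * (Xr 22 u * R) = Xr 22 u * (Xr 23 t * R) := by
  rw [← mul_assoc, w23_22, mul_assoc]

theorem w12_14 (t u : K) : Xr 12 t * Xr 14 u = Xr 14 u * (Xr 15 (t * u) * Xr 12 t) := by
  rw [sw (one_ok (12, 14, 15, 1) (by simp))]; simp

theorem w12_14' (t u : K) (R : GL chevD4.Idx K) :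
    Xr 12 t * (Xr 14 u * R) = Xr 14 u * (Xr 15 (t * u) * (Xr 12 t * R)) := by
  rw [← mul_assoc, w12_14, mul_assoc, mul_assoc]

theorem w12_16 (t u : K) : Xr 12 t * Xr 16 u = Xr 16 u * (Xr 17 (t * u) * Xr 12 t) := by
  rw [sw (one_ok (12, 16, 17, 1) (by simp))]; simp

theorem w12_16' (t u : K) (R : GL chevD4.Idx K) :
    Xr 12 t * (Xr 16 u * R) = Xr 16 u * (Xr 17 (t * u) * (Xr 12 t * R)) := by
  rw [← mul_assoc, w12_16, mul_assoc, mul_assoc]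

theorem w12_19 (t u : K) : Xr 12 t * Xr 19 u = Xr 19 u * (Xr 20 (t * u) * Xr 12 t) := by
  rw [sw (one_ok (12, 19, 20, 1) (by simp))]; simp

theorem w12_19' (t u : K) (R : GL chevD4.Idx K) :
    Xr 12 t * (Xr 19 u * R) = Xr 19 u * (Xr 20 (t * u) * (Xr 12 t * R)) := by
  rw [← mul_assoc, w12_19, mul_assoc, mul_assoc]

theorem w12_21 (t u : K) : Xr 12 t * Xr 21 u = Xr 21 u * (Xr 22 (t * u) * Xr 12 t) := by
  rw [sw (one_ok (12, 21, 22, 1) (by simp))]; simp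

theorem w12_21' (t u : K) (R : GL chevD4.Idx K) :
    Xr 12 t * (Xr 21 u * R) = Xr 21 u * (Xr 22 (t * u) * (Xr 12 t * R)) := by
  rw [← mul_assoc, w12_21, mul_assoc, mul_assoc]

theorem w13_14 (t u : K) : Xr 13 t * Xr 14 u = Xr 14 u * (Xr 16 (t * u) * Xr 13 t) := by
  rw [sw (one_ok (13, 14, 16, 1) (by simp))]; simp

theorem w13_14' (t u : K) (R : GL chevD4.Idx K) :
    Xr 13 t * (Xr 14 u * R) = Xr 14 u * (Xr 16 (t * u) * (Xr 13 t * R)) := by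
  rw [← mul_assoc, w13_14, mul_assoc, mul_assoc]

theorem w13_15 (t u : K) : Xr 13 t * Xr 15 u = Xr 15 u * (Xr 17 (t * u) * Xr 13 t) := by
  rw [sw (one_ok (13, 15, 17, 1) (by simp))]; simp

theorem w13_15' (t u : K) (R : GL chevD4.Idx K) :
    Xr 13 t * (Xr 15 u * R) = Xr 15 u * (Xr 17 (t * u) * (Xr 13 t * R)) := by
  rw [← mul_assoc, w13_15, mul_assoc, mul_assoc]

theorem w13_19 (t u : K) : Xr 13 t * Xr 19 u = Xr 19 u * (Xr 21 (t * u) * Xr 13 t) := by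
  rw [sw (one_ok (13, 19, 21, 1) (by simp))]; simp

theorem w13_19' (t u : K) (R : GL chevD4.Idx K) :
    Xr 13 t * (Xr 19 u * R) = Xr 19 u * (Xr 21 (t * u) * (Xr 13 t * R)) := by
  rw [← mul_assoc, w13_19, mul_assoc, mul_assoc]

theorem w13_20 (t u : K) : Xr 13 t * Xr 20 u = Xr 20 u * (Xr 22 (t * u) * Xr 13 t) := by
  rw [sw (one_ok (13, 20, 22, 1) (by simp))]; simp

theorem w13_20' (t u : K) (R : GL chevD4.Idx K) :
    Xr 13 t * (Xr 20 u * R) = Xr 20 u * (Xr 22 (t * u) * (Xr 13 t * R)) := by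
  rw [← mul_assoc, w13_20, mul_assoc, mul_assoc]

theorem w18_14 (t u : K) : Xr 18 t * Xr 14 u = Xr 14 u * (Xr 19 (-(t * u)) * Xr 18 t) := by
  rw [sw (one_ok (18, 14, 19, -1) (by simp))]; simp

theorem w18_14' (t u : K) (R : GL chevD4.Idx K) :
    Xr 18 t * (Xr 14 u * R) = Xr 14 u * (Xr 19 (-(t * u)) * (Xr 18 t * R)) := by
  rw [← mul_assoc, w18_14, mul_assoc, mul_assoc]

theorem w18_15 (t u : K) : Xr 18 t * Xr 15 u = Xr 15 u * (Xr 20 (-(t * u)) * Xr 18 t) := by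
  rw [sw (one_ok (18, 15, 20, -1) (by simp))]; simp

theorem w18_15' (t u : K) (R : GL chevD4.Idx K) :
    Xr 18 t * (Xr 15 u * R) = Xr 15 u * (Xr 20 (-(t * u)) * (Xr 18 t * R)) := by
  rw [← mul_assoc, w18_15, mul_assoc, mul_assoc]

theorem w18_16 (t u : K) : Xr 18 t * Xr 16 u = Xr 16 u * (Xr 21 (-(t * u)) * Xr 18 t) := by
  rw [sw (one_ok (18, 16, 21, -1) (by simp))]; simp

theorem w18_16' (t u : K) (R : GL chevD4.Idx K) :
    Xr 18 t * (Xr 16 u * R) = Xr 16 u * (Xr 21 (-(t * u)) * (Xr 18 t * R)) := by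
  rw [← mul_assoc, w18_16, mul_assoc, mul_assoc]

theorem w18_17 (t u : K) : Xr 18 t * Xr 17 u = Xr 17 u * (Xr 22 (-(t * u)) * Xr 18 t) := by
  rw [sw (one_ok (18, 17, 22, -1) (by simp))]; simp

theorem w18_17' (t u : K) (R : GL chevD4.Idx K) :
    Xr 18 t * (Xr 17 u * R) = Xr 17 u * (Xr 22 (-(t * u)) * (Xr 18 t * R)) := by
  rw [← mul_assoc, w18_17, mul_assoc, mul_assoc]

theorem w22_14 (t u : K) : Xr 22 t * Xr 14 u = Xr 14 u * (Xr 23 (-(t * u)) * Xr 22 t) := by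
  rw [sw (one_ok (22, 14, 23, -1) (by simp))]; simp

theorem w22_14' (t u : K) (R : GL chevD4.Idx K) :
    Xr 22 t * (Xr 14 u * R) = Xr 14 u * (Xr 23 (-(t * u)) * (Xr 22 t * R)) := by
  rw [← mul_assoc, w22_14, mul_assoc, mul_assoc]

theorem w21_15 (t u : K) : Xr 21 t * Xr 15 u = Xr 15 u * (Xr 23 (t * u) * Xr 21 t) := by
  rw [sw (one_ok (21, 15, 23, 1) (by simp))]; simp

theorem w21_15' (t u : K) (R : GL chevD4.Idx K) :
    Xr 21 t * (Xr 15 u * R) = Xr 15 u * (Xr 23 (t * u) * (Xr 21 t * R)) := by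
  rw [← mul_assoc, w21_15, mul_assoc, mul_assoc]

theorem w20_16 (t u : K) : Xr 20 t * Xr 16 u = Xr 16 u * (Xr 23 (t * u) * Xr 20 t) := by
  rw [sw (one_ok (20, 16, 23, 1) (by simp))]; simp

theorem w20_16' (t u : K) (R : GL chevD4.Idx K) :
    Xr 20 t * (Xr 16 u * R) = Xr 16 u * (Xr 23 (t * u) * (Xr 20 t * R)) := by
  rw [← mul_assoc, w20_16, mul_assoc, mul_assoc]

theorem w17_19 (t u : K) : Xr 17 t * Xr 19 u = Xr 19 u * (Xr 23 (t * u) * Xr 17 t) := by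
  rw [sw (one_ok (17, 19, 23, 1) (by simp))]; simp

theorem w17_19' (t u : K) (R : GL chevD4.Idx K) :
    Xr 17 t * (Xr 19 u * R) = Xr 19 u * (Xr 23 (t * u) * (Xr 17 t * R)) := by
  rw [← mul_assoc, w17_19, mul_assoc, mul_assoc]

theorem add' (r : ℕ) (t u : K) (R : GL chevD4.Idx K) : Xr r t * (Xr r u * R) = Xr r (t + u) * R := by
  rw [← mul_assoc, ← xg_add hC]

theorem add (r : ℕ) (t u : K) : Xr r t * Xr r u = Xr r (t + u) := (xg_add hC r t u).symm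

end Cfsg.Agent.TwistMult.D4.Sw
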