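import Cfsg.Agent.Lib.TwistMult.D4Root
import Cfsg.Agent.Lib.TwistMult.D4Swap
import Cfsg.Agent.Lib.Chevalley.Twist.TorusD4

/-!
The root elements of the special radical of a triality twisted group and their relations.
-/

set_option autoImplicit false
set_option linter.unusedSectionVars false
set_option linter.unusedSimpArgs false

open scoped Matrix

namespace Cfsg.Agent.TwistMult.D4

open Cfsg.Lie Cfsg.Agent.Chevalley Cfsg.Agent.Chevalley.Table Cfsg.Agent.Chevalley.Cert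
  Cfsg.Agent.Chevalley.Group Cfsg.Agent.Chevalley.Borel Cfsg.Agent.Chevalley.Unip
  Cfsg.Agent.Chevalley.Twist Cfsg.Agent.Chevalley.Twist.D4

/-- Exact conjugation of a root element by a fundamental monomial element. -/
theorem ngc {K : Type*} [Field K] {i r r' : ℕ} {e : ℤ}
    (h : i < chevD4.rank ∧ r < chevD4.nroots ∧ chevD4.reflectRoot i r = r' ∧ Data.D4.tab.eta i r = e) (t : K) :
    ng hC (chevD4.simple i) 1 * xg hC r t * (ng hC (chevD4.simple i) (1 : K))⁻¹ = xg hC r' ((e : K) * t) := by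
  obtain ⟨hi, hr, rfl, rfl⟩ := h
  exact ng_conj_x hC hi hr t

theorem refl_ok : ∀ p ∈ ([(1, 12, 15, -1), (1, 13, 16, -1), (1, 18, 19, 1), (1, 22, 23, 1),
    (0, 19, 14, 1), (2, 14, 16, 1), (3, 16, 17, 1), (0, 16, 21, -1), (2, 21, 19, -1), (3, 19, 20, 1),
    (0, 15, 20, -1), (2, 20, 22, 1), (3, 22, 21, -1), (0, 14, 19, -1), (2, 19, 21, 1),
    (3, 21, 22, 1)] : List (ℕ × ℕ × ℕ × ℤ)),
    p.1 < chevD4.rank ∧ p.2.1 < chevD4.nroots ∧ chevD4.reflectRoot p.1 p.2.1 = p.2.2.1 ∧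
      Data.D4.tab.eta p.1 p.2.1 = p.2.2.2 := by decide +kernel

theorem simple_vals : chevD4.simple 0 = 18 ∧ chevD4.simple 1 = 14 ∧ chevD4.simple 2 = 13 ∧
    chevD4.simple 3 = 12 := by decide +kernel

theorem roots_lt : ∀ r ∈ [12, 13, 14, 15, 16, 17, 18, 19, 20, 21, 22, 23], r < chevD4.nroots := by
  decide +kernel

theorem cart_sum : ∀ p ∈ [(19, 14, 18), (16, 14, 13), (15, 14, 12), (17, 16, 12), (21, 16, 18),
    (20, 15, 18), (22, 17, 18), (23, 22, 14)], ∀ i < chevD4.rank,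
    chevD4.cartan i p.1 = chevD4.cartan i p.2.1 + chevD4.cartan i p.2.2 := by decide +kernel

theorem char_sum {K : Type*} [Field K] (c : ℕ → Kˣ) {r a b : ℕ}
    (h : ∀ i < chevD4.rank, chevD4.cartan i r = chevD4.cartan i a + chevD4.cartan i b) :
    torChar chevD4 c r = torChar chevD4 c a * torChar chevD4 c b := by
  rw [torChar, torChar, torChar, ← Finset.prod_mul_distrib]
  exact Finset.prod_congr rfl fun i hi => by rw [h i (Finset.mem_range.1 hi), zpow_add]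

variable {K : Type*} [Field K] [Fintype K] {q : ℕ} {hK : Fintype.card K = q ^ 3}
  (X : Setup (K := K) hK) (θ : K →+* K) (hθ : ∀ t, θ t = t ^ q) (P₀ : Par X.S (X.O.J 0) (E₀ q θ))
  (h₀ : ∀ i t, P₀.em i t = (t : K)) (P₁ : Par X.S (X.O.J 1) K) (h₁ : ∀ i, P₁.em i = emb₁ θ i)

/-- The representative of the long orbit. -/
abbrev n₀ : twistedD4 K q := Orth.nK X.O X.gen X.π_eq (hOr X) (k0 X)

/-- The representative of the short orbit. -/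
abbrev n₁ : twistedD4 K q := Orth.nK X.O X.gen X.π_eq (hOr X) (k1 X)

/-- The first pair of roots. -/
def aa (s : K) : twistedD4 K q := n₀ X * x₁ X P₁ s * (n₀ X)⁻¹

/-- The second pair of roots. -/
def bb (s : K) : twistedD4 K q := n₁ X * aa X P₁ s * (n₁ X)⁻¹

/-- The image of the long root. -/
def x3 (t : E₀ q θ) : twistedD4 K q := n₁ X * x₀ X θ P₀ t * (n₁ X)⁻¹

/-- The highest root. -/
def zz (t : E₀ q θ) : twistedD4 K q := n₀ X * x3 X θ P₀ t * (n₀ X)⁻¹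

theorem coe_n₀ : (n₀ X : GL chevD4.Idx K) = ng hC (chevD4.simple 1) 1 := by
  show nL hC K (X.O.J 0) = _
  rw [show X.O.J 0 = [1] from X.J_eq 0]
  simp [nL]

theorem coe_n₁ : (n₁ X : GL chevD4.Idx K) =
    ng hC (chevD4.simple 3) 1 * (ng hC (chevD4.simple 2) 1 * ng hC (chevD4.simple 0) 1) := by
  show nL hC K (X.O.J 1) = _
  rw [show X.O.J 1 = [3, 2, 0] from X.J_eq 1]
  simp [nL]

omit X in
theorem conj_prod {G : Type*} [Group G] (g a b c : G) :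
    g * (a * (b * c)) * g⁻¹ = g * a * g⁻¹ * (g * b * g⁻¹ * (g * c * g⁻¹)) := by group

omit X in
theorem conj3 {G : Type*} [Group G] (a b c x : G) :
    a * (b * c) * x * (a * (b * c))⁻¹ = a * (b * (c * x * c⁻¹) * b⁻¹) * a⁻¹ := by group

include h₀ in
theorem coe_xb (t : E₀ q θ) : (x₀ X θ P₀ t : GL chevD4.Idx K) = xg hC 14 (t : K) := by
  rw [(coe_x₀ X θ P₀ h₀ t).1, simple_vals.2.1]

include h₁ in
theorem coe_u1 (s : K) : (x₁ X P₁ s : GL chevD4.Idx K) =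
    xg hC 12 (θ (θ s)) * (xg hC 13 (θ s) * xg hC 18 s) := by
  rw [coe_xp]
  refine (congrArg (fun l => opr hC chevD4.simple l fun i => P₁.em i s) (X.J_eq 1)).trans ?_
  obtain ⟨e0, -, e2, e3⟩ := simple_vals
  simp [opr, h₁, emb₁, e0, e2, e3]

include h₁ in
theorem coe_aa (s : K) : (aa X P₁ s : GL chevD4.Idx K) =
    xg hC 15 (-θ (θ s)) * (xg hC 16 (-θ s) * xg hC 19 s) := by
  have e : (MulAut.conj (ng hC (chevD4.simple 1) (1 : K))) (xg hC 12 (θ (θ s)) * (xg hC 13 (θ s) * xg hC 18 s)) =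
      xg hC 15 (-θ (θ s)) * (xg hC 16 (-θ s) * xg hC 19 s) := by
    rw [MulAut.conj_apply, conj_prod,
      ngc (refl_ok (1, 12, 15, -1) (by simp)), ngc (refl_ok (1, 13, 16, -1) (by simp)),
      ngc (refl_ok (1, 18, 19, 1) (by simp))]
    simp
  rw [aa, Subgroup.coe_mul, Subgroup.coe_mul, Subgroup.coe_inv, coe_n₀, coe_u1 X θ P₁ h₁, ← e]
  rfl

include h₁ in
theorem coe_bb (s : K) : (bb X P₁ s : GL chevD4.Idx K) =
    xg hC 21 (-θ (θ s)) * (xg hC 20 (-θ s) * xg hC 17 s) := by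
  have e : (MulAut.conj (ng hC (chevD4.simple 3) (1 : K) * (ng hC (chevD4.simple 2) 1 * ng hC (chevD4.simple 0) 1)))
      (xg hC 15 (-θ (θ s)) * (xg hC 16 (-θ s) * xg hC 19 s)) =
      xg hC 21 (-θ (θ s)) * (xg hC 20 (-θ s) * xg hC 17 s) := by
    rw [MulAut.conj_apply, conj_prod, conj3, conj3, conj3,
      ngc (refl_ok (0, 15, 20, -1) (by simp)), ngc (refl_ok (2, 20, 22, 1) (by simp)),
      ngc (refl_ok (3, 22, 21, -1) (by simp)),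
      ngc (refl_ok (0, 16, 21, -1) (by simp)), ngc (refl_ok (2, 21, 19, -1) (by simp)),
      ngc (refl_ok (3, 19, 20, 1) (by simp)),
      ngc (refl_ok (0, 19, 14, 1) (by simp)), ngc (refl_ok (2, 14, 16, 1) (by simp)),
      ngc (refl_ok (3, 16, 17, 1) (by simp))]
    simp
  rw [bb, Subgroup.coe_mul, Subgroup.coe_mul, Subgroup.coe_inv, coe_n₁, coe_aa X θ P₁ h₁, ← e]
  rfl

include h₀ in
theorem coe_x3 (t : E₀ q θ) : (x3 X θ P₀ t : GL chevD4.Idx K) = xg hC 22 (-(t : K)) := by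
  rw [x3, Subgroup.coe_mul, Subgroup.coe_mul, Subgroup.coe_inv, coe_n₁, coe_xb X θ P₀ h₀, conj3,
    ngc (refl_ok (0, 14, 19, -1) (by simp)), ngc (refl_ok (2, 19, 21, 1) (by simp)),
    ngc (refl_ok (3, 21, 22, 1) (by simp))]
  simp

include h₀ in
theorem coe_zz (t : E₀ q θ) : (zz X θ P₀ t : GL chevD4.Idx K) = xg hC 23 (-(t : K)) := by
  rw [zz, Subgroup.coe_mul, Subgroup.coe_mul, Subgroup.coe_inv, coe_n₀, coe_x3 X θ P₀ h₀,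
    ngc (refl_ok (1, 22, 23, 1) (by simp))]
  simp

include h₀ in
/-- The highest root elements of the group. -/
theorem exists_zz {v : K} (hv : xg hC 23 v ∈ twistedD4 K q) : ∃ c : E₀ q θ, v = -(c : K) := by
  obtain ⟨y, hy⟩ : ∃ y : twistedD4 K q, y = (n₁ X)⁻¹ * ((n₀ X)⁻¹ * ⟨_, hv⟩ * n₀ X) * n₁ X := ⟨_, rfl⟩
  have e14 : (MulAut.conj (n₀ X : GL chevD4.Idx K)) ((MulAut.conj (n₁ X : GL chevD4.Idx K)) (xg hC 14 (-v))) =
      xg hC 23 v := by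
    rw [MulAut.conj_apply, MulAut.conj_apply, coe_n₁, coe_n₀, conj3,
      ngc (refl_ok (0, 14, 19, -1) (by simp)), ngc (refl_ok (2, 19, 21, 1) (by simp)),
      ngc (refl_ok (3, 21, 22, 1) (by simp)), ngc (refl_ok (1, 22, 23, 1) (by simp))]
    simp
  have ey : (y : GL chevD4.Idx K) = xg hC 14 (-v) := by
    have e : (y : GL chevD4.Idx K) = (n₁ X : GL chevD4.Idx K)⁻¹ *
        ((n₀ X : GL chevD4.Idx K)⁻¹ * xg hC 23 v * n₀ X) * n₁ X := by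
      rw [hy]; rfl
    rw [e, ← e14, MulAut.conj_apply, MulAut.conj_apply]
    group
  have hm := Orth.mem_Xs_of_closure X.O X.gen X.π_eq (hOr X) (k0 X) false (z := y)
    (ey ▸ Subgroup.subset_closure ⟨1, by rw [show X.O.J 0 = [1] from X.J_eq 0]; simp, -v,
      by show _ = xg hC (chevD4.simple 1) _; rw [simple_vals.2.1]⟩)
  obtain ⟨t, ht⟩ := (mem_Xp_iff X.O X.gen X.π_eq (hOr X) (k0 X) P₀).1 hm
  refine ⟨t, ?_⟩
  have e := congrArg Subtype.val ht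
  rw [ey, coe_xb X θ P₀ h₀] at e
  rw [xg_injective hC (roots_lt 14 (by simp)) e, neg_neg]

include h₀ in
/-- An element differing from another by a highest root element. -/
theorem eq_mul_zz (g w : twistedD4 K q) (v : K)
    (e : (g : GL chevD4.Idx K) = (w : GL chevD4.Idx K) * xg hC 23 v) : ∃ c, g = w * zz X θ P₀ c := by
  have hv : xg hC 23 v ∈ twistedD4 K q := by
    rw [show xg hC 23 v = ((w⁻¹ * g : twistedD4 K q) : GL chevD4.Idx K) by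
      rw [Subgroup.coe_mul, Subgroup.coe_inv, e, inv_mul_cancel_left]]
    exact (w⁻¹ * g).2
  obtain ⟨c, rfl⟩ := exists_zz X θ P₀ h₀ hv
  exact ⟨c, Subtype.ext (by rw [Subgroup.coe_mul, coe_zz X θ P₀ h₀]; exact e)⟩

omit X in
include hθ in
theorem trace_mem (hK : Fintype.card K = q ^ 3) (t : K) : t + θ t + θ (θ t) ∈ E₀ q θ := by
  show θ (t + θ t + θ (θ t)) = t + θ t + θ (θ t)
  rw [map_add, map_add, θ3 θ hK hθ]; ring

/-- The trace. -/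
def tr (hK : Fintype.card K = q ^ 3) (hθ : ∀ t, θ t = t ^ q) (t : K) : E₀ q θ :=
  ⟨t + θ t + θ (θ t), trace_mem θ hθ hK t⟩

/-- The norm. -/
def nrm (hK : Fintype.card K = q ^ 3) (hθ : ∀ t, θ t = t ^ q) (t : K) : E₀ q θ :=
  ⟨t * θ t * θ (θ t), norm_mem θ hθ hK t⟩

local notation "U1" => x₁ X P₁
local notation "XB" => x₀ X θ P₀
local notation "AA" => aa X P₁
local notation "BB" => bb X P₁
local notation "X3" => x3 X θ P₀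
local notation "ZZ" => zz X θ P₀

include hθ h₀ h₁

theorem conj_xb (s : K) (t : E₀ q θ) : ∃ c, U1 s * XB t =
    XB t * AA (-((t : K) * s)) * BB ((t : K) * θ s * θ (θ s)) * X3 (t * nrm θ hK hθ s) * ZZ c * U1 s := by
  obtain ⟨c, hc⟩ := eq_mul_zz X θ P₀ h₀ (U1 s * XB t * (U1 s)⁻¹)
    (XB t * AA (-((t : K) * s)) * BB ((t : K) * θ s * θ (θ s)) * X3 (t * nrm θ hK hθ s))
    (θ (θ s) * (θ s * ((t : K) * -(s * (t : K))))) (by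
      simp only [Subgroup.coe_mul, Subgroup.coe_inv]
      rw [mul_inv_eq_iff_eq_mul, coe_xb X θ P₀ h₀, coe_u1 X θ P₁ h₁, coe_aa X θ P₁ h₁, coe_bb X θ P₁ h₁,
        coe_x3 X θ P₀ h₀]
      simp only [Sw.w12_15, Sw.w12_15', Sw.w12_20, Sw.w12_20', Sw.w12_17, Sw.w12_17', Sw.w12_22, Sw.w12_22', Sw.w12_23, Sw.w12_23', Sw.w13_16, Sw.w13_16', Sw.w13_21, Sw.w13_21', Sw.w13_17, Sw.w13_17', Sw.w13_22, Sw.w13_22', Sw.w13_23, Sw.w13_23', Sw.w18_19, Sw.w18_19', Sw.w18_21, Sw.w18_21', Sw.w18_20, Sw.w18_20', Sw.w18_22, Sw.w18_22', Sw.w18_23, Sw.w18_23', Sw.w15_14, Sw.w15_14', Sw.w16_14, Sw.w16_14', Sw.w19_14, Sw.w19_14', Sw.w21_14, Sw.w21_14', Sw.w20_14, Sw.w20_14', Sw.w17_14, Sw.w17_14', Sw.w23_14, Sw.w23_14', Sw.w16_15, Sw.w16_15', Sw.w19_15, Sw.w19_15', Sw.w20_15, Sw.w20_15', Sw.w17_15, Sw.w17_15', Sw.w22_15, Sw.w22_15', Sw.w23_15, Sw.w23_15', Sw.w19_16,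 Sw.w19_16', Sw.w21_16, Sw.w21_16', Sw.w17_16, Sw.w17_16', Sw.w22_16, Sw.w22_16', Sw.w23_16, Sw.w23_16', Sw.w21_19, Sw.w21_19', Sw.w20_19, Sw.w20_19', Sw.w22_19, Sw.w22_19', Sw.w23_19, Sw.w23_19', Sw.w20_21, Sw.w20_21', Sw.w17_21, Sw.w17_21', Sw.w22_21, Sw.w22_21', Sw.w23_21, Sw.w23_21', Sw.w17_20, Sw.w17_20', Sw.w22_20, Sw.w22_20', Sw.w23_20, Sw.w23_20', Sw.w22_17, Sw.w22_17', Sw.w23_17, Sw.w23_17', Sw.w23_22, Sw.w23_22', Sw.w12_14, Sw.w12_14', Sw.w12_16, Sw.w12_16', Sw.w12_19, Sw.w12_19', Sw.w12_21, Sw.w12_21', Sw.w13_14, Sw.w13_14', Sw.w13_15, Sw.w13_15', Sw.w13_19, Sw.w13_19', Sw.w13_20, Sw.w13_20', Sw.w18_14, Sw.w18_14', Sw.w18_15, Sw.w18_15', Sw.w18_16, Sw.w18_16', Sw.w18_17, Sw.w18_17', Sw.w22_14, Sw.w22_14', Sw.w21_15, Sw.w21_15', Sw.w20_16, Sw.w20_16', Sw.w17_19, Sw.w17_19', Sw.add, Sw.add', mul_assoc]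
      simp only [nrm, Subring.coe_mul, Subfield.coe_mul, map_neg, map_mul, θE θ, θ3 θ hK hθ]
      ring_nf)
  exact ⟨c, by rw [← hc, inv_mul_cancel_right]⟩

theorem conj_aa (s a : K) : ∃ c, U1 s * AA a = AA a * BB (-(θ s * θ (θ a) + θ (θ s) * θ a)) *
    X3 (-tr θ hK hθ (a * θ s * θ (θ s))) * ZZ c * U1 s := by
  obtain ⟨c, hc⟩ := eq_mul_zz X θ P₀ h₀ (U1 s * AA a * (U1 s)⁻¹)
    (AA a * BB (-(θ s * θ (θ a) + θ (θ s) * θ a)) * X3 (-tr θ hK hθ (a * θ s * θ (θ s))))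
    (θ (θ s) * (-θ a * a) + (θ s * (-θ (θ a) * a) + -(s * -θ (θ a)) * -θ a)) (by
      simp only [Subgroup.coe_mul, Subgroup.coe_inv]
      rw [mul_inv_eq_iff_eq_mul, coe_u1 X θ P₁ h₁, coe_aa X θ P₁ h₁, coe_bb X θ P₁ h₁, coe_x3 X θ P₀ h₀]
      simp only [Sw.w12_15, Sw.w12_15', Sw.w12_20, Sw.w12_20', Sw.w12_17, Sw.w12_17', Sw.w12_22, Sw.w12_22', Sw.w12_23, Sw.w12_23', Sw.w13_16, Sw.w13_16', Sw.w13_21, Sw.w13_21', Sw.w13_17, Sw.w13_17', Sw.w13_22, Sw.w13_22', Sw.w13_23, Sw.w13_23', Sw.w18_19, Sw.w18_19', Sw.w18_21, Sw.w18_21', Sw.w18_20, Sw.w18_20', Sw.w18_22, Sw.w18_22', Sw.w18_23, Sw.w18_23', Sw.w15_14, Sw.w15_14', Sw.w16_14, Sw.w16_14', Sw.w19_14, Sw.w19_14', Sw.w21_14, Sw.w21_14', Sw.w20_14, Sw.w20_14', Sw.w17_14, Sw.w17_14', Sw.w23_14, Sw.w23_14', Sw.w16_15, Sw.w16_15', Sw.w19_15, Sw.w19_15', Sw.w20_15, Sw.w20_15', Sw.w17_15, Sw.w17_15',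 Sw.w22_15, Sw.w22_15', Sw.w23_15, Sw.w23_15', Sw.w19_16, Sw.w19_16', Sw.w21_16, Sw.w21_16', Sw.w17_16, Sw.w17_16', Sw.w22_16, Sw.w22_16', Sw.w23_16, Sw.w23_16', Sw.w21_19, Sw.w21_19', Sw.w20_19, Sw.w20_19', Sw.w22_19, Sw.w22_19', Sw.w23_19, Sw.w23_19', Sw.w20_21, Sw.w20_21', Sw.w17_21, Sw.w17_21', Sw.w22_21, Sw.w22_21', Sw.w23_21, Sw.w23_21', Sw.w17_20, Sw.w17_20', Sw.w22_20, Sw.w22_20', Sw.w23_20, Sw.w23_20', Sw.w22_17, Sw.w22_17', Sw.w23_17, Sw.w23_17', Sw.w23_22, Sw.w23_22', Sw.w12_14, Sw.w12_14', Sw.w12_16, Sw.w12_16', Sw.w12_19, Sw.w12_19', Sw.w12_21, Sw.w12_21', Sw.w13_14, Sw.w13_14', Sw.w13_15, Sw.w13_15', Sw.w13_19, Sw.w13_19', Sw.w13_20, Sw.w13_20', Sw.w18_14, Sw.w18_14', Sw.w18_15, Sw.w18_15', Sw.w18_16, Sw.w18_16', Sw.w18_17, Sw.w18_17', Sw.w22_14, Sw.w22_14', Sw.w21_15, Sw.w21_15', Sw.w20_16, Sw.w20_16', Sw.w17_19, Sw.w17_19',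 Sw.add, Sw.add', mul_assoc]
      simp only [tr, NegMemClass.coe_neg, map_neg, map_mul, map_add, θ3 θ hK hθ]
      ring_nf)
  exact ⟨c, by rw [← hc, inv_mul_cancel_right]⟩

theorem conj_bb (s b : K) : U1 s * BB b = BB b * X3 (tr θ hK hθ (s * b)) * U1 s := Subtype.ext (by
  simp only [Subgroup.coe_mul]
  rw [coe_u1 X θ P₁ h₁, coe_bb X θ P₁ h₁, coe_x3 X θ P₀ h₀]
  simp only [Sw.w12_15, Sw.w12_15', Sw.w12_20, Sw.w12_20', Sw.w12_17, Sw.w12_17', Sw.w12_22, Sw.w12_22', Sw.w12_23, Sw.w12_23', Sw.w13_16, Sw.w13_16', Sw.w13_21, Sw.w13_21', Sw.w13_17, Sw.w13_17', Sw.w13_22, Sw.w13_22', Sw.w13_23, Sw.w13_23', Sw.w18_19, Sw.w18_19', Sw.w18_21, Sw.w18_21', Sw.w18_20, Sw.w18_20', Sw.w18_22, Sw.w18_22', Sw.w18_23, Sw.w18_23', Sw.w15_14, Sw.w15_14', Sw.w16_14, Sw.w16_14', Sw.w19_14, Sw.w19_14', Sw.w21_14, Sw.w21_14', Sw.w20_14, Sw.w20_14', Sw.w17_14, Sw.w17_14',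 Sw.w23_14, Sw.w23_14', Sw.w16_15, Sw.w16_15', Sw.w19_15, Sw.w19_15', Sw.w20_15, Sw.w20_15', Sw.w17_15, Sw.w17_15', Sw.w22_15, Sw.w22_15', Sw.w23_15, Sw.w23_15', Sw.w19_16, Sw.w19_16', Sw.w21_16, Sw.w21_16', Sw.w17_16, Sw.w17_16', Sw.w22_16, Sw.w22_16', Sw.w23_16, Sw.w23_16', Sw.w21_19, Sw.w21_19', Sw.w20_19, Sw.w20_19', Sw.w22_19, Sw.w22_19', Sw.w23_19, Sw.w23_19', Sw.w20_21, Sw.w20_21', Sw.w17_21, Sw.w17_21', Sw.w22_21, Sw.w22_21', Sw.w23_21, Sw.w23_21', Sw.w17_20, Sw.w17_20', Sw.w22_20, Sw.w22_20', Sw.w23_20, Sw.w23_20', Sw.w22_17, Sw.w22_17', Sw.w23_17, Sw.w23_17', Sw.w23_22, Sw.w23_22', Sw.w12_14, Sw.w12_14', Sw.w12_16, Sw.w12_16', Sw.w12_19, Sw.w12_19', Sw.w12_21, Sw.w12_21', Sw.w13_14, Sw.w13_14', Sw.w13_15, Sw.w13_15', Sw.w13_19, Sw.w13_19', Sw.w13_20, Sw.w13_20', Sw.w18_14, Sw.w18_14', Sw.w18_15, Sw.w18_15', Sw.w18_16, Sw.w18_16',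 Sw.w18_17, Sw.w18_17', Sw.w22_14, Sw.w22_14', Sw.w21_15, Sw.w21_15', Sw.w20_16, Sw.w20_16', Sw.w17_19, Sw.w17_19', Sw.add, Sw.add', mul_assoc]
  simp only [tr, map_neg, map_mul]
  ring_nf)

theorem bb_aa (a b : K) : BB b * AA a = AA a * BB b * ZZ (-tr θ hK hθ (a * b)) := Subtype.ext (by
  simp only [Subgroup.coe_mul]
  rw [coe_aa X θ P₁ h₁, coe_bb X θ P₁ h₁, coe_zz X θ P₀ h₀]
  simp only [Sw.w12_15, Sw.w12_15', Sw.w12_20, Sw.w12_20', Sw.w12_17, Sw.w12_17', Sw.w12_22, Sw.w12_22', Sw.w12_23, Sw.w12_23', Sw.w13_16, Sw.w13_16', Sw.w13_21, Sw.w13_21', Sw.w13_17, Sw.w13_17', Sw.w13_22, Sw.w13_22', Sw.w13_23, Sw.w13_23', Sw.w18_19, Sw.w18_19', Sw.w18_21, Sw.w18_21', Sw.w18_20, Sw.w18_20', Sw.w18_22, Sw.w18_22', Sw.w18_23, Sw.w18_23', Sw.w15_14, Sw.w15_14', Sw.w16_14, Sw.w16_14', Sw.w19_14, Sw.w19_14', Sw.w21_14, Sw.w21_14', Sw.w20_14, Sw.w20_14',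 Sw.w17_14, Sw.w17_14', Sw.w23_14, Sw.w23_14', Sw.w16_15, Sw.w16_15', Sw.w19_15, Sw.w19_15', Sw.w20_15, Sw.w20_15', Sw.w17_15, Sw.w17_15', Sw.w22_15, Sw.w22_15', Sw.w23_15, Sw.w23_15', Sw.w19_16, Sw.w19_16', Sw.w21_16, Sw.w21_16', Sw.w17_16, Sw.w17_16', Sw.w22_16, Sw.w22_16', Sw.w23_16, Sw.w23_16', Sw.w21_19, Sw.w21_19', Sw.w20_19, Sw.w20_19', Sw.w22_19, Sw.w22_19', Sw.w23_19, Sw.w23_19', Sw.w20_21, Sw.w20_21', Sw.w17_21, Sw.w17_21', Sw.w22_21, Sw.w22_21', Sw.w23_21, Sw.w23_21', Sw.w17_20, Sw.w17_20', Sw.w22_20, Sw.w22_20', Sw.w23_20, Sw.w23_20', Sw.w22_17, Sw.w22_17', Sw.w23_17, Sw.w23_17', Sw.w23_22, Sw.w23_22', Sw.w12_14, Sw.w12_14', Sw.w12_16, Sw.w12_16', Sw.w12_19, Sw.w12_19', Sw.w12_21, Sw.w12_21', Sw.w13_14, Sw.w13_14', Sw.w13_15, Sw.w13_15', Sw.w13_19, Sw.w13_19', Sw.w13_20, Sw.w13_20', Sw.w18_14, Sw.w18_14', Sw.w18_15, Sw.w18_15',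 Sw.w18_16, Sw.w18_16', Sw.w18_17, Sw.w18_17', Sw.w22_14, Sw.w22_14', Sw.w21_15, Sw.w21_15', Sw.w20_16, Sw.w20_16', Sw.w17_19, Sw.w17_19', Sw.add, Sw.add', mul_assoc]
  simp only [tr, NegMemClass.coe_neg, map_neg, map_mul]
  ring_nf)

theorem xb_x3 (t t' : E₀ q θ) : XB t * X3 t' = X3 t' * XB t * ZZ (t * t') := Subtype.ext (by
  simp only [Subgroup.coe_mul]
  rw [coe_xb X θ P₀ h₀, coe_x3 X θ P₀ h₀, coe_zz X θ P₀ h₀]
  simp only [Sw.w12_15, Sw.w12_15', Sw.w12_20, Sw.w12_20', Sw.w12_17, Sw.w12_17', Sw.w12_22, Sw.w12_22', Sw.w12_23, Sw.w12_23', Sw.w13_16, Sw.w13_16', Sw.w13_21, Sw.w13_21', Sw.w13_17, Sw.w13_17', Sw.w13_22, Sw.w13_22', Sw.w13_23, Sw.w13_23', Sw.w18_19, Sw.w18_19', Sw.w18_21, Sw.w18_21', Sw.w18_20, Sw.w18_20', Sw.w18_22, Sw.w18_22', Sw.w18_23, Sw.w18_23', Sw.w15_14, Sw.w15_14', Sw.w16_14, Sw.w16_14', Sw.w19_14, Sw.w19_14', Sw.w21_14,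 Sw.w21_14', Sw.w20_14, Sw.w20_14', Sw.w17_14, Sw.w17_14', Sw.w23_14, Sw.w23_14', Sw.w16_15, Sw.w16_15', Sw.w19_15, Sw.w19_15', Sw.w20_15, Sw.w20_15', Sw.w17_15, Sw.w17_15', Sw.w22_15, Sw.w22_15', Sw.w23_15, Sw.w23_15', Sw.w19_16, Sw.w19_16', Sw.w21_16, Sw.w21_16', Sw.w17_16, Sw.w17_16', Sw.w22_16, Sw.w22_16', Sw.w23_16, Sw.w23_16', Sw.w21_19, Sw.w21_19', Sw.w20_19, Sw.w20_19', Sw.w22_19, Sw.w22_19', Sw.w23_19, Sw.w23_19', Sw.w20_21, Sw.w20_21', Sw.w17_21, Sw.w17_21', Sw.w22_21, Sw.w22_21', Sw.w23_21, Sw.w23_21', Sw.w17_20, Sw.w17_20', Sw.w22_20, Sw.w22_20', Sw.w23_20, Sw.w23_20', Sw.w22_17, Sw.w22_17', Sw.w23_17, Sw.w23_17', Sw.w23_22, Sw.w23_22', Sw.w12_14, Sw.w12_14', Sw.w12_16, Sw.w12_16', Sw.w12_19, Sw.w12_19', Sw.w12_21, Sw.w12_21', Sw.w13_14, Sw.w13_14', Sw.w13_15, Sw.w13_15', Sw.w13_19, Sw.w13_19', Sw.w13_20, Sw.w13_20', Sw.w18_14,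 Sw.w18_14', Sw.w18_15, Sw.w18_15', Sw.w18_16, Sw.w18_16', Sw.w18_17, Sw.w18_17', Sw.w22_14, Sw.w22_14', Sw.w21_15, Sw.w21_15', Sw.w20_16, Sw.w20_16', Sw.w17_19, Sw.w17_19', Sw.add, Sw.add', mul_assoc]
  simp only [Subfield.coe_mul]
  ring_nf
  simp [xg_zero hC])

theorem comms : (∀ s t, Commute (ZZ s) (XB t)) ∧ (∀ s t, Commute (ZZ s) (X3 t)) ∧
    (∀ s t, Commute (ZZ s) (AA t)) ∧ (∀ s t, Commute (ZZ s) (BB t)) ∧ (∀ s t, Commute (ZZ s) (U1 t)) ∧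
    (∀ s t, Commute (AA s) (XB t)) ∧ (∀ s t, Commute (AA s) (X3 t)) ∧ (∀ s t, Commute (AA s) (AA t)) ∧
    (∀ s t, Commute (BB s) (XB t)) ∧ (∀ s t, Commute (BB s) (X3 t)) ∧ (∀ s t, Commute (BB s) (BB t)) ∧
    (∀ s t, Commute (U1 s) (X3 t)) := by
  refine ⟨?_, ?_, ?_, ?_, ?_, ?_, ?_, ?_, ?_, ?_, ?_, ?_⟩ <;> intro s t <;>
    refine Subtype.ext ?_ <;>
    simp only [Subgroup.coe_mul, coe_xb X θ P₀ h₀, coe_u1 X θ P₁ h₁, coe_aa X θ P₁ h₁, coe_bb X θ P₁ h₁,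
      coe_x3 X θ P₀ h₀, coe_zz X θ P₀ h₀, Sw.w12_15, Sw.w12_15', Sw.w12_20, Sw.w12_20', Sw.w12_17, Sw.w12_17', Sw.w12_22, Sw.w12_22', Sw.w12_23, Sw.w12_23', Sw.w13_16, Sw.w13_16', Sw.w13_21, Sw.w13_21', Sw.w13_17, Sw.w13_17', Sw.w13_22, Sw.w13_22', Sw.w13_23, Sw.w13_23', Sw.w18_19, Sw.w18_19', Sw.w18_21, Sw.w18_21', Sw.w18_20, Sw.w18_20', Sw.w18_22, Sw.w18_22', Sw.w18_23, Sw.w18_23', Sw.w15_14, Sw.w15_14', Sw.w16_14, Sw.w16_14', Sw.w19_14, Sw.w19_14', Sw.w21_14, Sw.w21_14', Sw.w20_14, Sw.w20_14', Sw.w17_14, Sw.w17_14', Sw.w23_14, Sw.w23_14', Sw.w16_15, Sw.w16_15', Sw.w19_15, Sw.w19_15', Sw.w20_15, Sw.w20_15', Sw.w17_15, Sw.w17_15', Sw.w22_15, Sw.w22_15', Sw.w23_15, Sw.w23_15', Sw.w19_16, Sw.w19_16', Sw.w21_16, Sw.w21_16', Sw.w17_16, Sw.w17_16', Sw.w22_16, Sw.w22_16', Sw.w23_16, Sw.w23_16', Sw.w21_19, Sw.w21_19', Sw.w20_19, Sw.w20_19', Sw.w22_19,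 Sw.w22_19', Sw.w23_19, Sw.w23_19', Sw.w20_21, Sw.w20_21', Sw.w17_21, Sw.w17_21', Sw.w22_21, Sw.w22_21', Sw.w23_21, Sw.w23_21', Sw.w17_20, Sw.w17_20', Sw.w22_20, Sw.w22_20', Sw.w23_20, Sw.w23_20', Sw.w22_17, Sw.w22_17', Sw.w23_17, Sw.w23_17', Sw.w23_22, Sw.w23_22', Sw.w12_14, Sw.w12_14', Sw.w12_16, Sw.w12_16', Sw.w12_19, Sw.w12_19', Sw.w12_21, Sw.w12_21', Sw.w13_14, Sw.w13_14', Sw.w13_15, Sw.w13_15', Sw.w13_19, Sw.w13_19', Sw.w13_20, Sw.w13_20', Sw.w18_14, Sw.w18_14', Sw.w18_15, Sw.w18_15', Sw.w18_16, Sw.w18_16', Sw.w18_17, Sw.w18_17', Sw.w22_14, Sw.w22_14', Sw.w21_15, Sw.w21_15', Sw.w20_16, Sw.w20_16', Sw.w17_19, Sw.w17_19', Sw.add, Sw.add', mul_assoc] <;>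
    ring_nf

theorem adds : (∀ s t, AA (s + t) = AA s * AA t) ∧ (∀ s t, BB (s + t) = BB s * BB t) ∧
    (∀ s t, X3 (s + t) = X3 s * X3 t) ∧ ∀ s t, ZZ (s + t) = ZZ s * ZZ t := by
  have a1 : ∀ s t, AA (s + t) = AA s * AA t := fun s t => by
    simp only [aa]; rw [show U1 (s + t) = U1 s * U1 t from xp_add X.O X.gen X.π_eq (hOr X) (k1 X) P₁ s t]; group
  have a3 : ∀ s t, X3 (s + t) = X3 s * X3 t := fun s t => by
    simp only [x3]; rw [show XB (s + t) = XB s * XB t from xp_add X.O X.gen X.π_eq (hOr X) (k0 X) P₀ s t]; group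
  exact ⟨a1, fun s t => by simp only [bb]; rw [a1]; group, a3, fun s t => by simp only [zz]; rw [a3]; group⟩

/-- The torus elements. -/
theorem exists_tor (s t : Kˣ) (hs : Θu θ s = s) : ∃ τ : twistedD4 K q,
    (τ : GL chevD4.Idx K) = tor chevD4 (dvec θ s t) ∧
    ∀ (P R : K), P = (s : K) ^ 2 * ((t : K) * θ t * θ (θ t))⁻¹ → R = (t : K) ^ 2 * (s : K)⁻¹ →
      ∀ hP : P ∈ E₀ q θ,
      (∀ v, τ * XB v * τ⁻¹ = XB (⟨P, hP⟩ * v)) ∧ (∀ v, τ * U1 v * τ⁻¹ = U1 (R * v)) ∧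
      (∀ v, τ * AA v * τ⁻¹ = AA (P * R * v)) ∧ (∀ v, τ * BB v * τ⁻¹ = BB (P * θ R * θ (θ R) * v)) ∧
      (∀ v, τ * X3 v * τ⁻¹ = X3 (⟨P, hP⟩ * nrm θ hK hθ R * v)) ∧
      ∀ v, τ * ZZ v * τ⁻¹ = ZZ (⟨P, hP⟩ ^ 2 * nrm θ hK hθ R * v) := by
  refine ⟨⟨_, tor_dvec_mem X θ hθ s t hs⟩, rfl, fun P R hPd hRd hP => ?_⟩
  have hr : chevD4.rank = 4 := by decide
  have c14 : (torChar chevD4 (dvec θ s t) 14 : K) = P := by
    rw [← simple_vals.2.1, (dvec_chars θ s t).1, hPd]; simp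
  have c18 : (torChar chevD4 (dvec θ s t) 18 : K) = R := by
    rw [← simple_vals.1, (dvec_chars θ s t).2, hRd]; simp
  have hθs : θ (s : K) = s := congrArg Units.val hs
  have c13 : (torChar chevD4 (dvec θ s t) 13 : K) = θ R := by
    rw [← simple_vals.2.2.1, hRd]
    simp [torChar, hr, Finset.prod_range_succ, dvec, cartan_vals 2 (by decide), zpow_ofNat, hθs]
    ring
  have c12 : (torChar chevD4 (dvec θ s t) 12 : K) = θ (θ R) := by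
    rw [← simple_vals.2.2.2, hRd]
    simp [torChar, hr, Finset.prod_range_succ, dvec, cartan_vals 3 (by decide), zpow_ofNat, hθs]
    ring
  have cs := fun p hp => char_sum (dvec θ s t) (cart_sum p hp)
  have c19 : (torChar chevD4 (dvec θ s t) 19 : K) = P * R := by
    rw [cs (19, 14, 18) (by simp), Units.val_mul, c14, c18]
  have c16 : (torChar chevD4 (dvec θ s t) 16 : K) = P * θ R := by
    rw [cs (16, 14, 13) (by simp), Units.val_mul, c14, c13]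
  have c15 : (torChar chevD4 (dvec θ s t) 15 : K) = P * θ (θ R) := by
    rw [cs (15, 14, 12) (by simp), Units.val_mul, c14, c12]
  have c17 : (torChar chevD4 (dvec θ s t) 17 : K) = P * θ R * θ (θ R) := by
    rw [cs (17, 16, 12) (by simp), Units.val_mul, c16, c12]
  have c21 : (torChar chevD4 (dvec θ s t) 21 : K) = P * R * θ R := by
    rw [cs (21, 16, 18) (by simp), Units.val_mul, c16, c18]; ring
  have c20 : (torChar chevD4 (dvec θ s t) 20 : K) = P * R * θ (θ R) := by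
    rw [cs (20, 15, 18) (by simp), Units.val_mul, c15, c18]; ring
  have c22 : (torChar chevD4 (dvec θ s t) 22 : K) = P * (R * θ R * θ (θ R)) := by
    rw [cs (22, 17, 18) (by simp), Units.val_mul, c17, c18]; ring
  have c23 : (torChar chevD4 (dvec θ s t) 23 : K) = P * P * (R * θ R * θ (θ R)) := by
    rw [cs (23, 22, 14) (by simp), Units.val_mul, c22, c14]; ring
  have hθP : θ P = P := hP
  have cj : ∀ r ∈ [12, 13, 14, 15, 16, 17, 18, 19, 20, 21, 22, 23], ∀ u : K,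
      (MulAut.conj (tor chevD4 (dvec θ s t))) (xg hC r u) =
        xg hC r ((torChar chevD4 (dvec θ s t) r : K) * u) :=
    fun r hr u => tor_conj_x hC _ r u (roots_lt r hr)
  refine ⟨fun v => ?_, fun v => ?_, fun v => ?_, fun v => ?_, fun v => ?_, fun v => ?_⟩ <;>
    refine Subtype.ext ?_ <;> simp only [Subgroup.coe_mul, Subgroup.coe_inv] <;>
    rw [← MulAut.conj_apply]
  · rw [coe_xb X θ P₀ h₀, coe_xb X θ P₀ h₀, cj 14 (by simp), c14]; rfl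
  · rw [coe_u1 X θ P₁ h₁, coe_u1 X θ P₁ h₁, map_mul, map_mul, cj 12 (by simp), cj 13 (by simp),
      cj 18 (by simp), c12, c13, c18, map_mul θ, map_mul θ]
  · rw [coe_aa X θ P₁ h₁, coe_aa X θ P₁ h₁, map_mul, map_mul, cj 15 (by simp), cj 16 (by simp),
      cj 19 (by simp), c15, c16, c19]
    simp only [map_mul, hθP, mul_neg]
  · rw [coe_bb X θ P₁ h₁, coe_bb X θ P₁ h₁, map_mul, map_mul, cj 21 (by simp), cj 20 (by simp),
      cj 17 (by simp), c21, c20, c17]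
    simp only [map_mul, hθP, θ3 θ hK hθ]
    ring_nf
  · rw [coe_x3 X θ P₀ h₀, coe_x3 X θ P₀ h₀, cj 22 (by simp), c22]
    simp [nrm, mul_assoc]
  · rw [coe_zz X θ P₀ h₀, coe_zz X θ P₀ h₀, cj 23 (by simp), c23]
    simp [nrm, sq, mul_assoc]

end Cfsg.Agent.TwistMult.D4
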