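import Cfsg.Agent.Lib.TwistMult.RadLift

/-!
Complements over the unipotent group of a special radical and its rank one part.
-/

set_option autoImplicit false
set_option linter.unusedSectionVars false

namespace Cfsg.Agent.TwistMult.Rad

open scoped commutatorElement
open Cfsg.Agent.Chevalley.Cover

universe u v w w'

variable {E : Type u} {G : Type v} [Group E] [Group G] {π : E →* G} (C : Cen π) {p : ℕ}
  {E₀ : Type w} [Field E₀] [CharP E₀ p] {K : Type w'} [Field K] (R : Rad p G E₀ K)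
include C

/-- A homomorphic lift of the rank one part. -/
theorem exists_section [Fintype K] [CharP K p] [Fact p.Prime]
    (hbig : if p = 2 then 4 < Fintype.card K else 10 < Fintype.card K) :
    ∃ e : K → E, (∀ s t, e (s + t) = e s * e t) ∧ ∀ s, π (e s) = R.u1 s := by
  letI : CommGroup (Subgroup.center E) :=
    { (inferInstance : Group (Subgroup.center E)) with
      mul_comm := fun a b => Subtype.ext (Subgroup.mem_center_iff.1 b.2 a.1) }
  have hcu : ∀ s t, Commute (R.u1 s) (R.u1 t) := fun s t =>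
    show R.u1 s * R.u1 t = R.u1 t * R.u1 s by rw [← R.u1_add, add_comm, R.u1_add]
  let c : K → K → Subgroup.center E := fun x y =>
    ⟨cl C (R.u1 x) (R.u1 y), C.cen (cl_ker C (hcu x y))⟩
  have h0 : ∀ x y, cl C (R.u1 x) (R.u1 y) = 1 := fun x y => congrArg Subtype.val
    (Cfsg.Agent.SimpleFacts.SLTwoMultiplier.pairing_trivial c
      (fun x y z => Subtype.ext (by
        show cl C (R.u1 (x + y)) (R.u1 z) = cl C (R.u1 x) (R.u1 z) * cl C (R.u1 y) (R.u1 z)
        rw [R.u1_add, cl_add_left C (hcu y z)]))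
      (fun x y => Subtype.ext (commutatorElement_inv (lft C (R.u1 x)) (lft C (R.u1 y))).symm)
      (fun a x y ha => Subtype.ext (by
        obtain ⟨g, hg⟩ := R.sq a ha
        show cl C (R.u1 (a * a * x)) (R.u1 (a * a * y)) = cl C (R.u1 x) (R.u1 y)
        rw [← hg x, ← hg y]
        have e := cl_conj C (lft C g) (R.u1 x) (R.u1 y)
        rw [π_lft] at e
        rw [← e, ← (ker_central C (cl_ker C (hcu x y)) _).eq, mul_inv_cancel_right])) p hbig x y)
  let D : K → E := fun s => ⁅lft C R.h, lft C (R.u1 s)⁆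
  have hD : ∀ s, π (D s) = R.u1 ((R.α - 1) * s) := fun s => by
    show π ⁅lft C R.h, lft C (R.u1 s)⁆ = _
    rw [map_commutatorElement, π_lft, π_lft, commutatorElement_def, R.hu, ← map_neg' R.u1_add, ← R.u1_add]
    congr 1
    ring
  have hDadd : ∀ s t, D (s + t) = D s * D t := fun s t => by
    show ⁅lft C R.h, lft C (R.u1 (s + t))⁆ = _
    rw [Lift.comm_congr C.cen (a' := lft C R.h) (b' := lft C (R.u1 s) * lft C (R.u1 t)) rfl
      (by rw [map_mul, π_lft, π_lft, π_lft, R.u1_add]), Lift.comm_mul_right]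
    rw [show lft C (R.u1 s) * D t * (lft C (R.u1 s))⁻¹ = D t by
      rw [(commute_of_cl C (h0 s _) (π_lft C _) (hD t)).eq, mul_inv_cancel_right]]
  have hα : R.α - 1 ≠ 0 := sub_ne_zero.2 R.α1
  refine ⟨fun s => D (s / (R.α - 1)), fun s t => by
    show D ((s + t) / (R.α - 1)) = D (s / (R.α - 1)) * D (t / (R.α - 1))
    rw [add_div, hDadd], fun s => ?_⟩
  rw [hD, mul_div_cancel₀ _ hα]

theorem comm_C1 {X Y : E} (hX : π X ∈ R.Q) (hY : π Y ∈ R.Q) : ⁅X, Y⁆ ∈ R.C1 C := by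
  rw [cl_eq C]; exact R.cl_mem C hX hY

theorem C1_Q {X x : E} (hX : π X ∈ R.Q) (hx : x ∈ R.C1 C) : Commute X x := by
  obtain ⟨c, hc⟩ := R.C1_image C hx
  exact R.lift_z_commute C hX rfl hc

theorem C1_le {x : E} (hx : x ∈ R.C1 C) : π x ∈ R.Q := by
  obtain ⟨c, hc⟩ := R.C1_image C hx
  exact hc ▸ R.zz_mem c

/-- A complement over the radical invariant under the section gives one over the whole group. -/
theorem assemble {W : Subgroup E} (hW : W.map π = R.Q) (hinj : W ⊓ π.ker = ⊥) (e : K → E)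
    (he : ∀ s t, e (s + t) = e s * e t) (hπe : ∀ s, π (e s) = R.u1 s)
    (hinv : ∀ s, ∀ x ∈ W, e s * x * (e s)⁻¹ ∈ W) :
    ∃ U : Subgroup E, U ⊓ π.ker = ⊥ ∧ U.map π = R.Q ⊔ Subgroup.closure (Set.range R.u1) := by
  have he0 : e 0 = 1 := map_zero' he
  let W1 : Subgroup E :=
    { carrier := Set.range e
      one_mem' := ⟨0, he0⟩
      mul_mem' := fun {x y} ⟨s, hs⟩ ⟨t, ht⟩ => ⟨s + t, by rw [he, hs, ht]⟩
      inv_mem' := fun {x} ⟨s, hs⟩ => ⟨-s, by rw [map_neg' he, hs]⟩ }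
  have hnorm : W1 ≤ Subgroup.normalizer (W : Set E) := by
    rintro g ⟨s, rfl⟩
    rw [Subgroup.mem_normalizer_iff]
    refine fun x => ⟨hinv s x, fun hx => ?_⟩
    have := hinv (-s) _ hx
    rwa [map_neg' he, inv_inv, show (e s)⁻¹ * (e s * x * (e s)⁻¹) * e s = x by group] at this
  refine ⟨W ⊔ W1, ?_, ?_⟩
  · rw [eq_bot_iff]
    rintro z ⟨hz, hk⟩
    have hz2 : z ∈ ((W ⊔ W1 : Subgroup E) : Set E) := hz
    rw [Subgroup.coe_mul_of_right_le_normalizer_left W W1 hnorm] at hz2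
    obtain ⟨a, ha, b, ⟨s, rfl⟩, rfl⟩ := hz2
    have hk' : π a * R.u1 s = 1 := by rw [← hπe, ← map_mul]; exact hk
    have hu : R.u1 s ∈ R.Q := by
      rw [eq_inv_of_mul_eq_one_right hk']
      exact inv_mem (hW ▸ Subgroup.mem_map_of_mem π ha)
    have hu1 := R.disj s hu
    have ha1 : a ∈ W ⊓ π.ker := Subgroup.mem_inf.2 ⟨ha, MonoidHom.mem_ker.2 (by rwa [hu1, mul_one] at hk')⟩
    rw [hinj, Subgroup.mem_bot] at ha1
    -- the section is injective on its kernel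
    have hs : e s = 1 := by
      by_cases hs0 : s = 0
      · rw [hs0, he0]
      · exfalso
        have h1 : R.u1 s = R.u1 0 := by rw [hu1, map_zero' R.u1_add]
        exact hs0 (R.u1_inj h1)
    show a * e s ∈ (⊥ : Subgroup E)
    rw [ha1, hs, one_mul]
    exact one_mem _
  · rw [Subgroup.map_sup, hW]
    congr 1
    refine le_antisymm (fun y hy => ?_) ((Subgroup.closure_le _).2 ?_)
    · obtain ⟨x, ⟨s, rfl⟩, rfl⟩ := hy
      exact Subgroup.subset_closure ⟨s, (hπe s).symm⟩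
    · rintro _ ⟨s, rfl⟩
      exact ⟨e s, ⟨s, rfl⟩, hπe s⟩

/-- The complement when a scalar torus element exists. -/
theorem split_scalar [Fintype K] [CharP K p] [Fact p.Prime] [Finite G]
    (hbig : if p = 2 then 4 < Fintype.card K else 10 < Fintype.card K) (Z : Scalar R) :
    ∃ U : Subgroup E, U ⊓ π.ker = ⊥ ∧ U.map π = R.Q ⊔ Subgroup.closure (Set.range R.u1) := by
  classical
  obtain ⟨e, he, hπe⟩ := R.exists_section C hbig
  obtain ⟨z, hzd⟩ : ∃ z, z = lft C Z.ζ := ⟨_, rfl⟩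
  have hz : π z = Z.ζ := hzd ▸ π_lft C _
  have hζQ : ∀ x ∈ R.Q, Z.ζ * x * Z.ζ⁻¹ ∈ R.Q := fun x hx => by
    refine R.induction_Q (P := fun x => Z.ζ * x * Z.ζ⁻¹ ∈ R.Q) (fun t => ?_) (fun t => ?_) (fun t => ?_)
      (fun t => ?_) (fun t => ?_) (by rw [mul_one, mul_inv_cancel]; exact one_mem _)
      (fun a b _ _ ha hb => by
        rw [show Z.ζ * (a * b) * Z.ζ⁻¹ = Z.ζ * a * Z.ζ⁻¹ * (Z.ζ * b * Z.ζ⁻¹) by group]
        exact mul_mem ha hb) hx
    · rw [Z.sb]; exact R.xb_mem _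
    · rw [Z.s3]; exact R.x3_mem _
    · rw [Z.sz]; exact R.zz_mem _
    · rw [Z.sa]; exact R.aa_mem _
    · rw [Z.sB]; exact R.bb_mem _
  have hcomQ : ∀ {x : E}, π x ∈ R.Q → π ⁅z, x⁆ ∈ R.Q := fun {x} hx => by
    rw [map_commutatorElement, hz, commutatorElement_def]
    exact mul_mem (hζQ _ hx) (inv_mem hx)
  have hC1z : ∀ x ∈ R.C1 C, ⁅z, x⁆ ∈ R.C1 C := fun x hx => by
    obtain ⟨t, rfl⟩ := hx
    have e1 : z * R.φ C t * z⁻¹ ∈ R.C1 C := by
      rw [φ, cl_conj C, hz, Z.sb, Z.s3]; exact R.cl_b3 C _ _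
    rw [commutatorElement_def]
    exact mul_mem e1 (inv_mem (R.φ_mem C t))
  let W : Subgroup E :=
    { carrier := {w | ∃ x c, π x ∈ R.Q ∧ c ∈ R.C1 C ∧ w = ⁅z, x⁆ * c}
      one_mem' := ⟨1, 1, by rw [map_one]; exact one_mem _, one_mem _, by
        rw [commutatorElement_one_right, mul_one]⟩
      mul_mem' := by
        rintro _ _ ⟨x, c, hx, hc, rfl⟩ ⟨y, d, hy, hd, rfl⟩
        refine ⟨x * y, ⁅x, ⁅z, y⁆⁆⁻¹ * c * d, by rw [map_mul]; exact mul_mem hx hy,
          mul_mem (mul_mem (inv_mem (R.comm_C1 C hx (hcomQ hy))) hc) hd, ?_⟩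
        have h1 := R.comm_C1 C hx (hcomQ hy)
        have h2 := R.C1_Q C (hcomQ hy) hc
        have h3 := R.C1_Q C (hcomQ hy) h1
        calc ⁅z, x⁆ * c * (⁅z, y⁆ * d) = ⁅z, x⁆ * (c * ⁅z, y⁆) * d := by group
          _ = ⁅z, x⁆ * ⁅z, y⁆ * c * d := by rw [← h2.eq]; group
          _ = _ := by
            rw [Lift.comm_mul_right, show x * ⁅z, y⁆ * x⁻¹ = ⁅x, ⁅z, y⁆⁆ * ⁅z, y⁆ by
              simp only [commutatorElement_def]; group, ← h3.eq]
            group
      inv_mem' := by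
        rintro _ ⟨x, c, hx, hc, rfl⟩
        have hx' : π x⁻¹ ∈ R.Q := by rw [map_inv]; exact inv_mem hx
        have h1 := R.comm_C1 C hx' (hcomQ hx)
        refine ⟨x⁻¹, c⁻¹ * ⁅x⁻¹, ⁅z, x⁆⁆, hx', mul_mem (inv_mem hc) h1, ?_⟩
        have h2 := R.C1_Q C (hcomQ hx') (inv_mem hc)
        have h4 := R.C1_Q C (hcomQ hx) h1
        have e1 : ⁅z, x⁻¹⁆ = ⁅z, x⁆⁻¹ * ⁅x⁻¹, ⁅z, x⁆⁆⁻¹ := by
          simp only [commutatorElement_def]; group
        calc (⁅z, x⁆ * c)⁻¹ = c⁻¹ * ⁅z, x⁆⁻¹ := _root_.mul_inv_rev _ _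
          _ = c⁻¹ * (⁅z, x⁻¹⁆ * ⁅x⁻¹, ⁅z, x⁆⁆) := by rw [e1]; group
          _ = _ := by rw [← mul_assoc, ← h2.eq]; group }
  have hC1W : R.C1 C ≤ W := fun c hc => ⟨1, c, by rw [map_one]; exact one_mem _, hc, by
    rw [commutatorElement_one_right, one_mul]⟩
  have hmap : W.map π = R.Q := by
    refine le_antisymm ?_ ?_
    · rintro _ ⟨_, ⟨x, c, hx, hc, rfl⟩, rfl⟩
      rw [map_mul]; exact mul_mem (hcomQ hx) (R.C1_le C hc)
    · rw [R.hQ, Subgroup.closure_le]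
      have key : ∀ {g : G}, g ∈ R.Q → ∀ {y}, ⁅Z.ζ, g⁆ = y → y ∈ W.map π := fun {g} hg {y} h =>
        ⟨⁅z, lft C g⁆ * 1, ⟨lft C g, 1, by rw [π_lft]; exact hg, one_mem _, rfl⟩, by
          rw [mul_one, map_commutatorElement, hz, π_lft, h]⟩
      rintro y ((((⟨t, rfl⟩ | ⟨t, rfl⟩) | ⟨t, rfl⟩) | ⟨t, rfl⟩) | ⟨t, rfl⟩)
      · refine key (R.xb_mem (t / (Z.l₁ - 1))) ?_
        rw [commutatorElement_def, Z.sb, ← map_neg' R.xb_add, ← R.xb_add]
        congr 1
        have := sub_ne_zero.2 Z.l₁1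
        field_simp
        ring
      · refine key (R.x3_mem (t / (Z.l₃ - 1))) ?_
        rw [commutatorElement_def, Z.s3, ← map_neg' R.x3_add, ← R.x3_add]
        congr 1
        have := sub_ne_zero.2 Z.l₃1
        field_simp
        ring
      · obtain ⟨x, hx, e⟩ := R.C1_surj C t
        exact ⟨x, hC1W hx, e⟩
      · refine key (R.aa_mem (t / (Z.la - 1))) ?_
        rw [commutatorElement_def, Z.sa, ← map_neg' R.aa_add, ← R.aa_add]
        congr 1
        have := sub_ne_zero.2 Z.la1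
        field_simp
        ring
      · refine key (R.bb_mem (t / (Z.lb - 1))) ?_
        rw [commutatorElement_def, Z.sB, ← map_neg' R.bb_add, ← R.bb_add]
        congr 1
        have := sub_ne_zero.2 Z.lb1
        field_simp
        ring
  -- the induced map of the quotient of the radical by its centre part is injective
  let Zs : Subgroup R.Q :=
    { carrier := {x | ∃ c, (x : G) = R.zz c}
      one_mem' := ⟨0, (map_zero' R.zz_add).symm⟩
      mul_mem' := fun {x y} ⟨s, hs⟩ ⟨t, ht⟩ => ⟨s + t, by rw [R.zz_add, Subgroup.coe_mul, hs, ht]⟩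
      inv_mem' := fun {x} ⟨s, hs⟩ => ⟨-s, by rw [map_neg' R.zz_add, Subgroup.coe_inv, hs]⟩ }
  haveI : Zs.Normal := ⟨fun x ⟨c, hc⟩ g => ⟨c, by
    rw [Subgroup.coe_mul, Subgroup.coe_mul, Subgroup.coe_inv, hc, ← (R.z_central c g.2).eq,
      mul_inv_cancel_right]⟩⟩
  have hinj : W ⊓ π.ker = ⊥ := by
    let q : R.Q → R.Q ⧸ Zs := fun g => QuotientGroup.mk ⟨⁅Z.ζ, (g : G)⁆, by
      rw [commutatorElement_def]; exact mul_mem (hζQ _ g.2) (inv_mem g.2)⟩
    have hf : ∀ a b : R.Q, a⁻¹ * b ∈ Zs → q a = q b := by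
      rintro a b ⟨c, hc⟩
      rw [Subgroup.coe_mul, Subgroup.coe_inv, inv_mul_eq_iff_eq_mul] at hc
      refine QuotientGroup.eq.2 ⟨Z.μ * c + -c, ?_⟩
      rw [Subgroup.coe_mul, Subgroup.coe_inv]
      show ⁅Z.ζ, (a : G)⁆⁻¹ * ⁅Z.ζ, (b : G)⁆ = _
      rw [hc, Lift.comm_mul_right, inv_mul_cancel_left, R.zz_add, ← Z.sz, map_neg' R.zz_add,
        commutatorElement_def Z.ζ (R.zz c)]
      have hzq : Z.ζ * R.zz c * Z.ζ⁻¹ * (R.zz c)⁻¹ = R.zz (Z.μ * c + -c) := by
        rw [R.zz_add, ← Z.sz, map_neg' R.zz_add]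
      rw [hzq, ← (R.z_central _ a.2).eq, mul_inv_cancel_right, R.zz_add, ← Z.sz, map_neg' R.zz_add]
    let f : R.Q ⧸ Zs → R.Q ⧸ Zs := fun x => Quotient.liftOn' x q fun a b h =>
      hf a b (QuotientGroup.leftRel_apply.1 h)
    haveI : Finite (R.Q ⧸ Zs) := inferInstance
    have hsurj : Function.Surjective f := by
      intro y
      induction y using QuotientGroup.induction_on with
      | H g =>
        obtain ⟨w, ⟨x, c, hx, hc, rfl⟩, e⟩ := hmap.ge g.2
        refine ⟨QuotientGroup.mk ⟨π x, hx⟩, ?_⟩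
        show q ⟨π x, hx⟩ = _
        obtain ⟨d, hd⟩ := R.C1_image C hc
        refine QuotientGroup.eq.2 ⟨d, ?_⟩
        rw [Subgroup.coe_mul, Subgroup.coe_inv, inv_mul_eq_iff_eq_mul, ← e, map_mul, hd,
          map_commutatorElement, hz]
    have hfi : Function.Injective f := Finite.injective_iff_surjective.2 hsurj
    rw [eq_bot_iff]
    rintro w ⟨⟨x, c, hx, hc, rfl⟩, hk⟩
    obtain ⟨d, hd⟩ := R.C1_image C hc
    have hk' : ⁅Z.ζ, π x⁆ * R.zz d = 1 := by
      rw [← hz, ← map_commutatorElement, ← hd, ← map_mul]; exact hk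
    have e1 : f (QuotientGroup.mk ⟨π x, hx⟩) = f (QuotientGroup.mk (1 : R.Q)) := by
      show q ⟨π x, hx⟩ = q 1
      refine QuotientGroup.eq.2 ⟨d, ?_⟩
      rw [Subgroup.coe_mul, Subgroup.coe_inv]
      show ⁅Z.ζ, π x⁆⁻¹ * ⁅Z.ζ, (1 : G)⁆ = _
      rw [commutatorElement_one_right, mul_one]
      exact inv_eq_of_mul_eq_one_right hk'
    obtain ⟨c', hc'⟩ := QuotientGroup.eq.1 (hfi e1)
    rw [Subgroup.coe_mul, Subgroup.coe_inv, Subgroup.coe_one, mul_one] at hc'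
    obtain ⟨x', hx', ex⟩ := R.C1_surj C (-c')
    have e2 : ⁅z, x⁆ = ⁅z, x'⁆ := Lift.comm_congr C.cen rfl (by
      rw [ex, map_neg' R.zz_add, ← hc', inv_inv])
    have hw : ⁅z, x⁆ * c ∈ R.C1 C := e2 ▸ mul_mem (hC1z x' hx') hc
    exact R.C1_inj C hw hk
  refine R.assemble C hmap hinj e he hπe fun s w hw => ?_
  obtain ⟨x, c, hx, hc, rfl⟩ := hw
  have hcz : π (e s * z * (e s)⁻¹) = π z := by
    rw [map_mul, map_mul, map_inv, hπe, hz, ← (Z.su s).eq, mul_inv_cancel_right]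
  refine ⟨e s * x * (e s)⁻¹, c, ?_, hc, ?_⟩
  · rw [map_mul, map_mul, map_inv, hπe]; exact R.normU s _ hx
  · rw [show e s * (⁅z, x⁆ * c) * (e s)⁻¹ =
        ⁅e s * z * (e s)⁻¹, e s * x * (e s)⁻¹⁆ * (e s * c * (e s)⁻¹) by
      simp only [commutatorElement_def]; group,
      R.C1_commute C (R.cl_u1z C s) (hπe s) hc, Lift.comm_congr C.cen hcz rfl]

/-- The complement over a prime field of two elements. -/
theorem split_two [Fintype K] [Fintype E₀] [CharP K p] [Fact p.Prime] [Finite E] [Finite G]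
    (hbig : if p = 2 then 4 < Fintype.card K else 10 < Fintype.card K) (hE : Fintype.card E₀ = 2)
    (hconj : ∃ g c, g * R.zz c * g⁻¹ = R.xb 1)
    (hcard : 2 ^ Fintype.card K * Fintype.card E₀ ≤ Nat.card R.Q) :
    ∃ U : Subgroup E, U ⊓ π.ker = ⊥ ∧ U.map π = R.Q ⊔ Subgroup.closure (Set.range R.u1) := by
  classical
  obtain ⟨e, he, hπe⟩ := R.exists_section C hbig
  have hE2 : ∀ t : E₀, t = 0 ∨ t = 1 := by
    intro t
    by_contra hne
    rw [not_or] at hne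
    have : ({0, 1, t} : Finset E₀).card = 3 := by
      rw [Finset.card_insert_of_notMem (by simp [Ne.symm hne.1]),
        Finset.card_insert_of_notMem (by simp [Ne.symm hne.2]), Finset.card_singleton]
    have h := Finset.card_le_univ ({0, 1, t} : Finset E₀)
    omega
  have htwo : (1 : E₀) + 1 = 0 := by
    rcases hE2 (1 + 1) with h | h
    · exact h
    · exact absurd h (by simp)
  obtain ⟨g, c₀, hg⟩ := hconj
  obtain ⟨y, hy, hyπ⟩ := R.C1_surj C c₀
  obtain ⟨xh, hxh⟩ : ∃ xh, xh = lft C g * y * (lft C g)⁻¹ := ⟨_, rfl⟩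
  have hxπ : π xh = R.xb 1 := by rw [hxh, map_mul, map_mul, map_inv, π_lft, hyπ, hg]
  have hy2 : y * y = 1 := by
    obtain ⟨t, rfl⟩ := hy
    rw [← R.φ_add C, show t + t = 0 by rcases hE2 t with rfl | rfl <;> simp [htwo], map_zero' (R.φ_add C)]
  have hx2 : xh * xh = 1 := by
    rw [hxh, show lft C g * y * (lft C g)⁻¹ * (lft C g * y * (lft C g)⁻¹) = lft C g * (y * y) * (lft C g)⁻¹ by
      group, hy2, mul_one, mul_inv_cancel]
  let w : K → E := fun s => e s * xh * (e s)⁻¹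
  have hwQ : ∀ s, π (w s) ∈ R.Q := fun s => by
    show π (e s * xh * (e s)⁻¹) ∈ R.Q
    rw [map_mul, map_mul, map_inv, hπe, hxπ]; exact R.normU s _ (R.xb_mem 1)
  obtain ⟨W, hWd⟩ : ∃ W, W = R.C1 C ⊔ Subgroup.closure (Set.range w) := ⟨_, rfl⟩
  have hWQ : ∀ x ∈ W, π x ∈ R.Q := by
    intro x hx
    have hle : W ≤ R.Q.comap π := hWd ▸ sup_le (fun x hx => R.C1_le C hx)
      ((Subgroup.closure_le _).2 fun x ⟨s, hs⟩ => hs ▸ hwQ s)
    exact hle hx
  have hinv : ∀ s, ∀ x ∈ W, e s * x * (e s)⁻¹ ∈ W := by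
    intro s
    have hle : W ≤ W.comap (MulAut.conj (e s)).toMonoidHom := by
      refine hWd.le.trans (sup_le (fun x hx => ?_) ((Subgroup.closure_le _).2 ?_))
      · show e s * x * (e s)⁻¹ ∈ W
        rw [R.C1_commute C (R.cl_u1z C s) (hπe s) hx]
        exact hWd ▸ Subgroup.mem_sup_left hx
      · rintro _ ⟨t, rfl⟩
        show e s * (e t * xh * (e t)⁻¹) * (e s)⁻¹ ∈ W
        rw [show e s * (e t * xh * (e t)⁻¹) * (e s)⁻¹ = w (s + t) by
          show _ = e (s + t) * xh * (e (s + t))⁻¹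
          rw [he]; group]
        exact hWd ▸ Subgroup.mem_sup_right (Subgroup.subset_closure ⟨_, rfl⟩)
    exact fun x hx => hle hx
  have hmap : W.map π = R.Q := by
    refine le_antisymm (fun _ ⟨x, hx, e⟩ => e ▸ hWQ x hx) ?_
    let M : Subgroup G :=
      Subgroup.closure (Set.range R.zz ∪ Set.range fun s => R.u1 s * R.xb 1 * (R.u1 s)⁻¹)
    have hMle : M ≤ W.map π := (Subgroup.closure_le _).2 (by
      rintro y (⟨c, rfl⟩ | ⟨s, rfl⟩)
      · obtain ⟨x, hx, e⟩ := R.C1_surj C c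
        exact ⟨x, hWd ▸ Subgroup.mem_sup_left hx, e⟩
      · exact ⟨w s, hWd ▸ Subgroup.mem_sup_right (Subgroup.subset_closure ⟨s, rfl⟩), by
          show π (e s * xh * (e s)⁻¹) = _
          rw [map_mul, map_mul, map_inv, hπe, hxπ]⟩)
    refine le_trans ?_ hMle
    have conjM : ∀ g : G, (∀ c, g * R.zz c * g⁻¹ ∈ M) →
        (∀ s, g * (R.u1 s * R.xb 1 * (R.u1 s)⁻¹) * g⁻¹ ∈ M) → ∀ x ∈ M, g * x * g⁻¹ ∈ M := by
      intro g h1 h2
      have hle : M ≤ M.comap (MulAut.conj g).toMonoidHom := (Subgroup.closure_le _).2 (by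
        rintro y (⟨c, rfl⟩ | ⟨s, rfl⟩)
        exacts [h1 c, h2 s])
      exact fun x hx => hle hx
    refine R.gen M (fun t => ?_) (fun c => Subgroup.subset_closure (Or.inl ⟨c, rfl⟩))
      (fun s => conjM _ (fun c => ?_) fun t => ?_) (conjM _ (fun c => ?_) fun t => ?_)
    · rcases hE2 t with rfl | rfl
      · rw [map_zero' R.xb_add]; exact one_mem _
      · refine Subgroup.subset_closure (Or.inr ⟨0, ?_⟩)
        show R.u1 0 * R.xb 1 * (R.u1 0)⁻¹ = _
        rw [map_zero' R.u1_add]; group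
    · rw [← (R.zu c s).eq, mul_inv_cancel_right]; exact Subgroup.subset_closure (Or.inl ⟨c, rfl⟩)
    · refine Subgroup.subset_closure (Or.inr ⟨s + t, ?_⟩)
      show R.u1 (s + t) * R.xb 1 * (R.u1 (s + t))⁻¹ = _
      rw [R.u1_add]; group
    · rw [(R.hz c).eq, mul_inv_cancel_right]; exact Subgroup.subset_closure (Or.inl ⟨c, rfl⟩)
    · refine Subgroup.subset_closure (Or.inr ⟨R.α * t, ?_⟩)
      show R.u1 (R.α * t) * R.xb 1 * (R.u1 (R.α * t))⁻¹ = _
      rw [← R.hu t]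
      calc R.h * R.u1 t * R.h⁻¹ * R.xb 1 * (R.h * R.u1 t * R.h⁻¹)⁻¹
          = R.h * R.u1 t * R.h⁻¹ * (R.xb 1 * R.h) * (R.u1 t)⁻¹ * R.h⁻¹ := by group
        _ = _ := by rw [← (R.hb 1).eq]; group
  -- the size of the complement
  obtain ⟨Cn, hCn⟩ : ∃ Cn : Subgroup W, Cn = (R.C1 C).subgroupOf W := ⟨_, rfl⟩
  haveI : Cn.Normal := ⟨fun n hn k => by
    rw [hCn, Subgroup.mem_subgroupOf] at hn ⊢
    rw [Subgroup.coe_mul, Subgroup.coe_mul, Subgroup.coe_inv, (R.C1_Q C (hWQ _ k.2) hn).eq, mul_inv_cancel_right]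
    exact hn⟩
  have hwW : ∀ s, w s ∈ W := fun s => hWd ▸ Subgroup.mem_sup_right (Subgroup.subset_closure ⟨s, rfl⟩)
  let q : K → W ⧸ Cn := fun s => QuotientGroup.mk ⟨w s, hwW s⟩
  have hq2 : ∀ s, q s * q s = 1 := fun s => by
    show (QuotientGroup.mk ⟨w s, hwW s⟩ : W ⧸ Cn) * QuotientGroup.mk ⟨w s, hwW s⟩ = 1
    rw [← QuotientGroup.mk_mul, show (⟨w s, hwW s⟩ : W) * ⟨w s, hwW s⟩ = 1 from Subtype.ext (by
      show e s * xh * (e s)⁻¹ * (e s * xh * (e s)⁻¹) = 1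
      rw [show e s * xh * (e s)⁻¹ * (e s * xh * (e s)⁻¹) = e s * (xh * xh) * (e s)⁻¹ by group, hx2, mul_one,
        mul_inv_cancel])]
    rfl
  have hcomm : Pairwise fun s t : K => ∀ a b, a ∈ Subgroup.zpowers (q s) → b ∈ Subgroup.zpowers (q t) →
      Commute a b := by
    intro s t _ a b ha hb
    obtain ⟨i, rfl⟩ := Subgroup.mem_zpowers_iff.1 ha
    obtain ⟨j, rfl⟩ := Subgroup.mem_zpowers_iff.1 hb
    refine (Commute.zpow_zpow ?_ i j)
    rw [← commutatorElement_eq_one_iff_commute]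
    show ⁅(QuotientGroup.mk' Cn) ⟨w s, hwW s⟩, (QuotientGroup.mk' Cn) ⟨w t, hwW t⟩⁆ = 1
    rw [← map_commutatorElement]
    refine (QuotientGroup.eq_one_iff _).2 ?_
    rw [hCn, Subgroup.mem_subgroupOf]
    exact R.comm_C1 C (hwQ s) (hwQ t)
  have htop : (⊤ : Subgroup (W ⧸ Cn)) ≤ ⨆ s, Subgroup.zpowers (q s) := by
    intro y _
    induction y using QuotientGroup.induction_on with
    | H x =>
      obtain ⟨M', hM'⟩ : ∃ M' : Subgroup W, M' = (⨆ s, Subgroup.zpowers (q s)).comap (QuotientGroup.mk' Cn) :=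
        ⟨_, rfl⟩
      have hle : W ≤ M'.map W.subtype := hWd.le.trans (sup_le (fun c hc => ?_) ((Subgroup.closure_le _).2 ?_))
      · obtain ⟨x', hx', e⟩ := hle x.2
        rw [show x = x' from Subtype.ext e.symm]
        exact (hM'.le hx' : _)
      · refine ⟨⟨c, hWd ▸ Subgroup.mem_sup_left hc⟩, ?_, rfl⟩
        rw [hM', SetLike.mem_coe, Subgroup.mem_comap, QuotientGroup.mk'_apply,
          (QuotientGroup.eq_one_iff _).2 (by rw [hCn, Subgroup.mem_subgroupOf]; exact hc)]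
        exact one_mem _
      · rintro _ ⟨s, rfl⟩
        refine ⟨⟨w s, hwW s⟩, ?_, rfl⟩
        rw [hM']
        exact Subgroup.mem_iSup_of_mem s (Subgroup.mem_zpowers _)
  have hc1 : Nat.card (W ⧸ Cn) ≤ 2 ^ Fintype.card K := by
    rw [← Subgroup.noncommPiCoprod_range (hcomm := hcomm)] at htop
    have h1 : Nat.card (W ⧸ Cn) ≤ Nat.card ((s : K) → Subgroup.zpowers (q s)) :=
      Nat.card_le_card_of_surjective (Subgroup.noncommPiCoprod hcomm) fun y => htop (Subgroup.mem_top y)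
    rw [Nat.card_pi] at h1
    refine h1.trans ((Finset.prod_le_prod' fun s _ => ?_).trans (by rw [Finset.prod_const, Finset.card_univ]))
    rw [Nat.card_zpowers]
    exact Nat.le_of_dvd two_pos (orderOf_dvd_of_pow_eq_one (by rw [pow_two, hq2]))
  have hc2 : Nat.card Cn ≤ Fintype.card E₀ := by
    rw [← Nat.card_eq_fintype_card]
    refine le_trans (Nat.card_le_card_of_injective (fun x : Cn => (⟨(x.1 : E),
      Subgroup.mem_subgroupOf.1 (hCn.le x.2)⟩ : R.C1 C))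
      fun x y h => Subtype.ext (Subtype.ext (congrArg (fun z : R.C1 C => (z : E)) h))) ?_
    exact Nat.card_le_card_of_surjective (fun t => (⟨R.φ C t, R.φ_mem C t⟩ : R.C1 C))
      fun ⟨x, t, ht⟩ => ⟨t, Subtype.ext ht⟩
  have hcW : Nat.card W ≤ Nat.card R.Q := by
    rw [Subgroup.card_eq_card_quotient_mul_card_subgroup Cn]
    exact (Nat.mul_le_mul hc1 hc2).trans hcard
  let f : W → R.Q := fun x => ⟨π x.1, hWQ _ x.2⟩
  have hf : Function.Surjective f := fun y => by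
    obtain ⟨x, hx, e⟩ := hmap.ge y.2
    exact ⟨⟨x, hx⟩, Subtype.ext e⟩
  have hfi := ((Nat.bijective_iff_surjective_and_card f).2
    ⟨hf, le_antisymm hcW (Nat.card_le_card_of_surjective f hf)⟩).1
  have hinj : W ⊓ π.ker = ⊥ := by
    rw [eq_bot_iff]
    rintro x ⟨hx, hk⟩
    have e : f ⟨x, hx⟩ = f 1 :=
      Subtype.ext (show π x = π 1 from (MonoidHom.mem_ker.1 hk).trans (map_one π).symm)
    exact congrArg Subtype.val (hfi e)
  exact R.assemble C hmap hinj e he hπe hinv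

end Cfsg.Agent.TwistMult.Rad
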