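import Cfsg.Agent.Lib.TwistMult.D4Elts
import Cfsg.Agent.Lib.TwistMult.RadSplit

/-!
A central extension of a triality twisted group splits over the fixed unipotent group.
-/

set_option autoImplicit false
set_option linter.unusedSectionVars false

open scoped Matrix commutatorElement

namespace Cfsg.Agent.TwistMult.D4

open Cfsg.Lie Cfsg.Agent.Chevalley Cfsg.Agent.Chevalley.Weight Cfsg.Agent.Chevalley.Cover Cfsg.Agent.Chevalley.Table Cfsg.Agent.Chevalley.Cert
  Cfsg.Agent.Chevalley.Group Cfsg.Agent.Chevalley.Borel Cfsg.Agent.Chevalley.Unip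
  Cfsg.Agent.Chevalley.Twist Cfsg.Agent.Chevalley.Twist.D4

theorem radical_pos : ∀ r ∈ [14, 15, 16, 17, 19, 20, 21, 22, 23], 0 < Data.D4.tab.phi r ∧
    0 < Data.D4.tab.phi (applyW Data.D4.tab [3, 2, 0] r) := by decide +kernel

theorem rankOne_neg : ∀ r ∈ [12, 13, 18], 0 < Data.D4.tab.phi r ∧
    Data.D4.tab.phi (applyW Data.D4.tab [3, 2, 0] r) < 0 := by decide +kernel

variable {K : Type*} [Field K] [Fintype K] {q : ℕ} {hK : Fintype.card K = q ^ 3}

theorem norm_pow (θ : K →+* K) (hθ : ∀ t, θ t = t ^ q) (u : K) :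
    u * θ u * θ (θ u) = u ^ (q ^ 2 + q + 1) := by
  rw [hθ, hθ, ← pow_mul]; ring

/-- An element of norm one of full order. -/
theorem exists_norm_one (hK : Fintype.card K = q ^ 3) (hq : IsPrimePow q) (θ : K →+* K)
    (hθ : ∀ t, θ t = t ^ q) :
    ∃ t : Kˣ, orderOf t = q ^ 2 + q + 1 ∧ (t : K) * θ t * θ (θ t) = 1 := by
  classical
  have hq2 := hq.two_le
  obtain ⟨g, hg⟩ := IsCyclic.exists_ofOrder_eq_natCard (α := Kˣ)
  rw [Nat.card_units, Nat.card_eq_fintype_card, hK] at hg
  have h3 : q ^ 3 - 1 = (q - 1) * (q ^ 2 + q + 1) := by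
    obtain ⟨m, rfl⟩ : ∃ m, q = m + 1 := ⟨q - 1, by omega⟩
    rw [Nat.add_sub_cancel, Nat.sub_eq_iff_eq_add (Nat.one_le_pow _ _ (by omega))]
    ring
  refine ⟨g ^ (q - 1), ?_, ?_⟩
  · rw [orderOf_pow' g (by omega), hg, h3, Nat.gcd_mul_right_left]
    exact Nat.mul_div_cancel_left _ (by omega)
  · rw [norm_pow θ hθ, ← Units.val_pow_eq_pow_val, ← pow_mul, ← h3, ← hg, pow_orderOf_eq_one, Units.val_one]

/-- The norm is onto. -/
theorem exists_norm (hK : Fintype.card K = q ^ 3) (hq : IsPrimePow q) (θ : K →+* K)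
    (hθ : ∀ t, θ t = t ^ q) {t : K} (ht : θ t = t) (h0 : t ≠ 0) : ∃ u : K, u * θ u * θ (θ u) = t := by
  classical
  have hq2 := hq.two_le
  obtain ⟨g, hg⟩ := IsCyclic.exists_generator (α := Kˣ)
  have hord : orderOf g = (q - 1) * (q ^ 2 + q + 1) := by
    rw [orderOf_eq_card_of_forall_mem_zpowers hg, Nat.card_units, Nat.card_eq_fintype_card, hK]
    obtain ⟨m, rfl⟩ : ∃ m, q = m + 1 := ⟨q - 1, by omega⟩
    rw [Nat.add_sub_cancel, Nat.sub_eq_iff_eq_add (Nat.one_le_pow _ _ (by omega))]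
    ring
  obtain ⟨k, hk⟩ := (isOfFinOrder_of_finite g).mem_powers_iff_mem_zpowers.2 (hg (Units.mk0 t h0))
  replace hk : g ^ k = Units.mk0 t h0 := hk
  have h1 : Units.mk0 t h0 ^ (q - 1) = 1 := Units.ext (by
    rw [Units.val_pow_eq_pow_val, Units.val_mk0, Units.val_one]
    have : t ^ (q - 1) * t = 1 * t := by
      rw [← pow_succ, Nat.sub_add_cancel (by omega), one_mul, ← hθ, ht]
    exact mul_right_cancel₀ h0 this)
  rw [← hk, ← pow_mul, ← orderOf_dvd_iff_pow_eq_one, hord, mul_comm k] at h1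
  obtain ⟨m, hm⟩ := (Nat.mul_dvd_mul_iff_left (by omega : 0 < q - 1)).1 h1
  refine ⟨((g ^ m : Kˣ) : K), ?_⟩
  rw [norm_pow θ hθ, ← Units.val_pow_eq_pow_val, ← pow_mul, mul_comm m, ← hm, hk, Units.val_mk0]

/-- An additive subgroup stable under a large multiplicative group is everything. -/
theorem stable_top (hK : Fintype.card K = q ^ 3) (hq : IsPrimePow q) (A : AddSubgroup K) {R : K}
    (hR : orderOf R = q ^ 2 + q + 1) (hA : ∀ y ∈ A, R * y ∈ A) {a : K} (ha : a ∈ A) (ha0 : a ≠ 0) (y : K) :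
    y ∈ A := by
  classical
  have hq2 := hq.two_le
  have hp : ∀ (x : K), (∀ y ∈ A, x * y ∈ A) → ∀ n : ℕ, ∀ y ∈ A, x ^ n * y ∈ A := by
    intro x hx n
    induction n with
    | zero => intro y hy; simpa using hy
    | succ n ih => intro y hy; rw [pow_succ, mul_assoc]; exact ih _ (hx y hy)
  let L : Subfield K :=
    { carrier := {x | ∀ y ∈ A, x * y ∈ A}
      mul_mem' := fun hx hx' y hy => by rw [mul_assoc]; exact hx _ (hx' y hy)
      one_mem' := fun y hy => by rwa [one_mul]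
      add_mem' := fun hx hx' y hy => by rw [add_mul]; exact add_mem (hx y hy) (hx' y hy)
      zero_mem' := fun y _ => by rw [zero_mul]; exact zero_mem _
      neg_mem' := fun hx y hy => by rw [neg_mul]; exact neg_mem (hx y hy)
      inv_mem' := fun x hx => by
        by_cases h : x = 0
        · subst h; rwa [inv_zero]
        have e : x⁻¹ = x ^ (Fintype.card K - 2) := by
          refine inv_eq_of_mul_eq_one_right ?_
          have h8 : 2 ≤ Fintype.card K := Fintype.one_lt_card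
          rw [← pow_succ', show Fintype.card K - 2 + 1 = Fintype.card K - 1 by omega,
            FiniteField.pow_card_sub_one_eq_one x h]
        intro y hy
        rw [e]
        exact hp x hx _ y hy }
  have hRL : R ∈ L := hA
  have hR0 : (⟨R, hRL⟩ : L) ≠ 0 := fun h => by
    have h' : R = 0 := congrArg Subtype.val h
    rw [h'] at hR
    have := orderOf_zero K
    omega
  have hdvd : q ^ 2 + q + 1 ∣ Fintype.card L - 1 := by
    rw [← hR, orderOf_dvd_iff_pow_eq_one,
      show R ^ (Fintype.card L - 1) = (((⟨R, hRL⟩ : L) ^ (Fintype.card L - 1) : L) : K) from rfl,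
      FiniteField.pow_card_sub_one_eq_one _ hR0]
    rfl
  have hL1 : 1 < Fintype.card L := Fintype.one_lt_card
  have hbig : q ^ 2 < Fintype.card L := by have := Nat.le_of_dvd (by omega) hdvd; omega
  have hd : Module.finrank L K = 1 := by
    have h1 := Module.card_eq_pow_finrank (K := L) (V := K)
    have h0 : 0 < Module.finrank L K := Module.finrank_pos
    by_contra hne
    have h2 : (q ^ 2) ^ 2 < Fintype.card L ^ Module.finrank L K :=
      lt_of_lt_of_le (Nat.pow_lt_pow_left hbig two_ne_zero) (Nat.pow_le_pow_right (by omega) (by omega))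
    rw [← h1, hK, ← pow_mul] at h2
    exact absurd ((Nat.pow_lt_pow_iff_right (by omega : 1 < q)).1 h2) (by norm_num)
  have hfull : Fintype.card L = Fintype.card K := by
    rw [Module.card_eq_pow_finrank (K := L) (V := K), hd, pow_one]
  have hs : Function.Surjective (fun x : L => (x : K)) :=
    ((Fintype.bijective_iff_injective_and_card _).2 ⟨Subtype.val_injective, hfull⟩).2
  obtain ⟨x, hx⟩ := hs (y / a)
  have := x.2 a ha
  rwa [show (x : K) = y / a from hx, div_mul_cancel₀ y ha0] at this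

variable (X : Setup (K := K) hK)
include X

set_option maxHeartbeats 3200000 in
/-- A complement to the kernel over the fixed unipotent group. -/
theorem exists_complement (hq : IsPrimePow q) {p : ℕ} [Fact p.Prime] [CharP K p] {f : ℕ} (hqp : q = p ^ f)
    {E : Type*} [Group E] [Finite E] {π : E →* twistedD4 K q} (C : Cen π) :
    ∃ U : Subgroup E, U ⊓ π.ker = ⊥ ∧ U.map π = UK chevD4 (twistedD4 K q) := by
  classical
  haveI : Finite (twistedD4 K q) := Finite.of_injective _ Subtype.val_injective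
  have hq2 := hq.two_le
  obtain ⟨θ, hθ⟩ := E6.exists_powq (K := K) hq three_ne_zero hK
  obtain ⟨P₀, h₀⟩ := exists_par₀ X θ hθ
  obtain ⟨P₁, h₁⟩ := exists_par₁ X θ hθ
  haveI : CharP (E₀ q θ) p := RingHom.charP (E₀ q θ).subtype Subtype.val_injective p
  letI : Fintype (E₀ q θ) := Fintype.ofFinite _
  have hcardE : Fintype.card (E₀ q θ) = q := by rw [← Nat.card_eq_fintype_card, card_E₀ hK hq θ hθ]
  obtain ⟨cb, c3, ca, cB, cu, cab, ca3, caA, cBb, cB3, cBB, cu3⟩ := comms X θ hθ P₀ h₀ P₁ h₁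
  obtain ⟨addA, addB, add3, addZ⟩ := adds X θ hθ P₀ h₀ P₁ h₁
  have addXb : ∀ s t, x₀ X θ P₀ (s + t) = x₀ X θ P₀ s * x₀ X θ P₀ t :=
    fun s t => xp_add X.O X.gen X.π_eq (hOr X) (k0 X) P₀ s t
  have addU : ∀ s t, x₁ X P₁ (s + t) = x₁ X P₁ s * x₁ X P₁ t :=
    fun s t => xp_add X.O X.gen X.π_eq (hOr X) (k1 X) P₁ s t
  have zinj : Function.Injective (zz X θ P₀) := fun s t e => by
    have e' := congrArg Subtype.val e
    rw [coe_zz X θ P₀ h₀, coe_zz X θ P₀ h₀] at e'
    exact Subtype.ext (neg_inj.1 (xg_injective hC (roots_lt 23 (by simp)) e'))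
  have z0 : zz X θ P₀ 0 = 1 := Rad.map_zero' addZ
  have x30 : x3 X θ P₀ 0 = 1 := Rad.map_zero' add3
  have a0 : aa X P₁ 0 = 1 := Rad.map_zero' addA
  have b0 : bb X P₁ 0 = 1 := Rad.map_zero' addB
  have cz : ∀ c d, Commute (zz X θ P₀ c) (zz X θ P₀ d) := fun c d =>
    show _ * _ = _ * _ by rw [← addZ, add_comm, addZ]
  have br : ∀ t t', ⁅x₀ X θ P₀ t, x3 X θ P₀ t'⁆ = zz X θ P₀ (1 * (t * t')) := fun t t' => by
    rw [one_mul, commutatorElement_def, xb_x3 X θ hθ P₀ h₀ P₁ h₁ t t', mul_assoc (x3 X θ P₀ t' * _),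
      (cb (t * t') t).inv_right.eq, ← mul_assoc, mul_inv_cancel_right, mul_assoc,
      (c3 (t * t') t').inv_right.eq, mul_inv_cancel_left]
  have brAB : ∀ s t, ⁅aa X P₁ s, bb X P₁ t⁆ = zz X θ P₀ (tr θ hK hθ (s * t)) := fun s t => by
    have e := bb_aa X θ hθ P₀ h₀ P₁ h₁ s t
    rw [Rad.map_neg' addZ, eq_mul_inv_iff_mul_eq] at e
    rw [commutatorElement_def, ← e, mul_assoc (bb X P₁ t * _),
      (ca (tr θ hK hθ (s * t)) s).inv_right.eq, ← mul_assoc, mul_inv_cancel_right, mul_assoc,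
      (cB (tr θ hK hθ (s * t)) t).inv_right.eq, mul_inv_cancel_left]
  obtain ⟨u0, hu0⟩ : ∃ u : K, tr θ hK hθ u ≠ 0 := by
    by_contra hcon
    simp only [not_exists, not_not] at hcon
    let P : Polynomial K := Polynomial.X + Polynomial.X ^ q + Polynomial.X ^ (q ^ 2)
    have hdeg : P.natDegree ≤ q ^ 2 := by
      refine (Polynomial.natDegree_add_le _ _).trans (max_le ((Polynomial.natDegree_add_le _ _).trans
        (max_le ?_ ?_)) (by simp))
      · rw [Polynomial.natDegree_X]; exact Nat.one_le_pow _ _ (by omega)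
      · rw [Polynomial.natDegree_X_pow]; exact Nat.le_self_pow two_ne_zero _
    have h1 : q ≠ q ^ 2 := by rw [sq]; intro h; nlinarith
    have h2 : (1 : ℕ) ≠ q ^ 2 := by rw [sq]; intro h; nlinarith
    have hP : P ≠ 0 := by
      intro h
      have := congrArg (fun Q : Polynomial K => Q.coeff 1) h
      simp [P, Polynomial.coeff_X_pow, show (1 : ℕ) ≠ q from by omega, h2] at this
    have hroots : ∀ x : K, P.IsRoot x := fun x => by
      have := congrArg Subtype.val (hcon x)
      simp only [tr, hθ, ZeroMemClass.coe_zero, ← pow_mul, ← sq] at this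
      simpa [P] using this
    have hle : Fintype.card K ≤ P.natDegree := by
      rw [← Finset.card_univ]
      refine le_trans ?_ (P.card_roots')
      refine le_trans (Finset.card_le_card (fun x _ => ?_)) (Multiset.toFinset_card_le _)
      rw [Multiset.mem_toFinset, Polynomial.mem_roots hP]
      exact hroots x
    rw [hK] at hle
    have : q ^ 2 < q ^ 3 := Nat.pow_lt_pow_right (by omega) (by norm_num)
    omega
  have hu0' : ((tr θ hK hθ u0 : E₀ q θ) : K) ≠ 0 := fun h => hu0 (Subtype.ext h)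
  have trlin : ∀ (c : E₀ q θ) (x : K), tr θ hK hθ ((c : K) * x) = c * tr θ hK hθ x := fun c x => by
    refine Subtype.ext ?_
    simp only [tr, Subfield.coe_mul, map_mul, θE θ]
    ring
  have trsurj : ∀ b : K, b ≠ 0 → ∀ c : E₀ q θ, ∃ s, tr θ hK hθ (s * b) = c := fun b hb c => by
    refine ⟨((c / tr θ hK hθ u0 : E₀ q θ) : K) * u0 / b, ?_⟩
    rw [div_mul_cancel₀ _ hb, trlin, div_mul_cancel₀ _ hu0]
  -- torus elements
  obtain ⟨t, hto, htn⟩ := exists_norm_one hK hq θ hθ
  obtain ⟨R, hRd⟩ : ∃ R : K, R = (t : K) ^ 2 := ⟨_, rfl⟩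
  have hRord : orderOf R = q ^ 2 + q + 1 := by
    have hodd : Nat.gcd (q ^ 2 + q + 1) 2 = 1 := by
      have : Even (q * (q + 1)) := Nat.even_mul_succ_self q
      obtain ⟨m, hm⟩ := this
      rw [show q ^ 2 + q + 1 = 2 * m + 1 by ring_nf; ring_nf at hm; omega, Nat.gcd_comm]
      simp
    rw [hRd, ← Units.val_pow_eq_pow_val, orderOf_units, orderOf_pow' t two_ne_zero, hto, hodd, Nat.div_one]
  have hR1 : R ≠ 1 := fun h => by rw [h, orderOf_one] at hRord; nlinarith
  have hR0 : R ≠ 0 := by rw [hRd]; exact pow_ne_zero _ t.ne_zero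
  have hRn : R * θ R * θ (θ R) = 1 := by
    rw [hRd, map_pow, map_pow, ← mul_pow, ← mul_pow, htn, one_pow]
  have hRi : θ R * θ (θ R) = R⁻¹ := eq_inv_of_mul_eq_one_right (by rw [← mul_assoc]; exact hRn)
  obtain ⟨h, hhc, hact⟩ := exists_tor X θ hθ P₀ h₀ P₁ h₁ 1 t (map_one _)
  obtain ⟨hb, hu, ha, hB, h3, hz⟩ := hact 1 R (by rw [htn]; simp) (by simp [hRd]) (one_mem _)
  simp only [one_mul, hRi] at ha hB
  have hn1 : nrm θ hK hθ R = 1 := Subtype.ext hRn
  have hP1 : (⟨1, one_mem _⟩ : E₀ q θ) = 1 := rfl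
  simp only [hn1, hP1, one_pow, one_mul] at hb h3 hz
  have hcom : ∀ {g : twistedD4 K q}, h * g * h⁻¹ = g → Commute h g :=
    fun e => mul_inv_eq_iff_eq_mul.1 e
  have tpow : ∀ (τ : twistedD4 K q) (s u : Kˣ), (τ : GL chevD4.Idx K) = tor chevD4 (dvec θ s u) → ∀ n : ℕ,
      ((τ ^ n : twistedD4 K q) : GL chevD4.Idx K) = tor chevD4 (dvec θ (s ^ n) (u ^ n)) := by
    intro τ s u e n
    induction n with
    | zero =>
      rw [pow_zero, pow_zero, pow_zero, OneMemClass.coe_one, ← tor_one]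
      congr 1
      funext i
      simp only [dvec, map_one, Pi.one_apply]
      split_ifs <;> rfl
    | succ n ih => rw [pow_succ, Subgroup.coe_mul, ih, e, tor_mul, ← dvec_mul, ← pow_succ, ← pow_succ]
  have done1 : dvec θ 1 1 = (1 : ℕ → Kˣ) := by
    funext i
    simp only [dvec, map_one, Pi.one_apply]
    split_ifs <;> rfl
  have hpcop : ∀ m, m ∣ q ^ 3 - 1 → Nat.Coprime m p := by
    intro m hm
    have hp := (Fact.out : p.Prime)
    refine (hp.coprime_iff_not_dvd.2 fun hd => ?_).symm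
    have hf : f ≠ 0 := fun h => by rw [h, pow_zero] at hqp; omega
    have h1 : p ∣ q ^ 3 := dvd_pow (hqp ▸ dvd_pow_self p hf) (by norm_num)
    have h2 := Nat.dvd_sub h1 (hd.trans hm)
    rw [Nat.sub_sub_self (Nat.one_le_pow _ _ (by omega))] at h2
    exact hp.not_dvd_one h2
  have hNdvd : q ^ 2 + q + 1 ∣ q ^ 3 - 1 := ⟨q - 1, by
    obtain ⟨m, rfl⟩ : ∃ m, q = m + 1 := ⟨q - 1, by omega⟩
    rw [Nat.add_sub_cancel, Nat.sub_eq_iff_eq_add (Nat.one_le_pow _ _ (by omega))]
    ring⟩
  -- the radical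
  obtain ⟨Q, hQ⟩ : ∃ Q : Subgroup (twistedD4 K q), Q = Subgroup.closure
      (Set.range (x₀ X θ P₀) ∪ Set.range (x3 X θ P₀) ∪ Set.range (zz X θ P₀) ∪ Set.range (aa X P₁) ∪
        Set.range (bb X P₁)) := ⟨_, rfl⟩
  have mb : ∀ t, x₀ X θ P₀ t ∈ Q := fun t => hQ ▸ Subgroup.subset_closure (by simp)
  have m3 : ∀ t, x3 X θ P₀ t ∈ Q := fun t => hQ ▸ Subgroup.subset_closure (by simp)
  have mz : ∀ t, zz X θ P₀ t ∈ Q := fun t => hQ ▸ Subgroup.subset_closure (by simp)
  have ma : ∀ t, aa X P₁ t ∈ Q := fun t => hQ ▸ Subgroup.subset_closure (by simp)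
  have mB : ∀ t, bb X P₁ t ∈ Q := fun t => hQ ▸ Subgroup.subset_closure (by simp)
  have conjQ : ∀ g : twistedD4 K q, (∀ t, g * x₀ X θ P₀ t * g⁻¹ ∈ Q) → (∀ t, g * x3 X θ P₀ t * g⁻¹ ∈ Q) →
      (∀ t, g * zz X θ P₀ t * g⁻¹ ∈ Q) → (∀ t, g * aa X P₁ t * g⁻¹ ∈ Q) → (∀ t, g * bb X P₁ t * g⁻¹ ∈ Q) →
      ∀ x ∈ Q, g * x * g⁻¹ ∈ Q := by
    intro g e1 e2 e3 e4 e5
    have hle : Q ≤ Q.comap (MulAut.conj g).toMonoidHom := by
      refine hQ.le.trans ((Subgroup.closure_le _).2 ?_)
      rintro y ((((⟨t, rfl⟩ | ⟨t, rfl⟩) | ⟨t, rfl⟩) | ⟨t, rfl⟩) | ⟨t, rfl⟩)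
      exacts [e1 t, e2 t, e3 t, e4 t, e5 t]
    exact fun x hx => hle hx
  have hxg : ∀ r ∈ [14, 15, 16, 17, 19, 20, 21, 22, 23], ∀ v : K, xg hC r v ∈ chevD4.posUnipotent K ∧
      (n₁ X : GL chevD4.Idx K) * xg hC r v * (n₁ X : GL chevD4.Idx K)⁻¹ ∈ chevD4.posUnipotent K := by
    intro r hr v
    have hlt : r < chevD4.nroots :=
      (by decide +kernel : ∀ r ∈ [14, 15, 16, 17, 19, 20, 21, 22, 23], r < chevD4.nroots) r hr
    have hJ : ∀ i ∈ [3, 2, 0], i < chevD4.rank := by decide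
    obtain ⟨η, -, hη⟩ := NormalForm.conj_xg (F := K) hC hJ 1 hlt
    refine ⟨xg_mem_U hC hlt (radical_pos r hr).1 _, ?_⟩
    have e : (n₁ X : GL chevD4.Idx K) = tor chevD4 1 * nL hC K [3, 2, 0] := by
      rw [tor_one, one_mul, coe_n₁]; simp [nL]
    rw [e, hη]
    refine xg_mem_U hC (wL_lt hC hJ hlt) ?_ _
    have := (radical_pos r hr).2
    rwa [show applyW Data.D4.tab [3, 2, 0] r = wL chevD4 [3, 2, 0] r from
      StConj.actT_foldr hC hJ hlt] at this
  have hQU : Q ≤ UK chevD4 (twistedD4 K q) ⊓ (UK chevD4 (twistedD4 K q)).comap (MulAut.conj (n₁ X)).toMonoidHom := by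
    refine hQ.le.trans ((Subgroup.closure_le _).2 ?_)
    have key : ∀ g : twistedD4 K q, (g : GL chevD4.Idx K) ∈
        Subgroup.closure {x | ∃ r ∈ [14, 15, 16, 17, 19, 20, 21, 22, 23], ∃ v : K, x = xg hC r v} →
        g ∈ UK chevD4 (twistedD4 K q) ⊓
          (UK chevD4 (twistedD4 K q)).comap (MulAut.conj (n₁ X)).toMonoidHom := by
      intro g hg
      have hle : Subgroup.closure {x | ∃ r ∈ [14, 15, 16, 17, 19, 20, 21, 22, 23], ∃ v : K, x = xg hC r v} ≤
          chevD4.posUnipotent K ⊓ (chevD4.posUnipotent K).comap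
            (MulAut.conj (n₁ X : GL chevD4.Idx K)).toMonoidHom := (Subgroup.closure_le _).2 (by
        rintro _ ⟨r, hr, v, rfl⟩
        exact Subgroup.mem_inf.2 ⟨(hxg r hr v).1, (hxg r hr v).2⟩)
      obtain ⟨e1, e2⟩ := Subgroup.mem_inf.1 (hle hg)
      exact Subgroup.mem_inf.2 ⟨e1, e2⟩
    have gx : ∀ r ∈ [14, 15, 16, 17, 19, 20, 21, 22, 23], ∀ v : K, xg hC r v ∈
        Subgroup.closure {x | ∃ r ∈ [14, 15, 16, 17, 19, 20, 21, 22, 23], ∃ v : K, x = xg hC r v} :=
      fun r hr v => Subgroup.subset_closure ⟨r, hr, v, rfl⟩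
    rintro y ((((⟨t, rfl⟩ | ⟨t, rfl⟩) | ⟨t, rfl⟩) | ⟨t, rfl⟩) | ⟨t, rfl⟩) <;> refine key _ ?_
    · rw [coe_xb X θ P₀ h₀]; exact gx 14 (by simp) _
    · rw [coe_x3 X θ P₀ h₀]; exact gx 22 (by simp) _
    · rw [coe_zz X θ P₀ h₀]; exact gx 23 (by simp) _
    · rw [coe_aa X θ P₁ h₁]; exact mul_mem (gx 15 (by simp) _) (mul_mem (gx 16 (by simp) _) (gx 19 (by simp) _))
    · rw [coe_bb X θ P₁ h₁]; exact mul_mem (gx 21 (by simp) _) (mul_mem (gx 20 (by simp) _) (gx 17 (by simp) _))
  -- the data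
  let D : Rad p (twistedD4 K q) (E₀ q θ) K :=
    { xb := x₀ X θ P₀
      x3 := x3 X θ P₀
      zz := zz X θ P₀
      aa := aa X P₁
      bb := bb X P₁
      u1 := x₁ X P₁
      Q := Q
      h := h
      n := n₁ X
      xb_add := addXb
      x3_add := add3
      zz_add := addZ
      aa_add := addA
      bb_add := addB
      u1_add := addU
      zz_inj := zinj
      u1_inj := xp_injective X.O X.gen X.π_eq (hOr X) (k1 X) P₁
      hQ := hQ
      zb := cb
      z3 := c3
      za := ca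
      zB := cB
      zu := cu
      ab := cab
      a3 := ca3
      aA := caA
      Bb := cBb
      B3 := cB3
      BB := cBB
      u3 := cu3
      br := ⟨1, one_ne_zero, br⟩
      brAB := fun s t => ⟨_, brAB s t⟩
      zgen := fun c => by
        obtain ⟨s, hs⟩ := trsurj 1 one_ne_zero c
        exact ⟨s, 1, by rw [brAB, hs]⟩
      α := R
      β := R
      γ := R⁻¹
      α1 := hR1
      β1 := hR1
      γ1 := inv_ne_one.2 hR1
      hu := hu
      ha := ha
      hB := hB
      hb := fun v => hcom (hb v)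
      h3 := fun v => hcom (h3 v)
      hz := fun v => hcom (hz v)
      hord := ⟨q ^ 2 + q + 1, hpcop _ hNdvd, Subtype.ext (by
        rw [tpow h 1 t hhc, one_pow, ← hto, pow_orderOf_eq_one, done1, tor_one, OneMemClass.coe_one])⟩
      normU := fun s => conjQ _
        (fun v => by
          obtain ⟨c, hc⟩ := conj_xb X θ hθ P₀ h₀ P₁ h₁ s v
          rw [hc, mul_inv_cancel_right]
          exact mul_mem (mul_mem (mul_mem (mul_mem (mb _) (ma _)) (mB _)) (m3 _)) (mz _))
        (fun v => by rw [(cu3 s v).eq, mul_inv_cancel_right]; exact m3 _)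
        (fun v => by rw [← (cu v s).eq, mul_inv_cancel_right]; exact mz _)
        (fun v => by
          obtain ⟨c, hc⟩ := conj_aa X θ hθ P₀ h₀ P₁ h₁ s v
          rw [hc, mul_inv_cancel_right]
          exact mul_mem (mul_mem (mul_mem (ma _) (mB _)) (m3 _)) (mz _))
        (fun v => by
          rw [conj_bb X θ hθ P₀ h₀ P₁ h₁, mul_inv_cancel_right]
          exact mul_mem (mB _) (m3 _))
      normH := fun x hx => by
        have hi : ∀ {g g' : twistedD4 K q}, h * g * h⁻¹ = g' → h⁻¹ * g' * h⁻¹⁻¹ = g := fun e => by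
          rw [← e]; group
        have key := conjQ h⁻¹ (fun v => by rw [hi (hb v)]; exact mb _)
          (fun v => by rw [hi (h3 v)]; exact m3 _) (fun v => by rw [hi (hz v)]; exact mz _)
          (fun v => by
            have e := ha (R⁻¹ * v)
            rw [mul_inv_cancel_left₀ hR0] at e
            rw [hi e]; exact ma _)
          (fun v => by
            have e := hB (R * v)
            rw [inv_mul_cancel_left₀ hR0] at e
            rw [hi e]; exact mB _) x hx
        rwa [inv_inv] at key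
      move := ⟨1, one_ne_zero, fun v => by
        obtain ⟨c, hc⟩ := conj_xb X θ hθ P₀ h₀ P₁ h₁ 1 v
        refine ⟨-((v : K) * 1), (v : K) * θ 1 * θ (θ 1), c, ?_⟩
        rw [hc, mul_inv_cancel_right, show nrm θ hK hθ 1 = 1 from Subtype.ext (by simp [nrm])]
        simp only [mul_one, one_mul]⟩
      weyl := fun v => ⟨v, rfl⟩
      tor := fun v hv => by
        obtain ⟨u, hu'⟩ := exists_norm hK hq θ hθ (θE θ v) (fun e => hv (Subtype.ext e))
        have hu0 : u ≠ 0 := fun e => hv (Subtype.ext (by rw [← hu', e]; simp))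
        obtain ⟨τ, hτc, hτ⟩ := exists_tor X θ hθ P₀ h₀ P₁ h₁ 1 (Units.mk0 u hu0) (map_one _)
        obtain ⟨tb, -, -, -, t3, tz⟩ := hτ ((v : K)⁻¹) (u ^ 2) (by simp [hu']) (by simp)
          (inv_mem v.2)
        refine ⟨τ, q ^ 3 - 1, hpcop _ dvd_rfl, Subtype.ext (by
          rw [tpow τ 1 _ hτc, one_pow, ← hK, ← Fintype.card_units, pow_card_eq_one, done1, tor_one,
            OneMemClass.coe_one]), fun c => ?_, ?_, fun v' => ⟨_, t3 v'⟩⟩
        · refine mul_inv_eq_iff_eq_mul.1 ?_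
          rw [tz]
          congr 1
          refine Subtype.ext ?_
          show ((v : K)⁻¹) ^ 2 * (u ^ 2 * θ (u ^ 2) * θ (θ (u ^ 2))) * (c : K) = c
          rw [map_pow, map_pow, ← mul_pow, ← mul_pow, hu', ← mul_pow,
            inv_mul_cancel₀ (fun e => hv (Subtype.ext e)), one_pow, one_mul]
        · rw [tb]
          congr 1
          exact Subtype.ext (inv_mul_cancel₀ (fun e => hv (Subtype.ext e)))
      sq := fun l hl => by
        obtain ⟨τ, -, hτ⟩ := exists_tor X θ hθ P₀ h₀ P₁ h₁ 1 (Units.mk0 l hl) (map_one _)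
        obtain ⟨-, tu, -⟩ := hτ _ (l * l) rfl (by simp [sq]) (by
          simpa using inv_mem (norm_mem θ hθ hK l))
        exact ⟨τ, tu⟩
      disj := fun s hs => by
        obtain ⟨-, e2⟩ := Subgroup.mem_inf.1 (hQU hs)
        refine Subtype.ext ?_
        have hV : (n₁ X : GL chevD4.Idx K) * (x₁ X P₁ s : GL chevD4.Idx K) * (n₁ X : GL chevD4.Idx K)⁻¹ ∈
            chevD4.negUnipotent K := by
          have hJ : ∀ i ∈ [3, 2, 0], i < chevD4.rank := by decide
          have key : ∀ r ∈ [12, 13, 18], ∀ v : K, (n₁ X : GL chevD4.Idx K) * xg hC r v *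
              (n₁ X : GL chevD4.Idx K)⁻¹ ∈ chevD4.negUnipotent K := by
            intro r hr v
            have hlt : r < chevD4.nroots := (by decide +kernel : ∀ r ∈ [12, 13, 18], r < chevD4.nroots) r hr
            obtain ⟨η, -, hη⟩ := NormalForm.conj_xg (F := K) hC hJ 1 hlt
            have e : (n₁ X : GL chevD4.Idx K) = tor chevD4 1 * nL hC K [3, 2, 0] := by
              rw [tor_one, one_mul, coe_n₁]; simp [nL]
            rw [e, hη]
            refine xg_mem_V hC (wL_lt hC hJ hlt) ?_ _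
            have := (rankOne_neg r hr).2
            rwa [show applyW Data.D4.tab [3, 2, 0] r = wL chevD4 [3, 2, 0] r from
              StConj.actT_foldr hC hJ hlt] at this
          rw [coe_u1 X θ P₁ h₁, conj_prod]
          exact mul_mem (key 12 (by simp) _) (mul_mem (key 13 (by simp) _) (key 18 (by simp) _))
        have h1 := U_inf_V hC e2 hV
        exact conj_eq_one_iff.1 h1
      gen := fun M hMb hMz hMu hMh => by
        let Er : K → K → Prop := fun a b => ∃ e, aa X P₁ a * bb X P₁ b * x3 X θ P₀ e ∈ M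
        have eadd : ∀ {a b a' b'}, Er a b → Er a' b' → Er (a + a') (b + b') := by
          rintro a b a' b' ⟨e, he⟩ ⟨e', he'⟩
          refine ⟨e + e', ?_⟩
          have hkey : aa X P₁ (a + a') * bb X P₁ (b + b') * x3 X θ P₀ (e + e') =
              aa X P₁ a * bb X P₁ b * x3 X θ P₀ e * (aa X P₁ a' * bb X P₁ b' * x3 X θ P₀ e') *
                (zz X θ P₀ (-tr θ hK hθ (a' * b)))⁻¹ := by
            rw [eq_mul_inv_iff_mul_eq, addA, addB, add3]
            set z := zz X θ P₀ (-tr θ hK hθ (a' * b))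
            have e1 := bb_aa X θ hθ P₀ h₀ P₁ h₁ a' b
            symm
            calc aa X P₁ a * bb X P₁ b * x3 X θ P₀ e * (aa X P₁ a' * bb X P₁ b' * x3 X θ P₀ e')
                = aa X P₁ a * bb X P₁ b * (x3 X θ P₀ e * aa X P₁ a') * bb X P₁ b' * x3 X θ P₀ e' := by group
              _ = aa X P₁ a * (bb X P₁ b * aa X P₁ a') * x3 X θ P₀ e * bb X P₁ b' * x3 X θ P₀ e' := by
                  rw [← (ca3 a' e).eq]; group
              _ = aa X P₁ a * (aa X P₁ a' * bb X P₁ b * z) * x3 X θ P₀ e * bb X P₁ b' * x3 X θ P₀ e' := by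
                  rw [e1]
              _ = aa X P₁ a * aa X P₁ a' * bb X P₁ b * (z * (x3 X θ P₀ e * bb X P₁ b' * x3 X θ P₀ e')) := by
                  group
              _ = _ := by
                  rw [(((c3 _ e).mul_right (cB _ b')).mul_right (c3 _ e') :
                    Commute z (x3 X θ P₀ e * bb X P₁ b' * x3 X θ P₀ e')).eq, ← (cB3 b' e).eq]
                  group
                  rfl
          rw [hkey]
          exact mul_mem (mul_mem he he') (inv_mem (hMz _))
        have e00 : Er 0 0 := ⟨0, by rw [a0, b0, x30, mul_one, mul_one]; exact one_mem _⟩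
        have ensmul : ∀ (n : ℕ) {a b}, Er a b → Er (n • a) (n • b) := by
          intro n a b hab
          induction n with
          | zero => simpa using e00
          | succ n ih => rw [succ_nsmul, succ_nsmul]; exact eadd ih hab
        have eneg : ∀ {a b}, Er a b → Er (-a) (-b) := by
          intro a b hab
          have hp1 : 1 ≤ p := (Fact.out : p.Prime).pos
          have := ensmul (p - 1) hab
          rwa [nsmul_eq_mul, nsmul_eq_mul, Nat.cast_sub hp1, CharP.cast_eq_zero K p, Nat.cast_one,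
            zero_sub, neg_one_mul, neg_one_mul] at this
        have epar : ∀ s, Er (-s) (θ s * θ (θ s)) := by
          intro s
          obtain ⟨c, hc⟩ := conj_xb X θ hθ P₀ h₀ P₁ h₁ s 1
          refine ⟨1 * nrm θ hK hθ s, ?_⟩
          have h1 := mul_mem (mul_mem (inv_mem (hMb 1)) (hMu s _ (hMb 1))) (inv_mem (hMz c))
          rw [hc, mul_inv_cancel_right] at h1
          simpa [mul_assoc] using h1
        have eh : ∀ {a b}, Er a b → Er (R * a) (R⁻¹ * b) := by
          rintro a b ⟨e, he⟩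
          refine ⟨e, ?_⟩
          have h1 := hMh _ he
          rwa [show h * (aa X P₁ a * bb X P₁ b * x3 X θ P₀ e) * h⁻¹ =
            h * aa X P₁ a * h⁻¹ * (h * bb X P₁ b * h⁻¹) * (h * x3 X θ P₀ e * h⁻¹) by group, ha, hB, h3] at h1
        obtain ⟨s, hs⟩ : ∃ s : K, θ s + θ (θ s) ≠ 0 := by
          by_contra hcon
          simp only [not_exists, not_not] at hcon
          have hneg : ∀ x, θ x = -x := fun x => by
            obtain ⟨y, rfl⟩ : ∃ y, θ y = x := ⟨θ (θ x), θ3 θ hK hθ x⟩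
            exact eq_neg_of_add_eq_zero_right (hcon y)
          have h11 : (1 : K) = -1 := by have := hneg 1; rwa [map_one] at this
          have hfix : ∀ x : K, θ x = x := fun x => by
            rw [hneg x]
            linear_combination x * h11.symm
          have hle : Fintype.card K ≤ Nat.card (E₀ q θ) := by
            rw [← Nat.card_eq_fintype_card]
            exact Nat.card_le_card_of_injective (fun x => (⟨x, hfix x⟩ : E₀ q θ)) fun x y e => congrArg Subtype.val e
          rw [card_E₀ hK hq θ hθ, hK] at hle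
          have : q ^ 1 < q ^ 3 := Nat.pow_lt_pow_right (by omega) (by norm_num)
          rw [pow_one] at this
          omega
        have hb0 : Er 0 (θ s + θ (θ s)) := by
          have := eadd (eadd (epar (s + 1)) (eneg (epar s))) (eneg (epar 1))
          simp only [map_add, map_one, mul_one, neg_neg] at this
          convert this using 1 <;> ring
        let A : AddSubgroup K :=
          { carrier := {b | Er 0 b}
            add_mem' := fun {x y} hx hy => by
              have := eadd hx hy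
              rwa [add_zero] at this
            zero_mem' := e00
            neg_mem' := fun {x} hx => by
              have := eneg hx
              rwa [neg_zero] at this }
        have h3M : ∀ e, x3 X θ P₀ e ∈ M := by
          intro e
          obtain ⟨e₁, he₁⟩ := hb0
          rw [a0, one_mul] at he₁
          obtain ⟨w, hw⟩ := trsurj _ hs e
          have h1 := mul_mem (inv_mem he₁) (hMu w _ he₁)
          have h2 : x₁ X P₁ w * (bb X P₁ (θ s + θ (θ s)) * x3 X θ P₀ e₁) * (x₁ X P₁ w)⁻¹ =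
              bb X P₁ (θ s + θ (θ s)) * x3 X θ P₀ e₁ * x3 X θ P₀ e := by
            rw [← mul_assoc, conj_bb X θ hθ P₀ h₀ P₁ h₁, hw, mul_assoc (bb X P₁ _ * _),
              (cu3 w e₁).eq, ← mul_assoc, mul_inv_cancel_right, mul_assoc, mul_assoc,
              ← add3, ← add3, add_comm e e₁]
          rwa [h2, inv_mul_cancel_left] at h1
        have hBM : ∀ b, bb X P₁ b ∈ M := by
          intro b
          obtain ⟨e, he⟩ : b ∈ A := stable_top hK hq A (R := R⁻¹) (by
            rw [← hRord]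
            exact orderOf_eq_orderOf_iff.2 fun n => by rw [inv_pow, inv_eq_one])
            (fun y hy => by
              have := eh hy
              rwa [mul_zero] at this) hb0 hs b
          rw [a0, one_mul] at he
          exact (Subgroup.mul_mem_cancel_right M (h3M e)).1 he
        have hAM : ∀ a, aa X P₁ a ∈ M := by
          intro a
          obtain ⟨e, he⟩ := epar (-a)
          rw [neg_neg] at he
          exact (Subgroup.mul_mem_cancel_right M (hBM _)).1 ((Subgroup.mul_mem_cancel_right M (h3M e)).1 he)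
        refine hQ.le.trans ((Subgroup.closure_le _).2 ?_)
        rintro y ((((⟨v, rfl⟩ | ⟨v, rfl⟩) | ⟨v, rfl⟩) | ⟨v, rfl⟩) | ⟨v, rfl⟩)
        exacts [hMb v, h3M v, hMz v, hAM v, hBM v] }
  -- coordinates
  have hzc : ∀ c v : E₀ q θ, Commute (zz X θ P₀ c) (x₀ X θ P₀ v) := cb
  let cd : E₀ q θ × K × K × E₀ q θ × E₀ q θ → twistedD4 K q := fun x =>
    x₀ X θ P₀ x.1 * (aa X P₁ x.2.1 * (bb X P₁ x.2.2.1 * (x3 X θ P₀ x.2.2.2.1 * zz X θ P₀ x.2.2.2.2)))
  have cdQ : ∀ x, cd x ∈ Q := fun x => mul_mem (mb _) (mul_mem (ma _) (mul_mem (mB _) (mul_mem (m3 _) (mz _))))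
  have cdi : Function.Injective cd := by
    rintro ⟨t₁, a₁, b₁, e₁, c₁⟩ ⟨t₂, a₂, b₂, e₂, c₂⟩ he
    have he' : x₀ X θ P₀ t₁ * (aa X P₁ a₁ * (bb X P₁ b₁ * (x3 X θ P₀ e₁ * zz X θ P₀ c₁))) =
        x₀ X θ P₀ t₂ * (aa X P₁ a₂ * (bb X P₁ b₂ * (x3 X θ P₀ e₂ * zz X θ P₀ c₂))) := he
    have R3 : ∀ t a b e c, ⁅x₀ X θ P₀ t * (aa X P₁ a * (bb X P₁ b * (x3 X θ P₀ e * zz X θ P₀ c))),
        x3 X θ P₀ 1⁆ = zz X θ P₀ t := by
      intro t a b e c
      have k : Commute (aa X P₁ a * (bb X P₁ b * (x3 X θ P₀ e * zz X θ P₀ c))) (x3 X θ P₀ 1) :=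
        (ca3 a 1).mul_left ((cB3 b 1).mul_left (Commute.mul_left
          (show x3 X θ P₀ e * x3 X θ P₀ 1 = x3 X θ P₀ 1 * x3 X θ P₀ e by
            rw [← add3, add_comm, add3]) (c3 c 1)))
      rw [Lift.comm_mul_left, commutatorElement_eq_one_iff_commute.2 k, br, mul_one, mul_inv_cancel, one_mul,
        one_mul, mul_one]
    have e1 : t₁ = t₂ := zinj ((R3 t₁ a₁ b₁ e₁ c₁).symm.trans (he' ▸ R3 t₂ a₂ b₂ e₂ c₂))
    subst e1
    have he2 := mul_left_cancel he'
    have RB : ∀ a b e c v, ⁅aa X P₁ a * (bb X P₁ b * (x3 X θ P₀ e * zz X θ P₀ c)), bb X P₁ v⁆ =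
        zz X θ P₀ (tr θ hK hθ (a * v)) := by
      intro a b e c v
      have k : Commute (bb X P₁ b * (x3 X θ P₀ e * zz X θ P₀ c)) (bb X P₁ v) :=
        (cBB b v).mul_left ((cB3 v e).symm.mul_left (cB c v))
      rw [Lift.comm_mul_left, commutatorElement_eq_one_iff_commute.2 k, brAB, mul_one, mul_inv_cancel, one_mul]
    have e2 : a₁ = a₂ := by
      by_contra hne
      obtain ⟨v, hv⟩ := trsurj _ (sub_ne_zero.2 hne) 1
      have h1 := zinj ((RB a₁ b₁ e₁ c₁ v).symm.trans (he2 ▸ RB a₂ b₂ e₂ c₂ v))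
      refine one_ne_zero (hv.symm.trans (Subtype.ext ?_) : (1 : E₀ q θ) = 0)
      have h2 : a₁ * v + θ (a₁ * v) + θ (θ (a₁ * v)) = a₂ * v + θ (a₂ * v) + θ (θ (a₂ * v)) :=
        congrArg Subtype.val h1
      simp only [tr, ZeroMemClass.coe_zero, map_mul, map_sub] at h2 ⊢
      linear_combination h2
    subst e2
    have he3 := mul_left_cancel he2
    have RA : ∀ b e c v, ⁅bb X P₁ b * (x3 X θ P₀ e * zz X θ P₀ c), aa X P₁ v⁆ =
        (zz X θ P₀ (tr θ hK hθ (v * b)))⁻¹ := by
      intro b e c v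
      have k : Commute (x3 X θ P₀ e * zz X θ P₀ c) (aa X P₁ v) := (ca3 v e).symm.mul_left (ca c v)
      rw [Lift.comm_mul_left, commutatorElement_eq_one_iff_commute.2 k, ← commutatorElement_inv, brAB, mul_one,
        mul_inv_cancel, one_mul]
    have e3 : b₁ = b₂ := by
      by_contra hne
      obtain ⟨v, hv⟩ := trsurj _ (sub_ne_zero.2 hne) 1
      have h1 := zinj (inv_injective ((RA b₁ e₁ c₁ v).symm.trans (he3 ▸ RA b₂ e₂ c₂ v)))
      refine one_ne_zero (hv.symm.trans (Subtype.ext ?_) : (1 : E₀ q θ) = 0)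
      have h2 : v * b₁ + θ (v * b₁) + θ (θ (v * b₁)) = v * b₂ + θ (v * b₂) + θ (θ (v * b₂)) :=
        congrArg Subtype.val h1
      simp only [tr, ZeroMemClass.coe_zero, map_mul, map_sub] at h2 ⊢
      linear_combination h2
    subst e3
    have he4 := mul_left_cancel he3
    have RE : ∀ e c, ⁅x3 X θ P₀ e * zz X θ P₀ c, x₀ X θ P₀ 1⁆ = (zz X θ P₀ e)⁻¹ := by
      intro e c
      rw [Lift.comm_mul_left, commutatorElement_eq_one_iff_commute.2 (cb c 1), ← commutatorElement_inv, br,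
        mul_one, mul_inv_cancel, one_mul, one_mul, one_mul]
    have e4 : e₁ = e₂ := zinj (inv_injective ((RE e₁ c₁).symm.trans (he4 ▸ RE e₂ c₂)))
    subst e4
    rw [zinj (mul_left_cancel he4)]
  have hQcard : q ^ 9 ≤ Nat.card Q := by
    have := Nat.card_le_card_of_injective (fun x => (⟨cd x, cdQ x⟩ : Q)) fun x y e => cdi (congrArg Subtype.val e)
    simp only [Nat.card_prod, Nat.card_eq_fintype_card, Fintype.card_prod, hcardE, hK] at this
    rw [Nat.card_eq_fintype_card] 
    refine le_trans (le_of_eq ?_) this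
    ring
  have hQle : Q ≤ UK chevD4 (twistedD4 K q) := fun x hx => (Subgroup.mem_inf.1 (hQU hx)).1
  have hU : Q ⊔ Subgroup.closure (Set.range (x₁ X P₁)) = UK chevD4 (twistedD4 K q) := by
    refine Subgroup.eq_of_le_of_card_ge (sup_le hQle ((Subgroup.closure_le _).2 ?_)) ?_
    · rintro _ ⟨v, rfl⟩
      exact Xp_le_U X.O X.π_eq (hOr X) (k1 X) ((mem_Xp_iff X.O X.gen X.π_eq (hOr X) (k1 X) P₁).2 ⟨v, rfl⟩)
    · refine le_trans (le_of_eq ?_) (Nat.card_le_card_of_injective
        (fun x : K × (E₀ q θ × K × K × E₀ q θ × E₀ q θ) =>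
          (⟨x₁ X P₁ x.1 * cd x.2, mul_mem (Subgroup.mem_sup_right (Subgroup.subset_closure ⟨_, rfl⟩))
            (Subgroup.mem_sup_left (cdQ _))⟩ : (Q ⊔ Subgroup.closure (Set.range (x₁ X P₁)) : Subgroup _)))
        fun x y e => ?_)
      · have hUK : Nat.card (UK chevD4 (twistedD4 K q)) = q ^ 12 := by
          rw [← card_U X hq, ← Nat.card_congr (Subgroup.subgroupOfEquivOfLe (inf_le_right :
            chevD4.posUnipotent K ⊓ twistedD4 K q ≤ twistedD4 K q)).toEquiv, Subgroup.inf_subgroupOf_right]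
        rw [hUK]
        simp only [Nat.card_eq_fintype_card, Fintype.card_prod, hcardE, hK]
        ring
      · have e' : x₁ X P₁ x.1 * cd x.2 = x₁ X P₁ y.1 * cd y.2 := congrArg Subtype.val e
        have hd : x₁ X P₁ (x.1 - y.1) ∈ Q := by
          have h1 : x₁ X P₁ (x.1 - y.1) = cd y.2 * (cd x.2)⁻¹ := by
            rw [show x.1 - y.1 = -y.1 + x.1 by ring, addU, Rad.map_neg' addU, eq_mul_inv_iff_mul_eq,
              mul_assoc, e', inv_mul_cancel_left]
          exact h1 ▸ mul_mem (cdQ _) (inv_mem (cdQ _))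
        have h1 := D.disj _ hd
        have hxy : x.1 = y.1 := sub_eq_zero.1 (D.u1_inj (h1.trans (Rad.map_zero' addU).symm))
        rw [hxy] at e'
        exact Prod.ext hxy (cdi (mul_left_cancel e'))
  have hbig : if p = 2 then 4 < Fintype.card K else 10 < Fintype.card K := by
    have h8 : 2 ^ 3 ≤ q ^ 3 := Nat.pow_le_pow_left hq2 3
    split_ifs with hp
    · omega
    · have hf : f ≠ 0 := fun h => by rw [h, pow_zero] at hqp; omega
      have h3 : 3 ≤ q := hqp ▸ (le_trans (by have := (Fact.out : p.Prime).two_le; omega)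
        (Nat.le_self_pow hf p))
      have : 3 ^ 3 ≤ q ^ 3 := Nat.pow_le_pow_left h3 3
      omega
  rw [← hU]
  rcases Nat.lt_or_ge 2 q with hq3 | hq3
  · -- a scalar
    obtain ⟨w, hw0, hw1⟩ : ∃ w : E₀ q θ, w ≠ 0 ∧ w ≠ 1 := by
      by_contra hcon
      simp only [not_exists, not_and, not_not] at hcon
      have hsub : (Finset.univ : Finset (E₀ q θ)) ⊆ {0, 1} := fun x _ => by
        by_cases hx : x = 0
        · simp [hx]
        · simp [hcon x hx]
      have := Finset.card_le_card hsub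
      rw [Finset.card_univ, hcardE] at this
      have := Finset.card_le_two (a := (0 : E₀ q θ)) (b := 1)
      omega
    have hw0' : (w : K) ≠ 0 := fun e => hw0 (Subtype.ext e)
    obtain ⟨ζ, -, hζ⟩ := exists_tor X θ hθ P₀ h₀ P₁ h₁ (Units.mk0 (w : K) hw0' ^ 2) (Units.mk0 (w : K) hw0')
      (Units.ext (by simp [θE θ]))
    obtain ⟨zb, zu, za, zB, z3, zzc⟩ := hζ (w : K) 1
      (by simp only [Units.val_pow_eq_pow_val, Units.val_mk0, θE θ]; field_simp)
      (by simp [hw0']) w.2
    refine D.split_scalar C hbig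
      { ζ := ζ
        l₁ := w
        l₃ := w * nrm θ hK hθ 1
        μ := w ^ 2 * nrm θ hK hθ 1
        la := (w : K)
        lb := (w : K)
        l₁1 := hw1
        l₃1 := by rw [show nrm θ hK hθ 1 = 1 from Subtype.ext (by simp [nrm]), mul_one]; exact hw1
        la1 := fun e => hw1 (Subtype.ext e)
        lb1 := fun e => hw1 (Subtype.ext e)
        sb := zb
        s3 := z3
        sz := zzc
        sa := fun v => by rw [show D.aa = aa X P₁ from rfl, za, mul_one]
        sB := fun v => by rw [show D.bb = bb X P₁ from rfl, zB, map_one, map_one, mul_one, mul_one]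
        su := fun v => mul_inv_eq_iff_eq_mul.1 (by rw [show D.u1 = x₁ X P₁ from rfl, zu, one_mul]) }
  · have hq' : q = 2 := by omega
    refine D.split_two C hbig (hcardE.trans hq') ⟨(n₀ X * n₁ X)⁻¹, 1, ?_⟩ ?_
    · show (n₀ X * n₁ X)⁻¹ * (n₀ X * (n₁ X * x₀ X θ P₀ 1 * (n₁ X)⁻¹) * (n₀ X)⁻¹) * (n₀ X * n₁ X)⁻¹⁻¹ =
        x₀ X θ P₀ 1
      group
    · rw [hK, hcardE]
      have h9 : 2 ^ q ^ 3 * q ≤ q ^ 9 := by rw [hq']; norm_num
      exact h9.trans hQcard

end Cfsg.Agent.TwistMult.D4
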