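import Cfsg.Agent.Lib.TwistMult.OrthGood
import Cfsg.Agent.Lib.Chevalley.Twist.AutD4

/-!
A perfect central extension of a triality twisted group of order prime to the characteristic is trivial.
-/

set_option autoImplicit false
set_option linter.unusedSectionVars false

open scoped Matrix

namespace Cfsg.Agent.TwistMult.D4

open Cfsg.Lie Cfsg.Agent.Chevalley Cfsg.Agent.Chevalley.Table Cfsg.Agent.Chevalley.Cert
  Cfsg.Agent.Chevalley.Group Cfsg.Agent.Chevalley.Borel Cfsg.Agent.Chevalley.Twist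
  Cfsg.Agent.Chevalley.Twist.D4 Cfsg.Agent.Chevalley.WeylEnum

theorem braid_ok : ∀ a < 2, ∀ b < 2, a ≠ b →
    WeylGroup.wordOrdChk Data.D4.tab (Js.getD a [] ++ Js.getD b []) (2 * (2 + 1)) = true ∧
    ∀ i ∈ Js.getD b [], ∃ j ∈ Js.getD b [],
      applyW Data.D4.tab ((List.replicate 2 (Js.getD a [] ++ Js.getD b [])).flatten ++ Js.getD a [])
        (Data.D4.tab.simple i) = Data.D4.tab.simple j := by decide +kernel

variable {K : Type*} [Field K] [Fintype K] {q : ℕ} {hK : Fintype.card K = q ^ 3}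
  (X : Setup (K := K) hK)

theorem card_E₀ (hK : Fintype.card K = q ^ 3) (hq : IsPrimePow q) (θ : K →+* K) (hθ : ∀ t, θ t = t ^ q) :
    Nat.card (E₀ q θ) = q := by
  rw [← card_powfix (K := K) (n := 3) hq.two_le hK]
  exact Nat.card_congr (Equiv.subtypeEquivRight fun t => by
    show θ t = t ↔ _
    rw [hθ])

include X

/-- The fixed unipotent group has prime power order. -/
theorem isPGroup_U {p : ℕ} [Fact p.Prime] {f : ℕ} (hqp : q = p ^ f) (hq : IsPrimePow q) :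
    IsPGroup p (UK chevD4 (twistedD4 K q)) := by
  refine IsPGroup.of_card (n := f * 12) ?_
  rw [pow_mul, ← hqp, ← card_U X hq,
    ← Nat.card_congr (Subgroup.subgroupOfEquivOfLe (inf_le_right : chevD4.posUnipotent K ⊓
      twistedD4 K q ≤ twistedD4 K q)).toEquiv, Subgroup.inf_subgroupOf_right]

set_option maxHeartbeats 1600000 in
/-- A perfect extension with central kernel of order prime to the characteristic is trivial. -/
theorem ker_eq_bot {E : Type*} [Group E] [Finite E] {π : E →* twistedD4 K q} {p : ℕ} [Fact p.Prime]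
    [CharP K p] (hq : IsPrimePow q) (h : Ctx p π) (hperf : commutator E = ⊤) : π.ker = ⊥ := by
  classical
  haveI : Finite (twistedD4 K q) := Finite.of_injective _ Subtype.val_injective
  obtain ⟨f, hqp⟩ : ∃ f, q = p ^ f := by
    obtain ⟨r, k, hr, hk, rfl⟩ := hq
    obtain ⟨m, hp', hm⟩ := FiniteField.card K p
    refine ⟨k, ?_⟩
    have h1 : r ∣ p ^ (m : ℕ) := hm ▸ hK ▸ dvd_pow (dvd_pow_self r (by omega)) (by decide)
    rw [(Nat.prime_dvd_prime_iff_eq hr.nat_prime hp').1 (hr.nat_prime.dvd_of_dvd_pow h1)]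
  have hU := isPGroup_U X hqp hq
  obtain ⟨θ, hθ⟩ := E6.exists_powq (K := K) hq three_ne_zero hK
  obtain ⟨P₀, h₀⟩ := exists_par₀ X θ hθ
  obtain ⟨P₁, h₁⟩ := exists_par₁ X θ hθ
  obtain ⟨φ₀, hx₀, hy₀⟩ := Orth.exists_phi X.O X.gen X.π_eq (hOr X) (k0 X) P₀
  obtain ⟨φ₁, hx₁, hy₁⟩ := Orth.exists_phi X.O X.gen X.π_eq (hOr X) (k1 X) P₁
  let P := Orth.pair X.O X.gen X.π_eq (hOr X)
  have hTH : ∀ g ∈ P.B ⊓ P.N, (g : GL chevD4.Idx K) ∈ chevD4.diagonalSubgroup K := fun g hg =>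
    mem_H_of_inf hC ((mem_bnB X.O X.gen X.π_eq (hOr X)).1 (Subgroup.mem_inf.1 hg).1)
      (Subgroup.mem_inf.1 hg).2.1
  have hHT : ∀ g : twistedD4 K q, (g : GL chevD4.Idx K) ∈ chevD4.diagonalSubgroup K → g ∈ P.B ⊓ P.N :=
    fun g hg => Subgroup.mem_inf.2
      ⟨(mem_bnB X.O X.gen X.π_eq (hOr X)).2 (H_le_B hg), ⟨Subgroup.mem_sup_left hg, g.2⟩⟩
  have hx01 : ∀ {E : Type _} [Field E] {a : ℕ} (ha : a < X.O.k) (P : Par X.S (X.O.J a) E) (t : E), t ≠ 0 →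
      (xh X.O X.gen X.π_eq (hOr X) ha P t : GL chevD4.Idx K) ∈ chevD4.diagonalSubgroup K := by
    intro E _ a ha P t ht
    obtain ⟨d, hd⟩ := Orth.xh_mem_H X.O X.gen X.π_eq (hOr X) ha P ht
    rw [hd]; exact tor_mem_H hC d
  -- trivial torus elements
  have hp0 := xp_injective X.O X.gen X.π_eq (hOr X) (k0 X) P₀
  have hp1 := xp_injective X.O X.gen X.π_eq (hOr X) (k1 X) P₁
  have hinj₀ : ∀ s : E₀ q θ, s ≠ 0 → t₀ X θ P₀ s = 1 → s = 1 := fun s hs e => by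
    have e1 := conj₀₁ X θ hθ P₀ h₀ P₁ h₁ hs (1 : K)
    rw [e, one_mul, inv_one, mul_one, mul_one] at e1
    exact Subtype.ext (inv_eq_one.1 (hp1 e1).symm)
  have hinj₁ : ∀ t : K, t ≠ 0 → t₁ X P₁ t = 1 → t = 1 := fun t ht e => by
    have e1 := conj₁₁ X θ hθ P₀ h₀ P₁ h₁ ht (1 : K)
    rw [e, one_mul, inv_one, mul_one, mul_one] at e1
    have f2 : t ^ 2 = 1 := (hp1 e1).symm
    have e0 := conj₁₀ X θ hθ P₀ h₀ P₁ h₁ ht (1 : E₀ q θ)
    rw [e, one_mul, inv_one, mul_one, mul_one] at e0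
    have f3 : t * θ t * θ (θ t) = 1 := congrArg Subtype.val (inv_eq_one.1 (hp0 e0).symm)
    rcases sq_eq_one_iff.1 f2 with rfl | rfl
    · rfl
    · simpa using f3
  -- every torus element is a product
  have hcard0 : Nat.card (E₀ q θ)ˣ = q - 1 := by rw [Nat.card_units, card_E₀ hK hq θ hθ]
  have hcardK : Nat.card Kˣ = q ^ 3 - 1 := by
    rw [Nat.card_units, Nat.card_eq_fintype_card, hK]
  let Tg : Subgroup (twistedD4 K q) := P.B ⊓ P.N
  have hcardT : Nat.card Tg = (q - 1) * (q ^ 3 - 1) := by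
    have e : Tg = (chevD4.diagonalSubgroup K ⊓ twistedD4 K q).subgroupOf (twistedD4 K q) := by
      ext g
      rw [Subgroup.mem_subgroupOf]
      exact ⟨fun hg => Subgroup.mem_inf.2 ⟨hTH g hg, g.2⟩, fun hg => hHT g (Subgroup.mem_inf.1 hg).1⟩
    rw [e, Nat.card_congr (Subgroup.subgroupOfEquivOfLe inf_le_right).toEquiv, card_H X hq]
    have h3 : q ^ 3 - 1 = (q - 1) * (q ^ 2 + q + 1) := by
      obtain ⟨m, rfl⟩ : ∃ m, q = m + 1 := ⟨q - 1, by have := hq.two_le; omega⟩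
      rw [Nat.add_sub_cancel, Nat.sub_eq_iff_eq_add (Nat.one_le_pow _ _ (by omega))]
      ring
    rw [h3]; ring
  let F : (E₀ q θ)ˣ × Kˣ → Tg := fun st =>
    ⟨t₁ X P₁ (st.2 : K) * t₀ X θ P₀ (st.1 : E₀ q θ),
      mul_mem (hHT _ (hx01 (k1 X) P₁ _ st.2.ne_zero)) (hHT _ (hx01 (k0 X) P₀ _ st.1.ne_zero))⟩
  have hFi : Function.Injective F := by
    let G : (E₀ q θ)ˣ × Kˣ → (E₀ q θ)ˣ × Kˣ := fun st =>
      (st.1 ^ 2 * (Units.mk0 ⟨(st.2 : K) * θ st.2 * θ (θ st.2), norm_mem θ hθ hK st.2⟩ (by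
        intro h
        have h' := congrArg Subtype.val h
        simp at h'))⁻¹, st.2 ^ 2 * (Units.map (E₀ q θ).subtype.toMonoidHom st.1)⁻¹)
    have hG : Function.Injective G := Finite.injective_iff_surjective.2 fun c => by
      obtain ⟨s, t, e1, e2⟩ := exists_params θ hθ hK c.1 c.2
      exact ⟨(s, t), Prod.ext (Units.ext (Subtype.ext (by simpa [G] using e1))) (Units.ext (by simpa [G] using e2))⟩
    intro a b hab
    have hab' := congrArg Subtype.val hab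
    refine hG ?_
    have act : ∀ st : (E₀ q θ)ˣ × Kˣ,
        MulAut.conj ((F st : Tg) : twistedD4 K q) (x₀ X θ P₀ 1) = x₀ X θ P₀ ((G st).1 : E₀ q θ) ∧
        MulAut.conj ((F st : Tg) : twistedD4 K q) (x₁ X P₁ 1) = x₁ X P₁ ((G st).2 : K) := by
      intro st
      refine ⟨?_, ?_⟩
      · show MulAut.conj (t₁ X P₁ (st.2 : K) * t₀ X θ P₀ (st.1 : E₀ q θ)) _ = _
        rw [map_mul, MulAut.mul_apply, MulAut.conj_apply, MulAut.conj_apply,
          conj₀₀ X θ hθ P₀ h₀ P₁ h₁ st.1.ne_zero, mul_one,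
          conj₁₀ X θ hθ P₀ h₀ P₁ h₁ st.2.ne_zero]
        congr 1
        simp [G, mul_comm]
      · show MulAut.conj (t₁ X P₁ (st.2 : K) * t₀ X θ P₀ (st.1 : E₀ q θ)) _ = _
        rw [map_mul, MulAut.mul_apply, MulAut.conj_apply, MulAut.conj_apply,
          conj₀₁ X θ hθ P₀ h₀ P₁ h₁ st.1.ne_zero, mul_one,
          conj₁₁ X θ hθ P₀ h₀ P₁ h₁ st.2.ne_zero]
        congr 1
        simp [G]
    refine Prod.ext (Units.ext (hp0 ?_)) (Units.ext (hp1 ?_))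
    · exact (act a).1.symm.trans ((by rw [hab'] : _ = _).trans (act b).1)
    · exact (act a).2.symm.trans ((by rw [hab'] : _ = _).trans (act b).2)
  have hFs : Function.Surjective F := (Nat.bijective_iff_injective_and_card F).2
    ⟨hFi, by rw [Nat.card_prod, hcard0, hcardK, hcardT]⟩ |>.2
  -- the root data
  obtain ⟨s₀, hs₀⟩ : ∃ s : P.S, Orth.idx X.O X.gen X.π_eq (hOr X) s = 0 := by
    obtain ⟨s, hs⟩ := (Orth.idx_bij X.O X.gen X.π_eq (hOr X)).2 ⟨0, k0 X⟩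
    exact ⟨s, congrArg Fin.val hs⟩
  obtain ⟨s₁, hs₁⟩ : ∃ s : P.S, Orth.idx X.O X.gen X.π_eq (hOr X) s = 1 := by
    obtain ⟨s, hs⟩ := (Orth.idx_bij X.O X.gen X.π_eq (hOr X)).2 ⟨1, k1 X⟩
    exact ⟨s, congrArg Fin.val hs⟩
  let Ls : P.S → Subgroup (twistedD4 K q) := fun s =>
    Xs X.O X.π_eq (hOr X) (twistedD4 K q) false (Orth.idx_lt X.O X.gen X.π_eq (hOr X) s) ⊔
      Xs X.O X.π_eq (hOr X) (twistedD4 K q) true (Orth.idx_lt X.O X.gen X.π_eq (hOr X) s)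
  have hLs : ∀ s a (ha : a < X.O.k), Orth.idx X.O X.gen X.π_eq (hOr X) s = a →
      Ls s = Xs X.O X.π_eq (hOr X) (twistedD4 K q) false ha ⊔
        Xs X.O X.π_eq (hOr X) (twistedD4 K q) true ha := by
    intro s a ha e; subst e; rfl
  have htor : P.B ⊓ P.N ≤ ⨆ s, (P.B ⊓ P.N) ⊓ Ls s := by
    intro g hg
    obtain ⟨⟨s, t⟩, e⟩ := hFs ⟨g, hg⟩
    have e' : g = t₁ X P₁ (t : K) * t₀ X θ P₀ (s : E₀ q θ) := (congrArg Subtype.val e).symm
    have hin : ∀ {E : Type _} [Field E] {a : ℕ} (ha : a < X.O.k) (Q : Par X.S (X.O.J a) E) (u : E),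
        xh X.O X.gen X.π_eq (hOr X) ha Q u ∈ Xs X.O X.π_eq (hOr X) (twistedD4 K q) false ha ⊔
          Xs X.O X.π_eq (hOr X) (twistedD4 K q) true ha := by
      intro E _ a ha Q u
      have hp : ∀ v, xp X.O X.gen X.π_eq (hOr X) ha Q v ∈
          Xs X.O X.π_eq (hOr X) (twistedD4 K q) false ha ⊔ Xs X.O X.π_eq (hOr X) (twistedD4 K q) true ha :=
        fun v => Subgroup.mem_sup_left ((mem_Xp_iff X.O X.gen X.π_eq (hOr X) ha Q).2 ⟨v, rfl⟩)
      have hn : ∀ v, xn X.O X.gen X.π_eq (hOr X) ha Q v ∈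
          Xs X.O X.π_eq (hOr X) (twistedD4 K q) false ha ⊔ Xs X.O X.π_eq (hOr X) (twistedD4 K q) true ha :=
        fun v => Subgroup.mem_sup_right ((mem_Xn_iff X.O X.gen X.π_eq (hOr X) ha Q).2 ⟨v, rfl⟩)
      exact mul_mem (mul_mem (mul_mem (hp _) (hn _)) (hp _)) (mul_mem (mul_mem (hp _) (hn _)) (hp _))
    rw [e']
    exact mul_mem (Subgroup.mem_iSup_of_mem s₁ (Subgroup.mem_inf.2
        ⟨hHT _ (hx01 (k1 X) P₁ _ t.ne_zero), (hLs s₁ 1 (k1 X) hs₁).symm ▸ hin (k1 X) P₁ _⟩))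
      (Subgroup.mem_iSup_of_mem s₀ (Subgroup.mem_inf.2
        ⟨hHT _ (hx01 (k0 X) P₀ _ s.ne_zero), (hLs s₀ 0 (k0 X) hs₀).symm ▸ hin (k0 X) P₀ _⟩))
  have hbr : ∀ a < X.O.k, ∀ b < X.O.k, a ≠ b → Orth.BraidChk Data.D4.tab (X.O.J a) (X.O.J b) := by
    intro a ha b hb hab
    rw [X.J_eq, X.J_eq]
    exact Or.inl ⟨2, braid_ok a (X.k_eq ▸ ha) b (X.k_eq ▸ hb) hab⟩
  let R := Orth.root X.O X.gen X.π_eq (hOr X) p hU htor hbr
  haveI : Fintype P.S := Fintype.ofFinite _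
  haveI : Fintype (E₀ q θ) := Fintype.ofFinite _
  haveI : CharP (E₀ q θ) p :=
    RingHom.charP (E₀ q θ).subtype Subtype.val_injective p
  have hgood : ∀ s, Good p π (R.L s) := by
    intro s
    show Good p π (Ls s)
    have hb : Orth.idx X.O X.gen X.π_eq (hOr X) s < 2 := X.k_eq ▸ Orth.idx_lt X.O X.gen X.π_eq (hOr X) s
    obtain ⟨a, ha⟩ : ∃ a, Orth.idx X.O X.gen X.π_eq (hOr X) s = a := ⟨_, rfl⟩
    rw [ha] at hb
    interval_cases a
    · rw [hLs s 0 (k0 X) ha]; exact Orth.good X.O X.gen X.π_eq (hOr X) (k0 X) P₀ hx₀ hy₀ h hU hinj₀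
    · rw [hLs s 1 (k1 X) ha]; exact Orth.good X.O X.gen X.π_eq (hOr X) (k1 X) P₁ hx₁ hy₁ h hU hinj₁
  refine R.ker_eq_bot h hperf hgood ?_
  show ∏ s, Nat.card (Tg ⊓ Ls s : Subgroup (twistedD4 K q)) ≤ Nat.card Tg
  have hne : s₀ ≠ s₁ := fun e => by rw [e, hs₁] at hs₀; exact absurd hs₀ one_ne_zero
  have huniv : (Finset.univ : Finset P.S) = {s₀, s₁} := by
    refine (Finset.eq_univ_iff_forall.2 fun s => ?_).symm
    have hb : Orth.idx X.O X.gen X.π_eq (hOr X) s < 2 := X.k_eq ▸ Orth.idx_lt X.O X.gen X.π_eq (hOr X) s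
    rw [Finset.mem_insert, Finset.mem_singleton]
    rcases (by omega : Orth.idx X.O X.gen X.π_eq (hOr X) s = 0 ∨ Orth.idx X.O X.gen X.π_eq (hOr X) s = 1)
      with e | e
    · exact Or.inl ((Orth.idx_bij X.O X.gen X.π_eq (hOr X)).1 (Fin.ext (e.trans hs₀.symm)))
    · exact Or.inr ((Orth.idx_bij X.O X.gen X.π_eq (hOr X)).1 (Fin.ext (e.trans hs₁.symm)))
  rw [huniv, Finset.prod_pair hne, hLs s₀ 0 (k0 X) hs₀, hLs s₁ 1 (k1 X) hs₁, hcardT]
  refine Nat.mul_le_mul ((Orth.card_tor_le X.O X.gen X.π_eq (hOr X) (k0 X) P₀ hx₀ hy₀ hTH).trans (le_of_eq ?_))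
    ((Orth.card_tor_le X.O X.gen X.π_eq (hOr X) (k1 X) P₁ hx₁ hy₁ hTH).trans (le_of_eq (by rw [hK])))
  rw [← Nat.card_eq_fintype_card, card_E₀ hK hq θ hθ]

/-- The fixed unipotent group is a Sylow subgroup. -/
theorem exists_sylow {p f : ℕ} [Fact p.Prime] (hq : IsPrimePow q) (hqp : q = p ^ f) :
    ∃ P : Sylow p (twistedD4 K q), (P : Subgroup _) = UK chevD4 (twistedD4 K q) := by
  haveI : Finite (twistedD4 K q) := Finite.of_injective _ Subtype.val_injective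
  have hf : f ≠ 0 := fun h => by rw [h, pow_zero] at hqp; exact hq.ne_one hqp
  refine exists_sylow_UK p (f * 12) ((q ^ 2 - 1) * (q ^ 6 - 1) * (q ^ 8 + q ^ 4 + 1))
    (by rw [card_U X hq, pow_mul, ← hqp]) (by rw [card_group X hq, pow_mul, ← hqp]; ring) ?_
  have h2 := hq.two_le
  have hd : ∀ n, n ≠ 0 → p ∣ q ^ n := fun n hn => dvd_pow (hqp ▸ dvd_pow_self p hf) hn
  have hne : ∀ n, n ≠ 0 → ¬ p ∣ q ^ n - 1 := fun n hn h => by
    have h1 : 1 ≤ q ^ n := Nat.one_le_pow _ _ (by omega)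
    have := Nat.dvd_sub (hd n hn) h
    rw [Nat.sub_sub_self h1] at this
    exact (Fact.out : p.Prime).not_dvd_one this
  rw [(Fact.out : p.Prime).dvd_mul, (Fact.out : p.Prime).dvd_mul, not_or, not_or]
  refine ⟨⟨hne 2 two_ne_zero, hne 6 (by decide)⟩, fun h => ?_⟩
  have := Nat.dvd_sub h (dvd_add (hd 8 (by decide)) (hd 4 (by decide)))
  rw [Nat.add_sub_cancel_left] at this
  exact (Fact.out : p.Prime).not_dvd_one this

end Cfsg.Agent.TwistMult.D4
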