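import Cfsg.Agent.Lib.Chevalley.Twist.SimpleE6
import Cfsg.Agent.Lib.Chevalley.Twist.CountE6
import Cfsg.Agent.Lib.Chevalley.Cover.CenterE6
import Cfsg.Prelude.Def_KGroupFacts

/-!
A stem extension of a twisted group of type E6 with kernel of order three when three divides q + 1.
-/

set_option autoImplicit false
set_option linter.unusedSectionVars false

open scoped Matrix commutatorElement

namespace Cfsg.Agent.TwistMult.E6

open Cfsg.Lie Cfsg.Agent.Chevalley Cfsg.Agent.Chevalley.Table Cfsg.Agent.Chevalley.Cert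
  Cfsg.Agent.Chevalley.Group Cfsg.Agent.Chevalley.Cover Cfsg.Agent.Chevalley.StConj
  Cfsg.Agent.Chevalley.StKernel Cfsg.Agent.Chevalley.TorusCard
  Cfsg.Agent.Chevalley.Twist Cfsg.Agent.Chevalley.Twist.E6

theorem word_roots : (e6p1 = chevE6.simple 0 ∧ e6p6 = chevE6.simple 5 ∧ e6p3 = chevE6.simple 2 ∧
    e6p5 = chevE6.simple 4 ∧ e6m1 = chevE6.neg (chevE6.simple 0) ∧ e6m6 = chevE6.neg (chevE6.simple 5) ∧
    e6m3 = chevE6.neg (chevE6.simple 2) ∧ e6m5 = chevE6.neg (chevE6.simple 4)) ∧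
    ∀ r ∈ [(e6p1, e6p6), (e6m1, e6m6), (e6p3, e6p5), (e6m3, e6m5), (e6p1, e6m6), (e6m1, e6p6),
      (e6p3, e6m5), (e6m3, e6p5)], r.1 < chevE6.nroots ∧ r.2 < chevE6.nroots ∧
        noComm Data.E6.tab r.1 r.2 = true := by decide +kernel

theorem single_lt : ∀ r ∈ [e6p2, e6m2, e6p4, e6m4], r < chevE6.nroots := by decide +kernel

universe u

variable {K : Type u} [Field K]

theorem scGen_commute {r s : ℕ} (hr : r < chevE6.nroots) (hs : s < chevE6.nroots)
    (h : noComm Data.E6.tab r s = true) (t v : K) :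
    Commute (chevE6.scGen K r t) (chevE6.scGen K s v) := by
  obtain ⟨h1, h2, h3⟩ := noComm_spec hC hr hs h
  have e := Sys.scGen_comm (F := K) hr hs h1 h2 t v
  rw [ChevalleyDatum.commWord, h3, List.map_nil, List.map_nil, List.prod_nil, mul_one] at e
  exact e.symm

/-- The lift of a word. -/
noncomputable def liftW (w : List (ℕ × K)) : chevE6.SteinbergCover K :=
  (w.map fun p => chevE6.scGen K p.1 p.2).prod

theorem th_liftW {w : List (ℕ × K)} (hw : ∀ p ∈ w, p.1 < chevE6.nroots) :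
    Sys.th hC (liftW w) = wordGL hC w := by
  rw [liftW, wordGL, map_list_prod, List.map_map]
  exact congrArg List.prod (List.map_congr_left fun p hp => Sys.th_gen hC _ (hw p hp) _)

variable [Fintype K] {q : ℕ} {hK : Fintype.card K = q ^ 2} (X : Setup (K := K) hK)
include X

theorem exists_cover (hq : IsPrimePow q) (h3 : 3 ∣ q + 1) :
    ∃ (Γ : Type u) (_ : Group Γ) (_ : Finite Γ) (σ : Γ →* twistedE6 K q),
      Cfsg.IsStemExtension σ ∧ Nat.card σ.ker = 3 := by
  classical
  obtain ⟨ρ, hρ⟩ := Rep.exists_rep (F := K) hC SLE6.ok RepE6.rel_ok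
  let Φ : chevE6.SteinbergCover K →* GL (Fin RepE6.tab.N) K × GL chevE6.Idx K := ρ.prod (Sys.th hC)
  let W : Subgroup (chevE6.SteinbergCover K) := Subgroup.closure (liftW '' e6Words K q)
  have hword : ∀ w ∈ e6Words K q, ∀ p ∈ w, p.1 < chevE6.nroots := by
    rintro w (⟨t, -, r, hr, rfl⟩ | ⟨t, rs, hrs, rfl⟩) p hp
    · rw [List.mem_singleton.1 hp]; exact single_lt r hr
    · have h := word_roots.2 rs (by
        simp only [List.mem_cons, List.not_mem_nil, or_false] at hrs ⊢
        tauto)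
      simp only [List.mem_cons, List.not_mem_nil, or_false] at hp
      rcases hp with rfl | rfl
      · exact h.1
      · exact h.2.1
  let Γ₀ := W.map Φ
  haveI : Finite Γ₀ := inferInstance
  have hsnd : W.map (Sys.th hC) = twistedE6 K q := by
    rw [twistedE6, genSubgroup_eq hC, MonoidHom.map_closure, ← Set.image_comp]
    congr 1
    exact Set.image_congr fun w hw => th_liftW (hword w hw)
  let σ₀ : Γ₀ →* twistedE6 K q :=
    ((MonoidHom.snd _ _).comp Γ₀.subtype).codRestrict _ fun x => by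
      obtain ⟨w, hw, e⟩ := x.2
      rw [← hsnd]
      exact ⟨w, hw, congrArg Prod.snd e⟩
  have hsurj : Function.Surjective σ₀ := fun y => by
    obtain ⟨w, hw, e⟩ : (y : GL chevE6.Idx K) ∈ W.map (Sys.th hC) := hsnd.symm ▸ y.2
    exact ⟨⟨Φ w, w, hw, rfl⟩, Subtype.ext e⟩
  -- the kernel is central of order dividing three
  have hTcert : HasCerts Data.E6.tab := hT
  have hkc : ∀ x : Γ₀, σ₀ x = 1 → (x : GL (Fin RepE6.tab.N) K × GL chevE6.Idx K) ∈
      (Subgroup.center (chevE6.SteinbergCover K)).map Φ := fun x hx => by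
    obtain ⟨w, hw, e⟩ := x.2
    refine ⟨w, ?_, e⟩
    have h := StSteinberg.center_eq_ker (Sys.scSys (F := K) hC) hTcert
    rw [SetLike.mem_coe, ← h, MonoidHom.mem_ker]
    exact (congrArg Prod.snd e).trans (congrArg Subtype.val hx)
  have hcen : σ₀.ker ≤ Subgroup.center Γ₀ := fun x hx => Subgroup.mem_center_iff.2 fun y => by
    obtain ⟨c, hc, e⟩ := hkc x hx
    obtain ⟨w, hw, e'⟩ := y.2
    refine Subtype.ext ?_
    rw [Subgroup.coe_mul, Subgroup.coe_mul, ← e, ← e', ← map_mul, ← map_mul,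
      Subgroup.mem_center_iff.1 hc w]
  have hdvd : Nat.card σ₀.ker ∣ 3 := by
    have hcard : Nat.card (Subgroup.center (chevE6.SteinbergCover K)) = 3 := by
      rw [CenterE6.center_card, hK]
      refine Nat.gcd_eq_left (h3.trans ⟨q - 1, ?_⟩)
      rw [← Nat.sq_sub_sq q 1]
    refine dvd_trans ?_ (dvd_trans (Subgroup.card_map_dvd (Subgroup.center (chevE6.SteinbergCover K)) Φ) (hcard ▸ dvd_rfl))
    rw [Nat.card_congr (Subgroup.equivMapOfInjective σ₀.ker Γ₀.subtype Subtype.val_injective).toEquiv]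
    refine Subgroup.card_dvd_of_le ?_
    rintro _ ⟨x, hx, rfl⟩
    exact hkc x hx
  -- the commutator subgroup maps onto the group
  have hperf := perfect X hq
  have hsurj₁ : ∀ y, ∃ x ∈ commutator Γ₀, σ₀ x = y := fun y => by
    have : y ∈ (commutator Γ₀).map σ₀ := by
      rw [commutator_def, Subgroup.map_commutator, Subgroup.map_top_of_surjective σ₀ hsurj, ← commutator_def,
        hperf]
      exact Subgroup.mem_top y
    exact this
  -- every element is in the commutator subgroup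
  obtain ⟨p, hp⟩ := CharP.exists K
  haveI := Fact.mk (CharP.char_is_prime K p)
  have hp3 : p ≠ 3 := by
    rintro rfl
    obtain ⟨r, f, hr, hf, hrf⟩ := id hq
    obtain ⟨m, hp', hm⟩ := FiniteField.card K 3
    have h1 : r ∣ 3 ^ (m : ℕ) := hm ▸ hK ▸ dvd_pow (hrf ▸ dvd_pow_self r (by omega)) (by decide)
    have h2 := (Nat.prime_dvd_prime_iff_eq hr.nat_prime hp').1 (hr.nat_prime.dvd_of_dvd_pow h1)
    have h4 : 3 ∣ q := hrf ▸ h2 ▸ dvd_pow_self r (by omega)
    have := Nat.dvd_sub h3 h4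
    rw [Nat.add_sub_cancel_left] at this
    omega
  have hpow : ∀ {r : ℕ}, r < chevE6.nroots → ∀ (t : K) (n : ℕ),
      chevE6.scGen K r t ^ n = chevE6.scGen K r ((n : K) * t) := by
    intro r hr t n
    induction n with
    | zero =>
      rw [pow_zero, Nat.cast_zero, zero_mul]
      have := Sys.scGen_add (F := K) hr 0 0
      rw [add_zero] at this
      exact (left_eq_mul.1 this).symm
    | succ n ih => rw [pow_succ, ih, Nat.cast_succ, add_mul, one_mul, Sys.scGen_add hr]
  have hwp : ∀ w ∈ e6Words K q, liftW w ^ p = 1 := by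
    have hz : ∀ {r : ℕ}, r < chevE6.nroots → ∀ t : K, chevE6.scGen K r t ^ p = 1 := fun {r} hr t => by
      rw [hpow hr, CharP.cast_eq_zero, zero_mul]
      have := Sys.scGen_add (F := K) hr 0 0
      rw [add_zero] at this
      exact left_eq_mul.1 this
    rintro w (⟨t, -, r, hr, rfl⟩ | ⟨t, rs, hrs, rfl⟩)
    · simpa [liftW] using hz (single_lt r hr) t
    · obtain ⟨h1, h2, h4⟩ := word_roots.2 rs (by
        simp only [List.mem_cons, List.not_mem_nil, or_false] at hrs ⊢
        tauto)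
      rw [liftW, List.map_cons, List.map_cons, List.map_nil, List.prod_cons, List.prod_cons,
        List.prod_nil, mul_one, (scGen_commute h1 h2 h4 _ _).mul_pow, hz h1, hz h2, one_mul]
  have htop : commutator Γ₀ = ⊤ := by
    rw [eq_top_iff]
    rintro ⟨g, hg⟩ -
    obtain ⟨c, hc, rfl⟩ := hg
    induction hc using Subgroup.closure_induction with
    | mem y hy =>
      obtain ⟨w, hw, rfl⟩ := hy
      obtain ⟨x, hx⟩ : ∃ x : Γ₀, x = ⟨Φ (liftW w), _, Subgroup.subset_closure ⟨w, hw, rfl⟩, rfl⟩ :=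
        ⟨_, rfl⟩
      have hxp : x ^ p = 1 := Subtype.ext (by
        rw [hx, Subgroup.coe_pow, ← map_pow, hwp w hw, map_one, OneMemClass.coe_one])
      obtain ⟨y, hy, e⟩ := hsurj₁ (σ₀ x)
      obtain ⟨k, hk⟩ : ∃ k, k = y⁻¹ * x := ⟨_, rfl⟩
      have hkk : k ∈ σ₀.ker := by rw [hk, MonoidHom.mem_ker, map_mul, map_inv, e, inv_mul_cancel]
      have hk3 : k ^ 3 = 1 := by
        have := pow_card_eq_one' (x := (⟨k, hkk⟩ : σ₀.ker))
        obtain ⟨c, hc⟩ := hdvd
        rw [hc, pow_mul, show k ^ Nat.card σ₀.ker = 1 from congrArg Subtype.val this, one_pow]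
      have hkp : k ^ p ∈ commutator Γ₀ := by
        have e2 : x ^ p = y ^ p * k ^ p := by
          rw [← Commute.mul_pow (Subgroup.mem_center_iff.1 (hcen hkk) y), hk, mul_inv_cancel_left]
        rw [hxp] at e2
        rw [eq_inv_of_mul_eq_one_right e2.symm]
        exact inv_mem (pow_mem hy p)
      have hkC : k ∈ commutator Γ₀ := by
        have hcop : Nat.Coprime p 3 := (Nat.coprime_primes Fact.out (by norm_num)).2 hp3
        obtain ⟨a, ha⟩ : ∃ a : ℕ, (p * a) % 3 = 1 := ⟨p % 3, by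
          have : p % 3 = 1 ∨ p % 3 = 2 := by
            have : ¬ 3 ∣ p := fun h => hp3 ((Nat.prime_dvd_prime_iff_eq (by norm_num) Fact.out).1 h).symm
            omega
          rw [Nat.mul_mod]
          rcases this with h | h <;> simp [h]⟩
        have e3 : k = (k ^ p) ^ a := by
          rw [← pow_mul, ← Nat.div_add_mod (p * a) 3, pow_add, pow_mul, hk3, one_pow, one_mul, ha, pow_one]
        rw [e3]
        exact pow_mem hkp a
      have hfin : x ∈ commutator Γ₀ := by
        rw [show x = y * k by rw [hk, mul_inv_cancel_left]]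
        exact mul_mem hy hkC
      exact hx ▸ hfin
    | one => convert one_mem (commutator Γ₀); exact Subtype.ext (map_one Φ)
    | mul a b ha hb iha ihb => convert mul_mem iha ihb using 1; exact Subtype.ext (map_mul Φ a b)
    | inv a ha iha => convert inv_mem iha using 1; exact Subtype.ext (map_inv Φ a)
  refine ⟨Γ₀, inferInstance, inferInstance, σ₀, ⟨hsurj, hcen, htop ▸ le_top⟩, ?_⟩
  refine ((Nat.dvd_prime (by norm_num : Nat.Prime 3)).1 hdvd).resolve_left fun h1 => ?_
  -- an element of the kernel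
  obtain ⟨z, hz⟩ : ∃ z : Kˣ, orderOf z = 3 := by
    haveI := Fact.mk (by norm_num : Nat.Prime 3)
    refine exists_prime_orderOf_dvd_card' 3 ?_
    rw [Nat.card_units, Nat.card_eq_fintype_card, hK]
    exact h3.trans ⟨q - 1, by rw [← Nat.sq_sub_sq q 1]⟩
  have hz3 : z ^ 3 = 1 := hz ▸ pow_orderOf_eq_one z
  have hzq : z ^ q = z⁻¹ := by
    rw [eq_inv_iff_mul_eq_one, ← pow_succ]
    exact orderOf_dvd_iff_pow_eq_one.1 (hz ▸ h3)
  obtain ⟨r0, r5, r2, r4, m0, m5, m2, m4⟩ := word_roots.1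
  have hpair : ∀ r ∈ [(e6p1, e6p6), (e6p3, e6p5)], ∀ s ∈ [(e6m1, e6m6), (e6m3, e6m5)],
      (r.1 = e6p1 ↔ s.1 = e6m1) → ∀ a : K, a ≠ 0 →
      s.1 = chevE6.neg r.1 → s.2 = chevE6.neg r.2 → ∀ b, b = a ^ q →
        nb (Sys.scSys (F := K) hC) r.1 a * nb (Sys.scSys (F := K) hC) r.2 b ∈ W := by
    intro r hr s hs hiff a ha e1 e2 b hb
    have hmem : ∀ rs ∈ [(e6p1, e6p6), (e6m1, e6m6), (e6p3, e6p5), (e6m3, e6m5)], ∀ t : K,
        chevE6.scGen K rs.1 t * chevE6.scGen K rs.2 (t ^ q) ∈ W := fun rs hrs t => by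
      refine Subgroup.subset_closure ⟨[(rs.1, t), (rs.2, t ^ q)], Or.inr ⟨t, rs, hrs, rfl⟩, ?_⟩
      simp [liftW]
    have hrlist : r ∈ [(e6p1, e6p6), (e6m1, e6m6), (e6p3, e6p5), (e6m3, e6m5)] ∧
        s ∈ [(e6p1, e6p6), (e6m1, e6m6), (e6p3, e6p5), (e6m3, e6m5)] := by
      simp only [List.mem_cons, List.not_mem_nil, or_false] at hr hs ⊢
      tauto
    have hq' : (-a⁻¹) ^ q = -b⁻¹ := by
      obtain ⟨θ, hθ⟩ := exists_powq (K := K) hq two_ne_zero hK
      rw [hb, ← hθ, ← hθ, map_neg, map_inv₀]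
    have hA := hmem r hrlist.1 a
    have hB := hmem s hrlist.2 (-a⁻¹)
    rw [← hb] at hA
    rw [hq', e1, e2] at hB
    have hcm := word_roots.2
    have c1 : Commute (chevE6.scGen K r.2 b) (chevE6.scGen K (chevE6.neg r.1) (-a⁻¹)) := by
      rw [← e1]
      simp only [List.mem_cons, List.not_mem_nil, or_false] at hr hs
      rcases hr with rfl | rfl <;> rcases hs with rfl | rfl
      · obtain ⟨h1, h2, h4⟩ := hcm (e6m1, e6p6) (by simp)
        exact (scGen_commute h1 h2 h4 _ _).symm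
      · exact absurd (hiff.1 rfl) (by decide)
      · exact absurd (hiff.2 rfl) (by decide)
      · obtain ⟨h1, h2, h4⟩ := hcm (e6m3, e6p5) (by simp)
        exact (scGen_commute h1 h2 h4 _ _).symm
    have c2 : Commute (chevE6.scGen K r.1 a) (chevE6.scGen K (chevE6.neg r.2) (-b⁻¹)) := by
      rw [← e2]
      simp only [List.mem_cons, List.not_mem_nil, or_false] at hr hs
      rcases hr with rfl | rfl <;> rcases hs with rfl | rfl
      · obtain ⟨h1, h2, h4⟩ := hcm (e6p1, e6m6) (by simp)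
        exact scGen_commute h1 h2 h4 _ _
      · exact absurd (hiff.1 rfl) (by decide)
      · exact absurd (hiff.2 rfl) (by decide)
      · obtain ⟨h1, h2, h4⟩ := hcm (e6p3, e6m5) (by simp)
        exact scGen_commute h1 h2 h4 _ _
    have c3 : Commute (chevE6.scGen K r.1 a) (chevE6.scGen K r.2 b) := by
      obtain ⟨h1, h2, h4⟩ := hcm r (by simp only [List.mem_cons, List.not_mem_nil, or_false] at hr ⊢; tauto)
      exact scGen_commute h1 h2 h4 _ _
    have := mul_mem (mul_mem hA hB) hA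
    convert this using 1
    simp only [nb, Sys.scSys]
    generalize chevE6.scGen K r.1 a = x at c2 c3 ⊢
    generalize chevE6.scGen K r.2 b = y at c1 c3 ⊢
    generalize chevE6.scGen K (chevE6.neg r.1) (-a⁻¹) = x' at c1 ⊢
    generalize chevE6.scGen K (chevE6.neg r.2) (-b⁻¹) = y' at c2 ⊢
    calc x * x' * x * (y * y' * y) = x * x' * (x * y) * y' * y := by group
      _ = x * (x' * y) * (x * y') * y := by rw [c3.eq]; group
      _ = x * (y * x') * (y' * x) * y := by rw [c1.eq, c2.eq]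
      _ = x * y * (x' * y') * (x * y) := by group
  have hhb : ∀ r ∈ [(e6p1, e6p6), (e6p3, e6p5)], ∀ v : Kˣ,
      hb (Sys.scSys (F := K) hC) r.1 (v : K) * hb (Sys.scSys (F := K) hC) r.2 ((v ^ q : Kˣ) : K) ∈ W := by
    intro r hr v
    have hq' : (-1 : K) ^ q = -1 := by
      obtain ⟨θ, hθ⟩ := exists_powq (K := K) hq two_ne_zero hK
      rw [← hθ, map_neg, map_one]
    obtain ⟨s, hs, hiff, e1, e2, hc⟩ : ∃ s ∈ [(e6m1, e6m6), (e6m3, e6m5)],
        (r.1 = e6p1 ↔ s.1 = e6m1) ∧ s.1 = chevE6.neg r.1 ∧ s.2 = chevE6.neg r.2 ∧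
        ∀ a b : K, Commute (nb (Sys.scSys (F := K) hC) r.1 a) (nb (Sys.scSys (F := K) hC) r.2 b) := by
      have hcm := word_roots.2
      simp only [List.mem_cons, List.not_mem_nil, or_false] at hr
      have hnb : ∀ {a1 a2 b1 b2 : ℕ}, (a1, a2) ∈ [(e6p1, e6p6), (e6p3, e6p5)] → b1 = chevE6.neg a1 →
          b2 = chevE6.neg a2 → (∀ p ∈ [(a1, a2), (a1, b2), (b1, a2), (b1, b2)],
            p.1 < chevE6.nroots ∧ p.2 < chevE6.nroots ∧ noComm Data.E6.tab p.1 p.2 = true) →
          ∀ a b : K, Commute (nb (Sys.scSys (F := K) hC) a1 a) (nb (Sys.scSys (F := K) hC) a2 b) := by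
        intro a1 a2 b1 b2 _ hb1 hb2 h a b
        subst hb1 hb2
        simp only [nb, Sys.scSys]
        have C := fun p hp t v => scGen_commute (K := K) (h p hp).1 (h p hp).2.1 (h p hp).2.2 t v
        have q1 := C (a1, a2) (by simp)
        have q2 := C (a1, chevE6.neg a2) (by simp)
        have q3 := C (chevE6.neg a1, a2) (by simp)
        have q4 := C (chevE6.neg a1, chevE6.neg a2) (by simp)
        exact ((((q1 _ _).mul_right (q2 _ _)).mul_right (q1 _ _)).mul_left
          (((q3 _ _).mul_right (q4 _ _)).mul_right (q3 _ _))).mul_left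
          (((q1 _ _).mul_right (q2 _ _)).mul_right (q1 _ _))
      rcases hr with rfl | rfl
      · exact ⟨(e6m1, e6m6), by simp, ⟨fun _ => rfl, fun _ => rfl⟩, m0.trans (congrArg _ r0.symm),
          m5.trans (congrArg _ r5.symm), hnb (by simp) (m0.trans (congrArg _ r0.symm))
            (m5.trans (congrArg _ r5.symm)) fun p hp => hcm p (by
              simp only [List.mem_cons, List.not_mem_nil, or_false] at hp ⊢; tauto)⟩
      · exact ⟨(e6m3, e6m5), by simp, ⟨fun h => absurd h (by decide), fun h => absurd h (by decide)⟩,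
          m2.trans (congrArg _ r2.symm), m4.trans (congrArg _ r4.symm),
          hnb (by simp) (m2.trans (congrArg _ r2.symm)) (m4.trans (congrArg _ r4.symm)) fun p hp => hcm p (by
              simp only [List.mem_cons, List.not_mem_nil, or_false] at hp ⊢; tauto)⟩
    have h1 := hpair r hr s hs hiff (v : K) v.ne_zero e1 e2 ((v ^ q : Kˣ) : K) (Units.val_pow_eq_pow_val _ _)
    have h2 := hpair r hr s hs hiff (-1) (neg_ne_zero.2 one_ne_zero) e1 e2 (-1) hq'.symm
    have := mul_mem h1 h2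
    rwa [show ∀ a b c d : chevE6.SteinbergCover K, a * b * (c * d) = a * (b * c) * d from fun a b c d => by group,
      ← (hc (-1) ((v ^ q : Kˣ) : K)).eq, ← mul_assoc, mul_assoc] at this
  obtain ⟨w, hw⟩ : ∃ w, w = hb (Sys.scSys (F := K) hC) e6p1 (z : K) *
      hb (Sys.scSys (F := K) hC) e6p6 ((z ^ q : Kˣ) : K) *
      (hb (Sys.scSys (F := K) hC) e6p3 ((z⁻¹ : Kˣ) : K) *
      hb (Sys.scSys (F := K) hC) e6p5 (((z⁻¹) ^ q : Kˣ) : K)) := ⟨_, rfl⟩
  have hwW : w ∈ W := hw ▸ mul_mem (hhb (e6p1, e6p6) (by simp) z) (hhb (e6p3, e6p5) (by simp) z⁻¹)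
  have hlt : ∀ i < 6, chevE6.simple i < chevE6.nroots := by decide +kernel
  have hwth : Sys.th hC w = 1 := by
    have e : ∀ i < 6, ∀ v : Kˣ, Sys.th hC (hb (Sys.scSys (F := K) hC) (chevE6.simple i) (v : K)) =
        tor chevE6 fun j => if i = j then v else 1 := fun i hi v => by
      refine (th_hb (Sys.scSys (F := K) hC) (hlt i hi) (v : K)).trans ?_
      rw [hg_eq_tor hC (hlt i hi)]
      refine dg_congr fun s _ => Finset.prod_congr rfl fun j hj => ?_
      simp only []
      rw [hC.cor_simple (show i < chevE6.rank from hi.trans_eq (by decide)) (Finset.mem_range.1 hj)]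
      split <;> simp
    rw [hw, r0, r5, r2, r4, map_mul, map_mul, map_mul, e 0 (by decide), e 5 (by decide), e 2 (by decide),
      e 4 (by decide), tor_mul, tor_mul, tor_mul]
    have hk : (fun j : Fin chevE6.rank => (![z, 1, z⁻¹, 1, z, z⁻¹] : Fin 6 → Kˣ) j) ∈ (torHom chevE6 K).ker := by
      rw [ker_torHom hC, MonoidHom.mem_ker]
      refine (Twist.E6.ker_iff _).2 ?_
      have h2 : z ^ 2 = z⁻¹ := by rw [eq_inv_iff_mul_eq_one, ← pow_succ]; exact hz3
      simp [inv_pow, h2]
    rw [MonoidHom.mem_ker] at hk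
    refine Eq.trans ?_ hk
    show _ = tor chevE6 _
    refine dg_congr fun s _ => Finset.prod_congr rfl fun j hj => ?_
    have hj6 : j < 6 := (Finset.mem_range.1 hj).trans_eq (by decide)
    rw [TorusCard.ext, dif_pos (Finset.mem_range.1 hj)]
    congr 1
    interval_cases j <;> simp [Pi.mul_apply, hzq, inv_pow] <;> rfl
  have hmem : (⟨Φ w, w, hwW, rfl⟩ : Γ₀) ∈ σ₀.ker := MonoidHom.mem_ker.2 (Subtype.ext hwth)
  rw [Subgroup.card_eq_one] at h1
  rw [h1, Subgroup.mem_bot] at hmem
  have hρw : ρ w = 1 := congrArg Prod.fst (congrArg Subtype.val hmem)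
  have hN : 0 < RepE6.tab.N := by decide
  have htv := fun (i : ℕ) (hi : i < chevE6.rank) (a : K) (ha : a ≠ 0) =>
    MinCenter.hb_top hC RepE6.rel_ok hρ RepE6.top_ok hN hi ha
  have e := congrArg (fun g : GL (Fin RepE6.tab.N) K =>
    (g : Matrix (Fin RepE6.tab.N) (Fin RepE6.tab.N) K) *ᵥ MinCenter.vec K RepE6.tab 0) hρw
  rw [hw, r0, r5, r2, r4] at e
  simp only [map_mul, Units.val_mul, ← Matrix.mulVec_mulVec, Units.val_one, Matrix.one_mulVec] at e
  rw [htv 4 (by decide) _ (Units.ne_zero _), if_neg (by decide), one_smul,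
    htv 2 (by decide) _ (Units.ne_zero _), if_neg (by decide), one_smul,
    htv 5 (by decide) _ (Units.ne_zero _), if_neg (by decide), one_smul,
    htv 0 (by decide) _ (Units.ne_zero _), if_pos rfl] at e
  have e' := congrFun e ⟨0, hN⟩
  simp only [MinCenter.vec, Pi.smul_apply, if_pos, smul_eq_mul, mul_one] at e'
  rw [show z = 1 from Units.ext e', orderOf_one] at hz
  exact absurd hz (by decide)

end Cfsg.Agent.TwistMult.E6
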