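import Cfsg.Agent.Lib.Chevalley.Twist.CountE6

/-!
The graph automorphism on the roots of type E6, the layers of the twisted unipotent group by height,
and witnesses separating their characters on the fixed torus.
-/

set_option autoImplicit false
set_option maxRecDepth 100000

namespace Cfsg.Agent.TwistMult.E6

open Cfsg.Lie Cfsg.Agent.Chevalley Cfsg.Agent.Chevalley.Check Cfsg.Agent.Chevalley.Twist

/-- The pairings of the roots with the fundamental coroots. -/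
def pairs : List (List ℤ) :=
  [
    [0, -1, 0, 0, 0, 0], [0, 1, 0, -1, 0, 0], [0, 0, -1, 1, -1, 0], [0, 0, -1, 0, 1, -1],
    [0, 0, -1, 0, 0, 1], [-1, 0, 1, 0, -1, 0], [-1, 0, 1, -1, 1, -1], [-1, 0, 1, -1, 0, 1],
    [-1, -1, 0, 1, 0, -1], [-1, -1, 0, 1, -1, 1], [-1, -1, 0, 0, 1, 0], [-1, 1, 0, 0, 0, -1],
    [-1, 1, 0, 0, -1, 1], [-1, 1, 0, -1, 1, 0], [-1, 0, -1, 1, 0, 0], [-2, 0, 1, 0, 0, 0],
    [1, 0, 0, 0, -1, 0], [1, 0, 0, -1, 1, -1], [1, 0, 0, -1, 0, 1], [1, -1, -1, 1, 0, -1],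
    [1, -1, -1, 1, -1, 1], [1, -1, -1, 0, 1, 0], [0, -1, 1, 0, 0, -1], [0, -1, 1, 0, -1, 1],
    [0, -1, 1, -1, 1, 0], [0, -2, 0, 1, 0, 0], [1, 1, -1, 0, 0, -1], [1, 1, -1, 0, -1, 1],
    [1, 1, -1, -1, 1, 0], [1, 0, -2, 1, 0, 0], [0, 1, 1, -1, 0, -1], [0, 1, 1, -1, -1, 1],
    [0, 1, 1, -2, 1, 0], [0, 0, 0, 1, -1, -1], [0, 0, 0, 1, -2, 1], [0, 0, 0, 0, 1, -2],
    [0, 0, 0, 0, -1, 2], [0, 0, 0, -1, 2, -1], [0, 0, 0, -1, 1, 1], [0, -1, -1, 2, -1, 0],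
    [0, -1, -1, 1, 1, -1], [0, -1, -1, 1, 0, 1], [-1, 0, 2, -1, 0, 0], [-1, -1, 1, 1, -1, 0],
    [-1, -1, 1, 0, 1, -1], [-1, -1, 1, 0, 0, 1], [0, 2, 0, -1, 0, 0], [0, 1, -1, 1, -1, 0],
    [0, 1, -1, 0, 1, -1], [0, 1, -1, 0, 0, 1], [-1, 1, 1, 0, -1, 0], [-1, 1, 1, -1, 1, -1],
    [-1, 1, 1, -1, 0, 1], [-1, 0, 0, 1, 0, -1], [-1, 0, 0, 1, -1, 1], [-1, 0, 0, 0, 1, 0],
    [2, 0, -1, 0, 0, 0], [1, 0, 1, -1, 0, 0], [1, -1, 0, 1, -1, 0], [1, -1, 0, 0, 1, -1],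
    [1, -1, 0, 0, 0, 1], [1, 1, 0, 0, -1, 0], [1, 1, 0, -1, 1, -1], [1, 1, 0, -1, 0, 1],
    [1, 0, -1, 1, 0, -1], [1, 0, -1, 1, -1, 1], [1, 0, -1, 0, 1, 0], [0, 0, 1, 0, 0, -1],
    [0, 0, 1, 0, -1, 1], [0, 0, 1, -1, 1, 0], [0, -1, 0, 1, 0, 0], [0, 1, 0, 0, 0, 0]]

/-- The graph automorphism on the roots. -/
def rhoL : List ℕ :=
  [
    0, 1, 2, 5, 16, 3, 6, 17, 8, 19, 22, 11, 26, 30, 33, 35, 4, 7, 18, 9, 20, 23, 10, 21, 24, 25,
    12, 27, 31, 34, 13, 28, 32, 14, 29, 15, 56, 42, 57, 39, 43, 58, 37, 40, 44, 59, 46, 47, 50,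
    61, 48, 51, 62, 53, 64, 67, 36, 38, 41, 45, 60, 49, 52, 63, 54, 65, 68, 55, 66, 69, 70, 71]

/-- The heights. -/
def htL : List ℤ :=
  [
    -11, -10, -9, -8, -7, -8, -7, -6, -6, -5, -4, -5, -4, -3, -2, -1, -7, -6, -5, -5, -4, -3, -4,
    -3, -2, -1, -4, -3, -2, -1, -3, -2, -1, -2, -1, -1, 1, 1, 2, 1, 2, 3, 1, 2, 3, 4, 1, 2, 3, 4,
    3, 4, 5, 5, 6, 7, 1, 2, 3, 4, 5, 4, 5, 6, 6, 7, 8, 7, 8, 9, 10, 11]

/-- A coroot pairing to a sign with each root. -/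
def unitL : List ℕ :=
  [
    1, 1, 2, 2, 2, 0, 0, 0, 0, 0, 0, 0, 0, 0, 0, 2, 0, 0, 0, 0, 0, 0, 1, 1, 1, 3, 0, 0, 0, 0, 1,
    1, 1, 3, 3, 4, 4, 3, 3, 1, 1, 1, 0, 0, 0, 0, 3, 1, 1, 1, 0, 0, 0, 0, 0, 0, 2, 0, 0, 0, 0, 0,
    0, 0, 0, 0, 0, 2, 2, 2, 1, 1]

/-- The first roots of the layers, by height. -/
def layL : List ℕ :=
  [
    36, 37, 39, 46, 38, 40, 47, 41, 44, 48, 45, 49, 51, 52, 53, 60, 54, 63, 55, 65, 66, 69, 70,
    71]

/-- Exponents of torus parameters separating pairs of characters. -/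
def witL : List (List ℤ) :=
  [
    [1, 1, 2, 2, 2, 1], [0, 1, 0, 0, 0, 0], [0, 0, 0, 1, 0, 0], [1, 0, 1, 1, 1, 1],
    [1, 1, 2, 2, 0, 0], [1, 1, 0, 1, 1, 0], [0, 0, 1, 1, 1, 0]]

/-- Exponents moving the root of each layer. -/
def movL : List (List ℤ) :=
  [
    [0, 0, 0, 0, -1, 0], [0, 0, 0, 0, 0, -1], [0, -1, 0, 0, 0, 0], [0, 0, 0, -1, 0, 0],
    [0, 0, 0, 0, 0, 1], [0, 0, 0, 0, 0, -1], [0, -1, 0, 0, 0, 0], [0, 0, -1, 0, 0, 0],
    [-1, 0, 0, 0, 0, 0], [0, 0, 0, 0, 0, -1], [0, 0, 1, 0, 0, 0], [0, 0, -1, 0, 0, 0],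
    [-1, 0, 0, 0, 0, 0], [0, 0, 1, 0, 0, 0], [-1, 0, 0, 0, 0, 0], [-1, 0, 0, 0, 0, 0],
    [0, 0, 0, 0, -1, 0], [-1, 0, 0, 0, 0, 0], [-1, 0, 0, 0, 0, 0], [-1, 0, 0, 0, 0, 0],
    [1, 0, 0, 0, 0, 0], [0, 0, -1, 0, 0, 0], [0, -1, 0, 0, 0, 0], [0, -1, 0, 0, 0, 0]]

/-- For a layer of one root, two roots whose orbits have this root for their commutator. -/
def killL : List (ℕ × ℕ) :=
  [
    (0, 0), (0, 0), (9, 64), (12, 62), (0, 0), (0, 0), (12, 64), (0, 0), (10, 67), (0, 0),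
    (0, 0), (0, 0), (13, 67), (0, 0), (14, 67), (21, 68), (0, 0), (28, 68), (0, 0), (29, 68),
    (0, 0), (37, 68), (40, 68), (48, 68)]

/-- The image of a root. -/
def rho (r : ℕ) : ℕ := rhoL.getD r 0

/-- The height of a root. -/
def ht (r : ℕ) : ℤ := htL.getD r 0

/-- The coroot pairing to a sign with a root. -/
def ui (r : ℕ) : ℕ := unitL.getD r 0

/-- The root of a layer. -/
def lay (k : ℕ) : ℕ := layL.getD k 0

/-- The node image. -/
def np (i : ℕ) : ℕ := [5, 1, 4, 3, 2, 0].getD i 0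

/-- The exponent of a torus parameter given by exponents. -/
def dot (a : ℕ → ℤ) (r : ℕ) : ℤ :=
  ((List.range 6).map fun i => a i * (pairs.getD r []).getD i 0).sum

/-- The two exponents of a character. -/
def expo (w : List ℤ) (r : ℕ) : ℤ × ℤ :=
  (dot (fun i => w.getD i 0) r, dot (fun i => w.getD (np i) 0) r)

/-- The parameters give a trivial character on the first root and a power of the norm on the second. -/
def sepOne (w : List ℤ) (r s : ℕ) : Bool :=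
  expo w r == (0, 0) && (expo w s == (1, 1) || expo w s == (-1, -1))

/-- Some parameters separate two characters. -/
def sep (r s : ℕ) : Bool := witL.any fun w => sepOne w r s || sepOne w s r

/-- The parameters move a root. -/
def movChk (k : ℕ) : Bool :=
  bif rho (lay k) == lay k then
    expo (movL.getD k []) (lay k) == (1, 1) || expo (movL.getD k []) (lay k) == (-1, -1)
  else expo (movL.getD k []) (lay k) == (1, 0)

/-- The conditions on the two roots of a layer of one root. -/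
noncomputable def killChk (r a b : ℕ) : Bool :=
  Nat.blt a 72 && Nat.blt b 72 && !(rho a == a) && !(rho b == b) &&
  noComm Data.E6.tab a r && noComm Data.E6.tab (rho a) r && noComm Data.E6.tab b r &&
  noComm Data.E6.tab (rho b) r && noComm Data.E6.tab a (rho b) && noComm Data.E6.tab (rho a) b &&
  noComm Data.E6.tab a (rho a) && noComm Data.E6.tab b (rho b) && sep r a && sep r b &&
  !(b == a) && !(b == Data.E6.tab.neg a) &&
  (match commOf Data.E6.tab.E a b with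
    | [c] => c.1 == r && (c.2.1 == 1 || c.2.1 == -1) && c.2.2.1 == 1 && c.2.2.2 == 1
    | _ => false)

theorem pairs_ok : ∀ r < 72, ∀ i < 6, chevE6.cartan i r = (pairs.getD r []).getD i 0 := by decide +kernel

theorem rho_ok : ∀ r < 72, rho r < 72 ∧ rho (rho r) = r ∧ Types.GAut.tabE6.ρ r = rho r ∧
    ∀ i < 6, (pairs.getD (rho r) []).getD i 0 = (pairs.getD r []).getD (np i) 0 := by decide +kernel

theorem ht_ok : ∀ r < 72, ht r = dot (fun i => [8, 11, 15, 21, 15, 8].getD i 0) r ∧ ht (rho r) = ht r ∧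
    (0 < Data.E6.tab.phi r ↔ 0 < ht r) ∧ ht r < 12 := by decide +kernel

theorem ui_ok : ∀ r < 72, ui r < 6 ∧ ((pairs.getD r []).getD (ui r) 0 = 1 ∨
    (pairs.getD r []).getD (ui r) 0 = -1) := by decide +kernel

theorem lay_ok : ∀ k < 24, lay k < 72 ∧ 0 < ht (lay k) ∧
    (∀ l < 24, k ≤ l → ht (lay k) ≤ ht (lay l)) ∧
    (rho (lay k) ≠ lay k → noComm Data.E6.tab (lay k) (rho (lay k)) = true) ∧
    ∀ l < 24, lay l = lay k ∨ lay l = rho (lay k) → l = k := by decide +kernel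

theorem lay_cover : ∀ r < 72, 0 < ht r → ∃ k < 24, r = lay k ∨ r = rho (lay k) := by decide +kernel

theorem sep_ok : ∀ i < 24, ∀ k < 24, i < k → sep (lay i) (lay k) = true := by decide +kernel

theorem mov_ok : ∀ k < 24, movChk k = true := by decide +kernel

theorem kill_ok : ∀ k < 24, rho (lay k) = lay k →
    killChk (lay k) (killL.getD k (0, 0)).1 (killL.getD k (0, 0)).2 = true := by decide +kernel

end Cfsg.Agent.TwistMult.E6
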