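import Cfsg.Agent.Lib.TwistMult.RadLift

/-!
A central extension splits over a group with a central series of root layers on which a commutative
group of automorphisms acts without invariant pairings.
-/

set_option autoImplicit false
set_option linter.unusedSectionVars false

namespace Cfsg.Agent.TwistMult

open scoped commutatorElement
open Cfsg.Agent.Chevalley.Cover

universe u v w

theorem closure_ind {G : Type v} [Group G] [Finite G] {s : Set G} {p : G → Prop}
    (mem : ∀ x ∈ s, p x) (one : p 1)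
    (mul : ∀ x y, x ∈ Subgroup.closure s → y ∈ Subgroup.closure s → p x → p y → p (x * y))
    {x : G} (hx : x ∈ Subgroup.closure s) : p x := by
  have hx' : x ∈ Submonoid.closure s := by
    rw [← Subgroup.closure_toSubmonoid_of_finite]; exact hx
  induction hx' using Submonoid.closure_induction with
  | mem y hy => exact mem y hy
  | one => exact one
  | mul y z hy hz ihy ihz =>
    have hle : Submonoid.closure s ≤ (Subgroup.closure s).toSubmonoid :=
      Subgroup.closure_toSubmonoid_of_finite.ge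
    exact mul y z (hle hy) (hle hz) (ihy (hle hy)) (ihz (hle hz))

/-- The subgroup generated by the layers from `k` on. -/
def layN {G : Type v} [Group G] {K : Type w} (x : ℕ → K → G) (n k : ℕ) : Subgroup G :=
  Subgroup.closure {g | ∃ i, k ≤ i ∧ i < n ∧ ∃ s, g = x i s}

/-- Layers of a central series with a commutative group acting by scalars. -/
structure Series (G : Type v) [Group G] (K : Type w) [Field K] where
  n : ℕ
  x : ℕ → K → G
  add : ∀ k < n, ∀ s t, x k (s + t) * (x k s * x k t)⁻¹ ∈ layN x n (k + 1)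
  comm : ∀ i < n, ∀ j < n, ∀ s t, ⁅x i s, x j t⁆ ∈ layN x n (max i j + 1)
  T : Type v
  tg : T → G
  tg_comm : ∀ a b, Commute (tg a) (tg b)
  μ : ℕ → T → K
  conj : ∀ k < n, ∀ (t : T) s, tg t * x k s * (tg t)⁻¹ = x k (μ k t * s)
  moves : ∀ k < n, ∃ t : T, μ k t ≠ 1

/-- No invariant biadditive pairing between two layers. -/
def NoInv {T : Type v} {K : Type w} [Field K] (μ ν : T → K) : Prop :=
  ∀ (A : Type u) [CommGroup A] (B : K → K → A), (∀ a b c, B (a + b) c = B a c * B b c) →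
    (∀ a b c, B a (b + c) = B a b * B a c) → (∀ t a b, B (μ t * a) (ν t * b) = B a b) →
    ∀ a b, B a b = 1

namespace Series

variable {G : Type v} [Group G] [Finite G] {K : Type w} [Field K] (S : Series G K)

/-- The terms of the series. -/
def N (k : ℕ) : Subgroup G := layN S.x S.n k

theorem x_mem {i k : ℕ} (hk : k ≤ i) (hi : i < S.n) (s : K) : S.x i s ∈ S.N k :=
  Subgroup.subset_closure ⟨i, hk, hi, s, rfl⟩

theorem N_anti {i j : ℕ} (h : i ≤ j) : S.N j ≤ S.N i :=
  Subgroup.closure_mono fun _ ⟨l, hl, hln, hs⟩ => ⟨l, h.trans hl, hln, hs⟩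

theorem N_top {k : ℕ} (h : S.n ≤ k) : S.N k = ⊥ := by
  rw [N, layN, Subgroup.closure_eq_bot_iff]
  rintro g ⟨i, hi, hin, -⟩
  omega

theorem x_zero {k : ℕ} (hk : k < S.n) : S.x k 0 ∈ S.N (k + 1) := by
  have h := S.add k hk 0 0
  rw [add_zero, mul_inv_rev, mul_inv_cancel_left] at h
  exact inv_mem_iff.1 h

/-- The terms are normal in the first. -/
theorem N_normal {k : ℕ} {g h : G} (hg : g ∈ S.N 0) (hh : h ∈ S.N k) : g * h * g⁻¹ ∈ S.N k := by
  refine closure_ind (p := fun g => ∀ h ∈ S.N k, g * h * g⁻¹ ∈ S.N k) ?_ (fun h hh => by simpa using hh)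
    (fun a b _ _ ha hb h hh => ?_) hg h hh
  · rintro _ ⟨i, -, hi, s, rfl⟩ h hh
    refine closure_ind (p := fun h => S.x i s * h * (S.x i s)⁻¹ ∈ S.N k) ?_ (by simp) ?_ hh
    · rintro _ ⟨j, hkj, hj, t, rfl⟩
      rw [show S.x i s * S.x j t * (S.x i s)⁻¹ = ⁅S.x i s, S.x j t⁆ * S.x j t by
        rw [commutatorElement_def]; group]
      exact mul_mem (S.N_anti (by omega) (S.comm i hi j hj s t)) (S.x_mem hkj hj t)
    · intro a b _ _ ha hb
      rw [show S.x i s * (a * b) * (S.x i s)⁻¹ = S.x i s * a * (S.x i s)⁻¹ * (S.x i s * b * (S.x i s)⁻¹) by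
        group]
      exact mul_mem ha hb
  · rw [show a * b * h * (a * b)⁻¹ = a * (b * h * b⁻¹) * a⁻¹ by group]
    exact ha _ (hb h hh)

/-- The series is central. -/
theorem comm_N {k : ℕ} {g h : G} (hg : g ∈ S.N 0) (hh : h ∈ S.N k) : ⁅g, h⁆ ∈ S.N (k + 1) := by
  refine closure_ind (p := fun h => ∀ g ∈ S.N 0, ⁅g, h⁆ ∈ S.N (k + 1)) ?_ ?_ ?_ hh g hg
  · rintro _ ⟨j, hkj, hj, t, rfl⟩ g hg
    refine closure_ind (p := fun g => ⁅g, S.x j t⁆ ∈ S.N (k + 1)) ?_ ?_ ?_ hg
    · rintro _ ⟨i, -, hi, s, rfl⟩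
      exact S.N_anti (by omega) (S.comm i hi j hj s t)
    · rw [commutatorElement_one_left]; exact one_mem _
    · intro a b ha _ iha ihb
      rw [Lift.comm_mul_left]
      exact mul_mem (S.N_normal ha ihb) iha
  · intro g _
    rw [commutatorElement_one_right]; exact one_mem _
  · intro a b ha _ iha ihb g hg
    rw [Lift.comm_mul_right]
    exact mul_mem (iha g hg) (S.N_normal (S.N_anti (Nat.zero_le k) ha) (ihb g hg))

/-- The torus normalises the terms. -/
theorem tg_N (τ : S.T) (k : ℕ) {g : G} (hg : g ∈ S.N k) : S.tg τ * g * (S.tg τ)⁻¹ ∈ S.N k := by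
  refine closure_ind (p := fun g => S.tg τ * g * (S.tg τ)⁻¹ ∈ S.N k) ?_ (by simp) ?_ hg
  · rintro _ ⟨i, hki, hi, s, rfl⟩
    rw [S.conj i hi]
    exact S.x_mem hki hi _
  · intro a b _ _ ha hb
    rw [show S.tg τ * (a * b) * (S.tg τ)⁻¹ = S.tg τ * a * (S.tg τ)⁻¹ * (S.tg τ * b * (S.tg τ)⁻¹) by group]
    exact mul_mem ha hb

/-- An element of a term is a layer element times an element of the next term. -/
theorem N_split {k : ℕ} (hk : k < S.n) {g : G} (hg : g ∈ S.N k) :
    ∃ s, ∃ r ∈ S.N (k + 1), g = S.x k s * r := by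
  refine closure_ind (p := fun g => ∃ s, ∃ r ∈ S.N (k + 1), g = S.x k s * r) ?_ ?_ ?_ hg
  · rintro _ ⟨i, hki, hi, s, rfl⟩
    rcases eq_or_lt_of_le hki with rfl | hlt
    · exact ⟨s, 1, one_mem _, (mul_one _).symm⟩
    · exact ⟨0, (S.x k 0)⁻¹ * S.x i s, mul_mem (inv_mem (S.x_zero hk)) (S.x_mem hlt hi s),
        (mul_inv_cancel_left _ _).symm⟩
  · exact ⟨0, (S.x k 0)⁻¹, inv_mem (S.x_zero hk), (mul_inv_cancel _).symm⟩
  · rintro _ _ - - ⟨s, r, hr, rfl⟩ ⟨t, r', hr', rfl⟩
    obtain ⟨c, hc, ec⟩ : ∃ c ∈ S.N (k + 1), S.x k (s + t) = c * (S.x k s * S.x k t) :=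
      ⟨_, S.add k hk s t, (inv_mul_cancel_right _ _).symm⟩
    refine ⟨s + t, (S.x k (s + t))⁻¹ * c⁻¹ * S.x k (s + t) * ((S.x k t)⁻¹ * r * S.x k t) * r', ?_, ?_⟩
    · refine mul_mem (mul_mem ?_ ?_) hr'
      · have := S.N_normal (inv_mem (S.x_mem (Nat.zero_le k) hk (s + t))) (inv_mem hc)
        rwa [inv_inv] at this
      · have := S.N_normal (inv_mem (S.x_mem (Nat.zero_le k) hk t)) hr
        rwa [inv_inv] at this
    · rw [ec]; group

/-- A layer element in the next term stays there after dividing by a scalar of a stable set. -/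
theorem mem_of_scale [Finite K] {k : ℕ} (hk : k < S.n) (τ : S.T) {s : K} (hτ : S.μ k τ - 1 ≠ 0)
    (h : S.x k ((S.μ k τ - 1) * s) ∈ S.N (k + 1)) : S.x k s ∈ S.N (k + 1) := by
  have hsub : ∀ a b, S.x k a ∈ S.N (k + 1) → S.x k b ∈ S.N (k + 1) → S.x k (a - b) ∈ S.N (k + 1) := by
    intro a b ha hb
    have h1 := S.add k hk (a - b) b
    rw [sub_add_cancel, mul_inv_rev] at h1
    have h2 := mul_mem (mul_mem hb (inv_mem ha)) h1
    rw [show S.x k b * (S.x k a)⁻¹ * (S.x k a * ((S.x k b)⁻¹ * (S.x k (a - b))⁻¹)) =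
      (S.x k (a - b))⁻¹ by group] at h2
    exact inv_mem_iff.1 h2
  have hT : ∀ a, S.x k a ∈ S.N (k + 1) → S.x k ((S.μ k τ - 1) * a) ∈ S.N (k + 1) := fun a ha => by
    rw [sub_mul, one_mul]
    refine hsub _ a ?_ ha
    rw [← S.conj k hk τ a]
    exact S.tg_N τ (k + 1) ha
  let f : {a : K // S.x k a ∈ S.N (k + 1)} → {a : K // S.x k a ∈ S.N (k + 1)} := fun a =>
    ⟨_, hT a.1 a.2⟩
  have hf : Function.Injective f := fun a b e =>
    Subtype.ext (mul_left_cancel₀ hτ (congrArg Subtype.val e))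
  obtain ⟨⟨a, ha⟩, e⟩ := Finite.injective_iff_surjective.1 hf ⟨_, h⟩
  exact mul_left_cancel₀ hτ (congrArg Subtype.val e) ▸ ha

variable {E : Type u} [Group E] {π : E →* G} (C : Cen π)

/-- Two commuting root groups without invariant pairing lift to commuting groups. -/
theorem _root_.Cfsg.Agent.TwistMult.cl_pair_zero {ι : Type v} {x y : K → G} {μ ν : ι → K}
    (hno : NoInv.{u} μ ν) (hx : ∀ a b, x (a + b) = x a * x b) (hy : ∀ a b, y (a + b) = y a * y b)
    (hxy : ∀ a b, Commute (x a) (y b))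
    (hT : ∀ t, ∃ g, ∀ a b, g * x a * g⁻¹ = x (μ t * a) ∧ g * y b * g⁻¹ = y (ν t * b)) (a b : K) :
    cl C (x a) (y b) = 1 := by
  letI : CommGroup (Subgroup.center E) :=
    { (inferInstance : Group (Subgroup.center E)) with
      mul_comm := fun a b => Subtype.ext (Subgroup.mem_center_iff.1 b.2 a.1) }
  let B : K → K → Subgroup.center E := fun a b => ⟨cl C (x a) (y b), C.cen (cl_ker C (hxy a b))⟩
  refine congrArg Subtype.val (hno (Subgroup.center E) B ?_ ?_ ?_ a b)
  · intro a a' b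
    refine Subtype.ext ?_
    show cl C (x (a + a')) (y b) = cl C (x a) (y b) * cl C (x a') (y b)
    rw [hx, cl_add_left C (hxy a' b)]
  · intro a b b'
    refine Subtype.ext ?_
    show cl C (x a) (y (b + b')) = cl C (x a) (y b) * cl C (x a) (y b')
    rw [hy, cl_add_right C (hxy a b')]
  · intro t a b
    obtain ⟨g, hg⟩ := hT t
    refine Subtype.ext ?_
    show cl C (x (μ t * a)) (y (ν t * b)) = cl C (x a) (y b)
    have e := cl_conj C (lft C g) (x a) (y b)
    rw [π_lft, (hg a b).1, (hg a b).2, ← (ker_central C (cl_ker C (hxy a b)) _).eq,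
      mul_inv_cancel_right] at e
    exact e.symm

/-- An invariant complement over a term. -/
def Split (π : E →* G) (k : ℕ) : Prop :=
  ∃ W : Subgroup E, W.map π = S.N k ∧ W ⊓ π.ker = ⊥ ∧
    (∀ g, π g ∈ S.N 0 → ∀ w ∈ W, g * w * g⁻¹ ∈ W) ∧ ∀ g, π g ∈ Set.range S.tg → ∀ w ∈ W, g * w * g⁻¹ ∈ W

include C

theorem split_step [Finite K] {k : ℕ} (hk : k < S.n)
    (hkill : ∀ i, i ≤ k → NoInv.{u} (S.μ i) (S.μ k) ∨ ∀ s t, cl C (S.x i s) (S.x k t) = 1)
    (hW : S.Split π (k + 1)) : S.Split π k := by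
  obtain ⟨W, hWmap, hWker, hWU, hWT⟩ := hW
  have hWπ : ∀ w ∈ W, π w ∈ S.N (k + 1) := fun w hw => hWmap ▸ Subgroup.mem_map_of_mem π hw
  have hdec : ∀ e, π e ∈ S.N (k + 1) → ∃ w ∈ W, ∃ z, π z = 1 ∧ e = w * z := fun e he => by
    obtain ⟨w, hw, ew⟩ : π e ∈ W.map π := hWmap.symm ▸ he
    exact ⟨w, hw, w⁻¹ * e, by rw [map_mul, map_inv, ew, inv_mul_cancel], by group⟩
  -- commutators with the layer fall into `W`
  have hmain : ∀ a b : E, π a ∈ S.N 0 → π b ∈ S.N k → ⁅a, b⁆ ∈ W := by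
    let H : Subgroup E := (S.N 0).comap π
    have hWH : W ≤ H := fun w hw => S.N_anti (Nat.zero_le _) (hWπ w hw)
    haveI : (W.subgroupOf H).Normal := ⟨fun w hw g => by
      rw [Subgroup.mem_subgroupOf] at hw ⊢
      exact hWU g.1 g.2 _ hw⟩
    let q : H →* H ⧸ W.subgroupOf H := QuotientGroup.mk' _
    have hq1 : ∀ x : H, q x = 1 ↔ (x : E) ∈ W := fun x =>
      (QuotientGroup.eq_one_iff x).trans Subgroup.mem_subgroupOf
    have hcen : ∀ x : H, π x ∈ S.N (k + 1) → q x ∈ Subgroup.center (H ⧸ W.subgroupOf H) := by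
      intro x hx
      obtain ⟨w, hw, z, hz, e⟩ := hdec x hx
      obtain ⟨z', hz'⟩ : ∃ z' : H, (z' : E) = z := ⟨⟨z, show π z ∈ S.N 0 by rw [hz]; exact one_mem _⟩, rfl⟩
      obtain ⟨w', hw'⟩ : ∃ w' : H, (w' : E) = w := ⟨⟨w, hWH hw⟩, rfl⟩
      have ex : x = w' * z' := Subtype.ext (by rw [e, Subgroup.coe_mul, hw', hz'])
      have e1 : q x = q z' := by rw [ex, map_mul, (hq1 w').2 (hw' ▸ hw), one_mul]
      rw [e1, Subgroup.mem_center_iff]
      intro y
      obtain ⟨y, rfl⟩ := QuotientGroup.mk'_surjective _ y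
      rw [← map_mul, ← map_mul]
      exact congrArg q (Subtype.ext (by
        rw [Subgroup.coe_mul, Subgroup.coe_mul, hz', (ker_central C hz _).eq]))
    have hF : ∀ a b : H, π b ∈ S.N k → q ⁅a, b⁆ ∈ Subgroup.center (H ⧸ W.subgroupOf H) := fun a b hb =>
      hcen _ (by
        show π ((⁅a, b⁆ : H) : E) ∈ _
        rw [← Subgroup.subtype_apply, map_commutatorElement, map_commutatorElement]
        exact S.comm_N a.2 hb)
    have hl : ∀ a a' b : H, π b ∈ S.N k → q ⁅a * a', b⁆ = q ⁅a, b⁆ * q ⁅a', b⁆ := fun a a' b hb => by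
      have h1 := Subgroup.mem_center_iff.1 (hF a' b hb)
      rw [Lift.comm_mul_left, map_mul, map_mul, map_mul, map_inv, h1, mul_inv_cancel_right, h1]
    have hr : ∀ a b b' : H, π b' ∈ S.N k → q ⁅a, b * b'⁆ = q ⁅a, b⁆ * q ⁅a, b'⁆ := fun a b b' hb => by
      have h1 := Subgroup.mem_center_iff.1 (hF a b' hb)
      rw [Lift.comm_mul_right, map_mul, map_mul, map_mul, map_inv, h1, mul_inv_cancel_right]
    have hlow : ∀ a b : H, π b ∈ S.N (k + 1) → q ⁅a, b⁆ = 1 := fun a b hb => by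
      rw [map_commutatorElement, commutatorElement_eq_one_iff_commute]
      exact Subgroup.mem_center_iff.1 (hcen b hb) (q a)
    have hlow' : ∀ a b : H, π a ∈ S.N (k + 1) → q ⁅a, b⁆ = 1 := fun a b hb => by
      rw [map_commutatorElement, commutatorElement_eq_one_iff_commute]
      exact (Subgroup.mem_center_iff.1 (hcen a hb) (q b)).symm
    let L : ℕ → K → H := fun i s => if hi : i < S.n then
      ⟨lft C (S.x i s), show π (lft C (S.x i s)) ∈ S.N 0 by rw [π_lft]; exact S.x_mem (Nat.zero_le _) hi s⟩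
      else 1
    have hL : ∀ {i}, i < S.n → ∀ s, ((L i s : H) : E) = lft C (S.x i s) := fun {i} hi s => by
      simp only [L, dif_pos hi]
    have hLπ : ∀ {i}, i < S.n → ∀ s, π (L i s : E) = S.x i s := fun {i} hi s => by rw [hL hi, π_lft]
    have hLk : ∀ s, π (L k s : E) ∈ S.N k := fun s => by rw [hLπ hk]; exact S.x_mem le_rfl hk s
    have hdown : ∀ d i, i + d = S.n → ∀ a b : H, π a ∈ S.N i → π b ∈ S.N k → q ⁅a, b⁆ = 1 := by
      intro d
      induction d with
      | zero =>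
        intro i hi a b ha _
        rw [S.N_top (by omega), Subgroup.mem_bot] at ha
        exact hlow' a b (ha ▸ one_mem _)
      | succ d ih =>
        intro i hi a b ha hb
        rcases Nat.lt_or_ge k i with hki | hik
        · exact hlow' a b (S.N_anti hki ha)
        have hin : i < S.n := by omega
        have hnext := ih (i + 1) (by omega)
        letI : CommGroup (Subgroup.center (H ⧸ W.subgroupOf H)) :=
          { (inferInstance : Group (Subgroup.center (H ⧸ W.subgroupOf H))) with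
            mul_comm := fun a b => Subtype.ext (Subgroup.mem_center_iff.1 b.2 a.1) }
        let B : K → K → Subgroup.center (H ⧸ W.subgroupOf H) := fun s t =>
          ⟨q ⁅L i s, L k t⁆, hF _ _ (hLk t)⟩
        have hB : ∀ s t, q ⁅L i s, L k t⁆ = 1 := by
          rcases hkill i hik with hno | hcl
          swap
          · intro s t
            refine (hq1 _).2 ?_
            rw [← Subgroup.subtype_apply, map_commutatorElement, Subgroup.subtype_apply,
              Subgroup.subtype_apply, hL hin, hL hk, ← cl, hcl]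
            exact one_mem _
          intro s t
          refine congrArg Subtype.val (hno (Subgroup.center (H ⧸ W.subgroupOf H)) B ?_ ?_ ?_ s t)
          · intro s s' t
            obtain ⟨r, hr1, er⟩ : ∃ r : H, π r ∈ S.N (i + 1) ∧ L i (s + s') = r * (L i s * L i s') :=
              ⟨L i (s + s') * (L i s * L i s')⁻¹, by
                rw [Subgroup.coe_mul, Subgroup.coe_inv, Subgroup.coe_mul, map_mul, map_inv, map_mul,
                  hLπ hin, hLπ hin, hLπ hin]
                exact S.add i hin s s', by group⟩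
            refine Subtype.ext ?_
            show q ⁅L i (s + s'), L k t⁆ = q ⁅L i s, L k t⁆ * q ⁅L i s', L k t⁆
            rw [er, hl _ _ _ (hLk t), hl _ _ _ (hLk t), hnext r _ hr1 (hLk t), one_mul]
          · intro s t t'
            obtain ⟨r, hr1, er⟩ : ∃ r : H, π r ∈ S.N (k + 1) ∧ L k (t + t') = r * (L k t * L k t') :=
              ⟨L k (t + t') * (L k t * L k t')⁻¹, by
                rw [Subgroup.coe_mul, Subgroup.coe_inv, Subgroup.coe_mul, map_mul, map_inv, map_mul,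
                  hLπ hk, hLπ hk, hLπ hk]
                exact S.add k hk t t', by group⟩
            refine Subtype.ext ?_
            show q ⁅L i s, L k (t + t')⁆ = q ⁅L i s, L k t⁆ * q ⁅L i s, L k t'⁆
            rw [er, hr _ r _ (by rw [Subgroup.coe_mul, map_mul]; exact mul_mem (hLk t) (hLk t')),
              hlow _ r hr1, one_mul, hr _ _ _ (hLk t')]
          · intro τ s t
            refine Subtype.ext ?_
            show q ⁅L i (S.μ i τ * s), L k (S.μ k τ * t)⁆ = q ⁅L i s, L k t⁆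
            obtain ⟨c, hc⟩ : ∃ c, c = lft C (S.tg τ) := ⟨_, rfl⟩
            have hπc : π c = S.tg τ := hc ▸ π_lft C _
            have hπ1 : π (⁅L i s, L k t⁆ : H) ∈ S.N (k + 1) := by
              rw [← Subgroup.subtype_apply, map_commutatorElement, map_commutatorElement]
              exact S.comm_N (L i s).2 (hLk t)
            obtain ⟨w, hw, z, hz, e⟩ := hdec _ hπ1
            have hconj : ((⁅L i (S.μ i τ * s), L k (S.μ k τ * t)⁆ : H) : E) =
                c * w * c⁻¹ * z := by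
              have e1 : c * ((⁅L i s, L k t⁆ : H) : E) * c⁻¹ = c * w * c⁻¹ * z := by
                rw [e, show c * (w * z) * c⁻¹ = c * w * (z * c⁻¹) by group, (ker_central C hz _).eq]
                group
              rw [← e1, ← Subgroup.subtype_apply, map_commutatorElement, ← Subgroup.subtype_apply,
                map_commutatorElement]
              simp only [Subgroup.subtype_apply]
              rw [show c * ⁅(L i s : E), (L k t : E)⁆ * c⁻¹ =
                ⁅c * (L i s : E) * c⁻¹, c * (L k t : E) * c⁻¹⁆ by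
                  simp only [commutatorElement_def]; group]
              exact Lift.comm_congr C.cen
                (by rw [map_mul, map_mul, map_inv, hπc, hLπ hin, hLπ hin, S.conj i hin])
                (by rw [map_mul, map_mul, map_inv, hπc, hLπ hk, hLπ hk, S.conj k hk])
            rw [← mul_inv_eq_one, ← map_inv, ← map_mul, hq1, Subgroup.coe_mul, Subgroup.coe_inv, hconj, e]
            have hw' := hWT c ⟨τ, hπc.symm⟩ w hw
            rw [show c * w * c⁻¹ * z * (w * z)⁻¹ = c * w * c⁻¹ * (z * z⁻¹) * w⁻¹ by group,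
              mul_inv_cancel, mul_one]
            exact mul_mem hw' (inv_mem hw)
        obtain ⟨s, r, hr', ea⟩ := S.N_split hin ha
        obtain ⟨t, r', hr'', eb⟩ := S.N_split hk hb
        obtain ⟨a', ea', ha'⟩ : ∃ a' : H, a = L i s * a' ∧ π a' ∈ S.N (i + 1) :=
          ⟨(L i s)⁻¹ * a, by group, by
            rw [Subgroup.coe_mul, Subgroup.coe_inv, map_mul, map_inv, hLπ hin, ea, inv_mul_cancel_left]
            exact hr'⟩
        obtain ⟨b', eb', hb'⟩ : ∃ b' : H, b = L k t * b' ∧ π b' ∈ S.N (k + 1) :=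
          ⟨(L k t)⁻¹ * b, by group, by
            rw [Subgroup.coe_mul, Subgroup.coe_inv, map_mul, map_inv, hLπ hk, eb, inv_mul_cancel_left]
            exact hr''⟩
        rw [ea', hl _ _ _ hb, hnext a' b ha' hb, mul_one, eb',
          hr _ _ _ (S.N_anti (Nat.le_succ k) hb'), hlow _ b' hb', mul_one, hB]
    intro a b ha hb
    have := (hq1 _).1 (hdown S.n 0 (Nat.zero_add _) ⟨a, ha⟩ ⟨b, S.N_anti (Nat.zero_le k) hb⟩ ha hb)
    rwa [← Subgroup.subtype_apply, map_commutatorElement] at this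
  -- the section
  obtain ⟨τ, hτ⟩ := S.moves k hk
  obtain ⟨c, hc⟩ : ∃ c, c = lft C (S.tg τ) := ⟨_, rfl⟩
  have hπc : π c = S.tg τ := hc ▸ π_lft C _
  let D : K → E := fun s => ⁅c, lft C (S.x k s)⁆
  have hπD : ∀ s, π (D s) = S.x k (S.μ k τ * s) * (S.x k s)⁻¹ := fun s => by
    rw [map_commutatorElement, hπc, π_lft, commutatorElement_def, S.conj k hk]
  have hDk : ∀ s, π (D s) ∈ S.N k := fun s => by
    rw [hπD]; exact mul_mem (S.x_mem le_rfl hk _) (inv_mem (S.x_mem le_rfl hk _))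
  have hcW : ∀ w, π w ∈ S.N (k + 1) → ⁅c, w⁆ ∈ W := fun w hw => by
    obtain ⟨w', hw', z, hz, rfl⟩ := hdec w hw
    have : ⁅c, w' * z⁆ = c * w' * c⁻¹ * w'⁻¹ := by
      rw [Lift.comm_congr C.cen (a := c) (a' := c) (b := w' * z) (b' := w') rfl
        (by rw [map_mul, hz, mul_one]), commutatorElement_def]
    rw [this]
    exact mul_mem (hWT c ⟨τ, hπc.symm⟩ w' hw') (inv_mem hw')
  have hcom : ∀ a d, π a ∈ S.N 0 → π d ∈ S.N k → a * d * a⁻¹ * d⁻¹ ∈ W := fun a d ha hd => by
    rw [← commutatorElement_def]; exact hmain a d ha hd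
  have hDadd : ∀ s t, D (s + t) * (D s * D t)⁻¹ ∈ W := by
    intro s t
    obtain ⟨r, hr, er⟩ : ∃ r, π r ∈ S.N (k + 1) ∧
        lft C (S.x k (s + t)) = r * (lft C (S.x k s) * lft C (S.x k t)) :=
      ⟨lft C (S.x k (s + t)) * (lft C (S.x k s) * lft C (S.x k t))⁻¹, by
        simp only [map_mul, map_inv, π_lft]; exact S.add k hk s t, by group⟩
    have hst : π (lft C (S.x k s)) ∈ S.N 0 := by
      rw [π_lft]; exact S.x_mem (Nat.zero_le k) hk s
    have hr0 : π r ∈ S.N 0 := S.N_anti (Nat.zero_le _) hr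
    obtain ⟨a, ha⟩ : ∃ a, a = lft C (S.x k s) := ⟨_, rfl⟩
    rw [← ha] at er hst
    have e : D (s + t) * (D s * D t)⁻¹ = ⁅c, r⁆ *
        (r * (D s * (a * D t * a⁻¹ * (D t)⁻¹) * (D s)⁻¹) * r⁻¹) *
        (r * (D s * D t) * r⁻¹ * (D s * D t)⁻¹) := by
      show ⁅c, lft C (S.x k (s + t))⁆ * _ = _
      rw [er, Lift.comm_mul_right, Lift.comm_mul_right]
      show _ = _
      simp only [D, ← ha]
      group
    rw [e]
    exact mul_mem (mul_mem (hcW r hr) (hWU r hr0 _ (hWU (D s) (S.N_anti (Nat.zero_le k) (hDk s)) _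
      (hcom a _ hst (hDk t))))) (hcom r _ hr0 (by rw [map_mul]; exact mul_mem (hDk s) (hDk t)))
  have hD0 : D 0 ∈ W := hcW _ (by rw [π_lft]; exact S.x_zero hk)
  let W' : Subgroup E :=
    { carrier := {e | ∃ s, e * (D s)⁻¹ ∈ W}
      one_mem' := ⟨0, by rw [one_mul]; exact inv_mem hD0⟩
      mul_mem' := by
        rintro a b ⟨s, ha⟩ ⟨t, hb⟩
        refine ⟨s + t, ?_⟩
        rw [show a * b * (D (s + t))⁻¹ = a * (D s)⁻¹ * (D s * (b * (D t)⁻¹) * (D s)⁻¹) *
          (D (s + t) * (D s * D t)⁻¹)⁻¹ by group]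
        exact mul_mem (mul_mem ha (hWU _ (S.N_anti (Nat.zero_le k) (hDk s)) _ hb)) (inv_mem (hDadd s t))
      inv_mem' := by
        rintro a ⟨s, ha⟩
        refine ⟨-s, ?_⟩
        have h1 : D (-s) * D s ∈ W := by
          have h := hDadd (-s) s
          rw [neg_add_cancel] at h
          have := mul_mem (inv_mem h) hD0
          rwa [mul_inv_rev, inv_inv, inv_mul_cancel_right] at this
        have h2 := hWU (D s)⁻¹ (by rw [map_inv]; exact inv_mem (S.N_anti (Nat.zero_le k) (hDk s))) _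
          (inv_mem ha)
        have := mul_mem h2 (inv_mem h1)
        convert this using 1
        group }
  have hW'mem : ∀ w ∈ W', ∃ s, ∃ v ∈ W, w = v * D s := fun w ⟨s, hs⟩ =>
    ⟨s, _, hs, (inv_mul_cancel_right _ _).symm⟩
  have hW'of : ∀ v ∈ W, ∀ s, v * D s ∈ W' := fun v hv s => ⟨s, by rwa [mul_inv_cancel_right]⟩
  refine ⟨W', le_antisymm ?_ ?_, ?_, ?_, ?_⟩
  · rintro _ ⟨w, hw, rfl⟩
    obtain ⟨s, v, hv, rfl⟩ := hW'mem w hw
    rw [map_mul]
    exact mul_mem (S.N_anti (Nat.le_succ k) (hWπ v hv)) (hDk s)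
  · have hmu : S.μ k τ - 1 ≠ 0 := sub_ne_zero.2 hτ
    have hlow : S.N (k + 1) ≤ W'.map π := fun g hg => by
      obtain ⟨w, hw, rfl⟩ : g ∈ W.map π := hWmap.symm ▸ hg
      refine ⟨w, ⟨0, mul_mem hw (inv_mem hD0)⟩, rfl⟩
    rw [N, layN, Subgroup.closure_le]
    rintro _ ⟨i, hki, hi, s, rfl⟩
    rcases eq_or_lt_of_le hki with rfl | hlt
    · obtain ⟨t, ht⟩ : ∃ t, t = s / (S.μ k τ - 1) := ⟨_, rfl⟩
      have es : S.μ k τ * t = s + t := by rw [ht]; field_simp; ring
      have h1 : S.x k (s + t) * (S.x k t)⁻¹ ∈ W'.map π := ⟨D t, ⟨t, by rw [mul_inv_cancel]; exact one_mem _⟩,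
        by rw [hπD, es]⟩
      have h2 := hlow (S.add k hk s t)
      have := mul_mem (inv_mem h2) h1
      rwa [mul_inv_rev, inv_inv, show S.x k s * S.x k t * (S.x k (s + t))⁻¹ *
        (S.x k (s + t) * (S.x k t)⁻¹) = S.x k s by group] at this
    · exact hlow (S.x_mem hlt hi s)
  · rw [eq_bot_iff]
    rintro w ⟨hw, hwk⟩
    obtain ⟨s, v, hv, rfl⟩ := hW'mem w hw
    replace hwk : π v * π (D s) = 1 := by rw [← map_mul]; exact hwk
    have h1 : π (D s) ∈ S.N (k + 1) := by
      rw [← inv_eq_of_mul_eq_one_right hwk]; exact inv_mem (hWπ v hv)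
    have hmu : S.μ k τ - 1 ≠ 0 := sub_ne_zero.2 hτ
    have h2 : S.x k ((S.μ k τ - 1) * s) ∈ S.N (k + 1) := by
      have h3 := S.add k hk ((S.μ k τ - 1) * s) s
      rw [show (S.μ k τ - 1) * s + s = S.μ k τ * s by ring] at h3
      have := mul_mem (inv_mem h3) h1
      rwa [hπD, mul_inv_rev, inv_inv, show S.x k ((S.μ k τ - 1) * s) * S.x k s *
        (S.x k (S.μ k τ * s))⁻¹ * (S.x k (S.μ k τ * s) * (S.x k s)⁻¹) = S.x k ((S.μ k τ - 1) * s) by
          group] at this
    have hDs : D s ∈ W := hcW _ (by rw [π_lft]; exact S.mem_of_scale hk τ hmu h2)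
    rw [← hWker]
    exact Subgroup.mem_inf.2 ⟨mul_mem hv hDs, MonoidHom.mem_ker.2 (by rw [map_mul]; exact hwk)⟩
  · intro g hg w hw
    obtain ⟨s, v, hv, rfl⟩ := hW'mem w hw
    rw [show g * (v * D s) * g⁻¹ = g * v * g⁻¹ * (g * D s * g⁻¹ * (D s)⁻¹) * D s by group]
    exact hW'of _ (mul_mem (hWU g hg v hv) (hcom g _ hg (hDk s))) s
  · intro g hg w hw
    obtain ⟨τg, hτg⟩ := id hg
    obtain ⟨s, v, hv, rfl⟩ := hW'mem w hw
    have e : g * D s * g⁻¹ = D (S.μ k τg * s) := by
      show g * ⁅c, lft C (S.x k s)⁆ * g⁻¹ = _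
      rw [show g * ⁅c, lft C (S.x k s)⁆ * g⁻¹ = ⁅g * c * g⁻¹, g * lft C (S.x k s) * g⁻¹⁆ by
        simp only [commutatorElement_def]; group]
      refine Lift.comm_congr C.cen ?_ ?_
      · rw [map_mul, map_mul, map_inv, hπc, ← hτg, (S.tg_comm τg τ).eq, mul_inv_cancel_right]
      · rw [map_mul, map_mul, map_inv, π_lft, π_lft, ← hτg]
        exact S.conj k hk τg s
    rw [show g * (v * D s) * g⁻¹ = g * v * g⁻¹ * (g * D s * g⁻¹) by group, e]
    exact hW'of _ (hWT g hg v hv) _

/-- A central extension splits over the first term. -/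
theorem exists_complement [Finite K]
    (hkill : ∀ i k, i ≤ k → k < S.n → NoInv.{u} (S.μ i) (S.μ k) ∨ ∀ s t, cl C (S.x i s) (S.x k t) = 1) :
    ∃ W : Subgroup E, W ⊓ π.ker = ⊥ ∧ W.map π = S.N 0 := by
  have h : ∀ d k, k + d = S.n → S.Split π k := by
    intro d
    induction d with
    | zero =>
      intro k hk
      refine ⟨⊥, ?_, bot_inf_eq _, ?_, ?_⟩
      · rw [Subgroup.map_bot, S.N_top (by omega)]
      all_goals intro g _ w hw; rw [Subgroup.mem_bot] at hw ⊢; rw [hw]; group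
    | succ d ih =>
      intro k hk
      exact S.split_step C (by omega) (fun i hi => hkill i k hi (by omega)) (ih (k + 1) (by omega))
  obtain ⟨W, h1, h2, -, -⟩ := h S.n 0 (Nat.zero_add _)
  exact ⟨W, h2, h1⟩

end Series

end Cfsg.Agent.TwistMult
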