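import Cfsg.Agent.Lib.TwistMult.E6Data
import Cfsg.Agent.Lib.TwistMult.Series
import Cfsg.Agent.Lib.Suzuki.Multiplier

/-!
The fixed root elements and torus elements of a twisted group of type E6, and the characters of the
torus on the orbits of roots.
-/

set_option autoImplicit false
set_option linter.unusedSectionVars false

open scoped Matrix commutatorElement

namespace Cfsg.Agent.TwistMult.E6

open Cfsg.Lie Cfsg.Agent.Chevalley Cfsg.Agent.Chevalley.Table Cfsg.Agent.Chevalley.Check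
  Cfsg.Agent.Chevalley.Cert Cfsg.Agent.Chevalley.Group Cfsg.Agent.Chevalley.Unip
  Cfsg.Agent.Chevalley.Borel Cfsg.Agent.Chevalley.TorusCard
  Cfsg.Agent.Chevalley.Twist Cfsg.Agent.Chevalley.Twist.E6

variable {K : Type*} [Field K] [Fintype K] {q : ℕ} {hK : Fintype.card K = q ^ 2}
  (X : Setup (K := K) hK)
include X

omit X in
theorem lt_n {r : ℕ} (hr : r < 72) : r < chevE6.nroots := hr.trans_eq (by decide +kernel)

omit X in
theorem lt_72 {r : ℕ} (hr : r < chevE6.nroots) : r < 72 := hr.trans_eq (by decide +kernel)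

omit X in
theorem qq_pow (hK : Fintype.card K = q ^ 2) (t : K) : (t ^ q) ^ q = t := by
  rw [← pow_mul, ← pow_two, ← hK, FiniteField.pow_card]

theorem ρ_eq_rho {r : ℕ} (hr : r < 72) : X.S.ρ r = rho r := by rw [X.ρ_eq]; exact (rho_ok r hr).2.2.1

theorem act_linear : ∀ r < chevE6.nroots,
    (∃ c : K, ∀ t, X.S.act r t = c * t ^ q) ∧ ∀ t, X.S.act (X.S.ρ r) (X.S.act r t) = t := by
  have hπ : ∀ i < chevE6.rank, X.S.π (X.S.π i) = i := fun i hi => by rw [X.π_eq]; exact πinv i hi
  refine Root.simple_induction hC (fun i hi => ⟨⟨1, fun t => ?_⟩, fun t => ?_⟩) fun r hr i hi ⟨⟨c, hc⟩, ih⟩ => ?_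
  · rw [X.S.act_simple i hi, X.hom_eq i hi, one_mul]
  · rw [X.S.act_simple i hi, X.S.ρ_simple i hi, X.S.act_simple _ (X.S.π_lt i hi), X.hom_eq i hi,
      X.hom_eq _ (X.S.π_lt i hi), qq_pow hK]
  have hl : ∀ j ∈ [i], j < chevE6.rank := by simp [hi]
  have hl' : ∀ j ∈ [X.S.π i], j < chevE6.rank := by simp [X.S.π_lt i hi]
  have hr' := hC.reflect_lt hi hr
  obtain ⟨η, hη, e⟩ := nL_conj_x (F := K) hC hl hr
  obtain ⟨η', hη', e'⟩ := nL_conj_x (F := K) hC hl' (X.S.ρ_lt r hr)
  have hw : wL chevE6 [i] r = chevE6.reflectRoot i r := rfl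
  have hw' : wL chevE6 [X.S.π i] (X.S.ρ r) = X.S.ρ (chevE6.reflectRoot i r) :=
    (ρ_reflect X.S hi hr).symm
  have h1 : ∀ t, X.S.act (chevE6.reflectRoot i r) (η * t) = η' * X.S.act r t := fun t => by
    have h := ((img_nL (hC := hC) X.S hl).mul (img_xg X.S hr t)).mul (img_nL (hC := hC) X.S hl).inv
    rw [List.map_cons, List.map_nil, e, e', hw, hw'] at h
    exact xg_injective hC (X.S.ρ_lt _ hr') ((img_xg X.S hr' (η * t)).unique h)
  refine ⟨⟨η' * c * (η ^ q)⁻¹, fun t => ?_⟩, fun t => ?_⟩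
  · have h := h1 (η⁻¹ * t)
    rw [mul_inv_cancel_left₀ hη, hc] at h
    rw [h, mul_pow, inv_pow]
    ring
  · obtain ⟨u, rfl⟩ : ∃ u, η * u = t := ⟨η⁻¹ * t, mul_inv_cancel_left₀ hη t⟩
    rw [h1]
    have hρr := X.S.ρ_lt r hr
    have h := ((img_nL (hC := hC) X.S hl').mul (img_xg X.S hρr (X.S.act r u))).mul
      (img_nL (hC := hC) X.S hl').inv
    rw [List.map_cons, List.map_nil, ih, e', hw', hπ i hi,
      show X.S.ρ (X.S.ρ r) = r by rw [ρ_eq_rho X (lt_72 hr), ρ_eq_rho X (rho_ok r (lt_72 hr)).1]; exact (rho_ok r (lt_72 hr)).2.1,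
      e, hw] at h
    have h2 := (img_xg X.S (X.S.ρ_lt _ hr') (η' * X.S.act r u)).unique h
    have h3 : X.S.ρ (X.S.ρ (chevE6.reflectRoot i r)) = chevE6.reflectRoot i r := by
      rw [ρ_eq_rho X (lt_72 hr'), ρ_eq_rho X (rho_ok _ (lt_72 hr')).1]
      exact (rho_ok _ (lt_72 hr')).2.1
    rw [h3] at h2
    exact xg_injective hC hr' h2

theorem act_pow {r : ℕ} (hr : r < 72) (χ t : K) : X.S.act r (χ * t) = χ ^ q * X.S.act r t := by
  obtain ⟨c, hc⟩ := (act_linear X r (lt_n hr)).1
  rw [hc, hc, mul_pow]; ring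

theorem act_act {r : ℕ} (hr : r < 72) (t : K) : X.S.act (rho r) (X.S.act r t) = t := by
  rw [← ρ_eq_rho X hr]; exact (act_linear X r (lt_n hr)).2 t

theorem img_root {r : ℕ} (hr : r < 72) (t : K) :
    Img X.S (xg hC r t) (xg hC (rho r) (X.S.act r t)) := by
  rw [← ρ_eq_rho X hr]; exact img_xg X.S (lt_n hr) t

/-- The element of the orbit of a root. -/
noncomputable def oel (r : ℕ) (t : K) : GL chevE6.Idx K :=
  if rho r = r then xg hC r (t + X.S.act r t) else xg hC r t * xg hC (rho r) (X.S.act r t)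

omit X in
theorem commute_of_chk {a b : ℕ} (ha : a < 72) (hb : b < 72) (h : noComm Data.E6.tab a b = true)
    (u v : K) : Commute (xg hC a u) (xg hC b v) := by
  obtain ⟨h1, h2, h3⟩ := noComm_spec hC (lt_n ha) (lt_n hb) h
  have e := xg_comm hC (lt_n ha) (lt_n hb) h1 h2 u v
  rw [ChevalleyDatum.commWord, h3, List.map_nil, List.map_nil, List.prod_nil, mul_one] at e
  exact e.symm

theorem oel_mem {r : ℕ} (hr : r < 72) (hc : rho r ≠ r → noComm Data.E6.tab r (rho r) = true) (t : K) :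
    oel X r t ∈ twistedE6 K q := by
  obtain ⟨hr', hrr, -, -⟩ := rho_ok r hr
  refine Fx_le X.O X.gen ((mem_Fx X.S).2 ?_)
  rw [oel]
  split
  · next e =>
    have h := img_root X hr (t + X.S.act r t)
    have h2 : X.S.act r (t + X.S.act r t) = t + X.S.act r t := by
      have h3 := act_act X hr t
      rw [e] at h3
      rw [act_add X.S (lt_n hr), h3, add_comm]
    rw [e, h2] at h
    exact h
  · next e =>
    have h := (img_root X hr t).mul (img_root X hr' (X.S.act r t))
    rw [hrr, act_act X hr] at h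
    exact (congrArg (Img X.S _) (commute_of_chk hr hr' (hc e) _ _).eq.symm).mp h

theorem oel_add {r : ℕ} (hr : r < 72) (hc : rho r ≠ r → noComm Data.E6.tab r (rho r) = true) (s t : K) :
    oel X r (s + t) = oel X r s * oel X r t := by
  simp only [oel]
  split
  · rw [← xg_add hC, act_add X.S (lt_n hr)]; congr 1; ring
  · next e =>
    rw [act_add X.S (lt_n hr), xg_add hC, xg_add hC]
    have := (commute_of_chk (K := K) hr (rho_ok r hr).1 (hc e) t (X.S.act r s)).eq
    calc xg hC r s * xg hC r t * (xg hC (rho r) (X.S.act r s) * xg hC (rho r) (X.S.act r t))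
        = xg hC r s * (xg hC r t * xg hC (rho r) (X.S.act r s)) * xg hC (rho r) (X.S.act r t) := by group
      _ = _ := by rw [this]; group

theorem oel_commute {r s : ℕ} (hr : r < 72) (hs : s < 72) (h : noComm Data.E6.tab r s = true)
    (h' : noComm Data.E6.tab (rho r) s = true) (hs' : rho s = s) (a b : K) :
    Commute (oel X r a) (oel X s b) := by
  have e : oel X s b = xg hC s (b + X.S.act s b) := by rw [oel, if_pos hs']
  rw [e, oel]
  split
  · exact commute_of_chk hr hs h _ _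
  · exact (commute_of_chk hr hs h _ _).mul_left (commute_of_chk (rho_ok r hr).1 hs h' _ _)

/-! ### The torus -/

omit X in
theorem torChar_dot (c : ℕ → Kˣ) {r : ℕ} (hr : r < 72) (v w : Kˣ) (a b : ℕ → ℤ)
    (hc : ∀ i < 6, c i = v ^ a i * w ^ b i) :
    torChar chevE6 c r = v ^ dot a r * w ^ dot b r := by
  have h6 : chevE6.rank = 6 := by decide
  have hp := pairs_ok r hr
  simp only [torChar, h6, dot, Finset.prod_range_succ, Finset.prod_range_zero, one_mul,
    show List.range 6 = [0, 1, 2, 3, 4, 5] from rfl, List.map_cons, List.map_nil, List.sum_cons,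
    List.sum_nil, add_zero, hc 0 (by decide), hc 1 (by decide), hc 2 (by decide), hc 3 (by decide),
    hc 4 (by decide), hc 5 (by decide), hp 0 (by decide), hp 1 (by decide), hp 2 (by decide),
    hp 3 (by decide), hp 4 (by decide), hp 5 (by decide), mul_zpow, ← zpow_mul, zpow_add]
  simp only [mul_assoc, mul_comm, mul_left_comm]

/-- Parameters of fixed torus elements. -/
def Par6 (q : ℕ) (K : Type*) [Field K] : Type _ := {c : ℕ → Kˣ // ∀ i < 6, c (np i) = c i ^ q}

theorem tor_mem (c : Par6 q K) : tor chevE6 c.1 ∈ twistedE6 K q := by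
  refine Fx_le X.O X.gen ((mem_Fx X.S).2 ?_)
  obtain ⟨d, hd⟩ : ∃ d : Fin chevE6.rank → Kˣ, d = fun i : Fin chevE6.rank => c.1 i := ⟨_, rfl⟩
  have hinv : ∀ j < chevE6.rank, X.S.π (nodePi L j) = j := fun j hj => by
    rw [X.π_eq]; exact πinv j hj
  have h1 := img_torHom X.S πlt hinv d
  have h2 : tau X.S (nodePi L) πlt d = d := by
    funext j
    refine Units.ext ?_
    have hπ : ∀ i < 6, nodePi L i = np i := by decide
    have hinv' : ∀ i < 6, np (np i) = i ∧ np i < 6 := by decide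
    have hj : (j : ℕ) < 6 := j.2
    show X.S.hom _ (d ⟨nodePi L j, πlt j j.2⟩ : K) = (d j : K)
    rw [X.hom_eq _ (πlt j j.2), hd]
    simp only [hπ j hj]
    rw [← Units.val_pow_eq_pow_val, ← c.2 (np j) (hinv' j hj).2, (hinv' j hj).1]
  rw [h2] at h1
  have e : torHom chevE6 K d = tor chevE6 c.1 := by
    show tor chevE6 _ = _
    exact dg_congr fun s _ => Finset.prod_congr rfl fun i hi => by
      rw [TorusCard.ext, dif_pos (Finset.mem_range.1 hi), hd]
  rw [← e]
  exact h1

/-- A torus element of the group. -/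
noncomputable def tg (c : Par6 q K) : twistedE6 K q := ⟨_, tor_mem X c⟩

omit X in
theorem chr_rho (c : Par6 q K) {r : ℕ} (hr : r < 72) :
    torChar chevE6 c.1 (rho r) = torChar chevE6 c.1 r ^ q := by
  have h6 : chevE6.rank = 6 := by decide
  obtain ⟨hr', -, -, hp⟩ := rho_ok r hr
  have hp0 := pairs_ok r hr
  have hp1 := pairs_ok (rho r) hr'
  have hz : ∀ (x : Kˣ) (n : ℤ), (x ^ n) ^ q = (x ^ q) ^ n := fun x n => by
    rw [← zpow_natCast, ← zpow_natCast, ← zpow_mul, ← zpow_mul, mul_comm]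
  have hc := c.2
  have e0 := hc 0 (by decide); have e1 := hc 1 (by decide); have e2 := hc 2 (by decide)
  have e3 := hc 3 (by decide); have e4 := hc 4 (by decide); have e5 := hc 5 (by decide)
  simp only [np, List.getD_cons_zero, List.getD_cons_succ] at e0 e1 e2 e3 e4 e5
  simp only [torChar, h6, Finset.prod_range_succ, Finset.prod_range_zero, one_mul, mul_pow, hz,
    hp0 0 (by decide), hp0 1 (by decide), hp0 2 (by decide), hp0 3 (by decide), hp0 4 (by decide),
    hp0 5 (by decide), hp1 0 (by decide), hp1 1 (by decide), hp1 2 (by decide), hp1 3 (by decide),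
    hp1 4 (by decide), hp1 5 (by decide), hp 0 (by decide), hp 1 (by decide), hp 2 (by decide),
    hp 3 (by decide), hp 4 (by decide), hp 5 (by decide), ← e0, ← e1, ← e2, ← e3, ← e4, ← e5,
    np, List.getD_cons_zero, List.getD_cons_succ]
  simp only [mul_assoc, mul_comm, mul_left_comm]

theorem oel_conj (c : Par6 q K) {r : ℕ} (hr : r < 72) (t : K) :
    tor chevE6 c.1 * oel X r t * (tor chevE6 c.1)⁻¹ = oel X r ((torChar chevE6 c.1 r : K) * t) := by
  simp only [oel]
  split
  · next e =>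
    have hχ : (torChar chevE6 c.1 r : K) ^ q = (torChar chevE6 c.1 r : K) := by
      rw [← Units.val_pow_eq_pow_val, ← chr_rho c hr, e]
    rw [tor_conj_x hC _ _ _ (lt_n hr), act_pow X hr, hχ, mul_add]
  · rw [act_pow X hr, ← Units.val_pow_eq_pow_val, ← chr_rho c hr,
      ← tor_conj_x hC _ _ _ (lt_n hr), ← tor_conj_x hC _ _ _ (lt_n (rho_ok r hr).1)]
    group

/-! ### The characters -/

/-- The character of a root on the parameters. -/
def chr (r : ℕ) (c : Par6 q K) : K := (torChar chevE6 c.1 r : K)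

omit X in
theorem exists_par (hK : Fintype.card K = q ^ 2) (w : List ℤ) (v : Kˣ) :
    ∃ c : Par6 q K, ∀ r < 72,
      torChar chevE6 c.1 r = v ^ (expo w r).1 * (v ^ q) ^ (expo w r).2 := by
  have hv : (v ^ q) ^ q = v := Units.ext (by simpa using qq_pow hK (v : K))
  have hinv : ∀ i < 6, np (np i) = i := by decide
  refine ⟨⟨fun i => v ^ w.getD i 0 * (v ^ q) ^ w.getD (np i) 0, fun i hi => ?_⟩, fun r hr =>
    torChar_dot _ hr v (v ^ q) _ _ fun i _ => rfl⟩
  simp only [hinv i hi, mul_pow]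
  rw [mul_comm, ← zpow_natCast (v ^ w.getD i 0), ← zpow_mul, ← zpow_natCast ((v ^ q) ^ _), ← zpow_mul,
    mul_comm _ (q : ℤ), zpow_mul, zpow_natCast, mul_comm _ (q : ℤ), zpow_mul, zpow_natCast, hv]

omit X in
theorem exists_nonnorm (hK : Fintype.card K = q ^ 2) (hq : 3 ≤ q) : ∃ v : Kˣ, v * v ^ q ≠ 1 := by
  classical
  obtain ⟨v, hv⟩ := IsCyclic.exists_ofOrder_eq_natCard (α := Kˣ)
  refine ⟨v, fun h => ?_⟩
  rw [Nat.card_units, Nat.card_eq_fintype_card, hK] at hv
  rw [← pow_succ'] at h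
  have h1 := Nat.le_of_dvd (by omega) (hv ▸ orderOf_dvd_of_pow_eq_one h)
  have h2 : 3 * q ≤ q ^ 2 := by nlinarith
  omega

omit X in
theorem noInv_of_sepOne (hK : Fintype.card K = q ^ 2) (hq : 3 ≤ q) {r s : ℕ} (hr : r < 72) (hs : s < 72)
    {w : List ℤ} (h : sepOne w r s = true) : ∃ c : Par6 q K, chr r c = 1 ∧ chr s c ≠ 1 := by
  obtain ⟨v, hv⟩ := exists_nonnorm hK hq
  obtain ⟨c, hc⟩ := exists_par hK w v
  simp only [sepOne, Bool.and_eq_true, Bool.or_eq_true, beq_iff_eq] at h
  refine ⟨c, by simp [chr, hc r hr, h.1], fun e => hv ?_⟩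
  rw [chr, Units.val_eq_one, hc s hs] at e
  rcases h.2 with h2 | h2 <;> rw [h2] at e
  · simpa using e
  · rwa [zpow_neg_one, zpow_neg_one, ← mul_inv, inv_eq_one] at e

omit X in
theorem noInv_sep.{u} (hK : Fintype.card K = q ^ 2) (hq : 3 ≤ q) {r s : ℕ} (hr : r < 72) (hs : s < 72)
    (h : sep r s = true) : NoInv.{u} (chr (q := q) (K := K) r) (chr s) := by
  intro A _ B hl hr' hinv a b
  obtain ⟨w, -, hw⟩ := List.any_eq_true.1 h
  rcases (Bool.or_eq_true _ _).mp hw with hw | hw
  · obtain ⟨c, h1, h2⟩ := noInv_of_sepOne hK hq hr hs hw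
    have e := hinv c a (b / (chr s c - 1))
    rw [h1, one_mul] at e
    have e2 : chr s c * (b / (chr s c - 1)) = b + b / (chr s c - 1) := by
      have := sub_ne_zero.2 h2
      field_simp
      ring
    rwa [e2, hr', mul_eq_right] at e
  · obtain ⟨c, h1, h2⟩ := noInv_of_sepOne hK hq hs hr hw
    have e := hinv c (a / (chr r c - 1)) b
    rw [h1, one_mul] at e
    have e2 : chr r c * (a / (chr r c - 1)) = a + a / (chr r c - 1) := by
      have := sub_ne_zero.2 h2
      field_simp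
      ring
    rwa [e2, hl, mul_eq_right] at e

omit X in
/-- A witness that inversion is not additive. -/
theorem inv_witness (hK : Fintype.card K = q ^ 2) (hq : 3 ≤ q) :
    ∃ w₁ w₂ : K, w₁ ≠ 0 ∧ w₂ ≠ 0 ∧ w₁ + w₂ ≠ 0 ∧ w₁⁻¹ + w₂⁻¹ ≠ 0 ∧ (w₁ + w₂)⁻¹ ≠ w₁⁻¹ + w₂⁻¹ := by
  classical
  obtain ⟨P, hP⟩ : ∃ P : Polynomial K, P = Polynomial.X ^ 2 + Polynomial.X + 1 := ⟨_, rfl⟩
  obtain ⟨w, hw⟩ : ∃ w : K, w ∉ ({0, -1} : Finset K) ∪ P.roots.toFinset := by
    by_contra hcon
    push Not at hcon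
    have h1 := Finset.card_le_card (s := Finset.univ) fun x _ => hcon x
    have h2 : P.natDegree ≤ 2 := by rw [hP]; compute_degree
    have h3 := P.roots.toFinset_card_le
    have h4 := P.card_roots'
    rw [Finset.card_univ, hK] at h1
    have h5 := Finset.card_union_le ({0, -1} : Finset K) P.roots.toFinset
    have h6 : ({0, -1} : Finset K).card ≤ 2 := Finset.card_le_two
    have h7 : 3 * q ≤ q ^ 2 := by nlinarith
    omega
  simp only [Finset.mem_union, Finset.mem_insert, Finset.mem_singleton, Multiset.mem_toFinset,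
    not_or] at hw
  obtain ⟨⟨hw0, hw1⟩, hwr⟩ := hw
  have hne : w ^ 2 + w + 1 ≠ 0 := by
    intro h
    apply hwr
    rw [Polynomial.mem_roots', Polynomial.IsRoot.def]
    refine ⟨fun hz => ?_, by simpa [hP] using h⟩
    have := congrArg (Polynomial.coeff · 0) hz
    simp [hP] at this
  have hw1' : w + 1 ≠ 0 := fun h => hw1 (eq_neg_of_add_eq_zero_left h)
  refine ⟨w, 1, hw0, one_ne_zero, hw1', ?_, ?_⟩
  · intro h
    field_simp at h
    exact hw1' (by linear_combination h)
  · intro h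
    field_simp at h
    exact hne (by linear_combination -h)

omit X in
theorem noInv_same.{u} (hK : Fintype.card K = q ^ 2) (hq : 3 ≤ q) {k : ℕ} (hk : k < 24)
    (h : rho (lay k) ≠ lay k) : NoInv.{u} (chr (q := q) (K := K) (lay k)) (chr (lay k)) := by
  intro A _ B hl hr hinv
  refine Suzuki.Multiplier.pairing_eq_one B (fun w => w⁻¹) hl hr (fun x w hw => ?_)
    (fun y hy => ⟨y⁻¹, inv_ne_zero hy, inv_inv y⟩) (inv_witness hK hq)
  have hm := mov_ok k hk
  rw [movChk, show (rho (lay k) == lay k) = false by simpa using h, cond_false, beq_iff_eq] at hm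
  obtain ⟨c, hc⟩ := exists_par hK (movL.getD k []) (Units.mk0 w hw)
  have hcw : chr (lay k) c = w := by
    rw [chr, hc _ (lay_ok k hk).1, hm]
    simp
  have e := hinv c x w⁻¹
  rw [hcw, mul_inv_cancel₀ hw, mul_comm] at e
  exact e.symm

omit X in
theorem exists_move (hK : Fintype.card K = q ^ 2) (hq : 3 ≤ q) {k : ℕ} (hk : k < 24) :
    ∃ c : Par6 q K, chr (lay k) c ≠ 1 := by
  obtain ⟨v, hv⟩ := exists_nonnorm hK hq
  obtain ⟨c, hc⟩ := exists_par hK (movL.getD k []) v
  refine ⟨c, fun e => ?_⟩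
  rw [chr, Units.val_eq_one, hc _ (lay_ok k hk).1] at e
  have hm := mov_ok k hk
  rw [movChk] at hm
  cases hb : (rho (lay k) == lay k) <;> rw [hb] at hm <;>
    simp only [cond_false, cond_true, Bool.or_eq_true, beq_iff_eq] at hm
  · rw [hm] at e
    simp only [zpow_one, zpow_zero, mul_one] at e
    exact hv (by rw [e, one_pow, mul_one])
  · rcases hm with hm | hm <;> rw [hm] at e
    · exact hv (by simpa using e)
    · exact hv (by rwa [zpow_neg_one, zpow_neg_one, ← mul_inv, inv_eq_one] at e)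

end Cfsg.Agent.TwistMult.E6
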