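import Cfsg.Agent.Lib.TwistMult.E6Elts
import Cfsg.Agent.Lib.Chevalley.Graded
import Cfsg.Agent.Lib.Chevalley.Twist.AutFrame

/-!
The height filtration of the unipotent group of type E6 and the layers of its fixed points.
-/

set_option autoImplicit false
set_option linter.unusedSectionVars false

open scoped Matrix commutatorElement

namespace Cfsg.Agent.TwistMult.E6

open Cfsg.Lie Cfsg.Agent.Chevalley Cfsg.Agent.Chevalley.Table Cfsg.Agent.Chevalley.Check
  Cfsg.Agent.Chevalley.Cert Cfsg.Agent.Chevalley.Group Cfsg.Agent.Chevalley.Unip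
  Cfsg.Agent.Chevalley.Weight Cfsg.Agent.Chevalley.Graded Cfsg.Agent.Chevalley.Cover
  Cfsg.Agent.Chevalley.Borel Cfsg.Agent.Chevalley.Columns Cfsg.Agent.Chevalley.Perfect
  Cfsg.Agent.Chevalley.Twist Cfsg.Agent.Chevalley.Twist.E6

variable {K : Type*} [Field K]

/-- The coefficients of the height. -/
def ca (i : ℕ) : ℤ := [8, 11, 15, 21, 15, 8].getD i 0

theorem lin_ht {r : ℕ} (hr : r < 72) : lin chevE6 ca r = ht r := by
  rw [(ht_ok r hr).1, lin, dot, show chevE6.rank = 6 by decide]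
  have hp := pairs_ok r hr
  simp only [Finset.sum_range_succ, Finset.sum_range_zero, zero_add,
    show List.range 6 = [0, 1, 2, 3, 4, 5] from rfl, List.map_cons, List.map_nil, List.sum_cons,
    List.sum_nil, add_zero, hp 0 (by decide), hp 1 (by decide), hp 2 (by decide), hp 3 (by decide),
    hp 4 (by decide), hp 5 (by decide), ca, add_assoc]

/-- The group of the roots of height at least `h`. -/
def Ht (K : Type*) [Field K] (h : ℤ) : Subgroup (GL chevE6.Idx K) :=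
  Subgroup.closure {g | ∃ r t, r < 72 ∧ h ≤ ht r ∧ g = xg hC r t}

theorem Ht_anti {a b : ℤ} (h : a ≤ b) : Ht K b ≤ Ht K a :=
  Subgroup.closure_mono fun _ ⟨r, t, hr, hh, e⟩ => ⟨r, t, hr, h.trans hh, e⟩

theorem xg_mem_Ht {h : ℤ} {r : ℕ} (hr : r < 72) (hh : h ≤ ht r) (t : K) : xg hC r t ∈ Ht K h :=
  Subgroup.subset_closure ⟨r, t, hr, hh, rfl⟩

theorem Ht_top {h : ℤ} (hh : 12 ≤ h) : Ht K h = ⊥ := by
  rw [Ht, Subgroup.closure_eq_bot_iff]
  rintro g ⟨r, t, hr, hle, -⟩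
  have := (ht_ok r hr).2.2.2
  omega

theorem Ht_one : Ht K 1 = chevE6.posUnipotent K := by
  rw [← Uge_zero hC]
  refine le_antisymm (Subgroup.closure_mono ?_) (Subgroup.closure_mono ?_)
  · rintro g ⟨r, t, hr, hh, rfl⟩
    exact ⟨r, t, lt_n hr, (ht_ok r hr).2.2.1.2 (by omega), Nat.zero_le r, rfl⟩
  · rintro g ⟨r, t, hr, hp, -, rfl⟩
    have := (ht_ok r (lt_72 hr)).2.2.1.1 hp
    exact ⟨r, t, lt_72 hr, by omega, rfl⟩

theorem word_mem {a b : ℤ} (ha : 1 ≤ a) (hb : 1 ≤ b) {r s : ℕ} (hr : r < 72) (hs : s < 72)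
    (hra : a ≤ ht r) (hsb : b ≤ ht s) (t u : K) :
    ((chevE6.commWord K r s t u).map fun p => xg hC p.1 p.2).prod ∈ Ht K (a + b) := by
  refine list_prod_mem fun g hg => ?_
  obtain ⟨p, hp, rfl⟩ := List.mem_map.1 hg
  simp only [ChevalleyDatum.commWord, List.mem_map] at hp
  obtain ⟨c, hc, rfl⟩ := hp
  obtain ⟨hk, -⟩ := commTerms_phi hC (lt_n hr) (lt_n hs) c hc
  obtain ⟨i, j, hi, hj, e⟩ := lin_commTerms hC ca (lt_n hr) (lt_n hs) c hc
  rw [lin_ht (lt_72 hk), lin_ht hr, lin_ht hs] at e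
  refine xg_mem_Ht (lt_72 hk) ?_ _
  have hi' : (1 : ℤ) ≤ i := by exact_mod_cast hi
  have hj' : (1 : ℤ) ≤ j := by exact_mod_cast hj
  nlinarith

theorem not_neg {r s : ℕ} (hr : r < 72) (hs : s < 72) (hra : 0 < ht r) (hsb : 0 < ht s) :
    s ≠ chevE6.neg r := by
  intro e
  have h := lin_neg hC ca (lt_n hr)
  rw [← e, lin_ht hs, lin_ht hr] at h
  omega

variable [Fintype K]

theorem Ht_normal {h : ℤ} (hh : 1 ≤ h) {g x : GL chevE6.Idx K} (hg : g ∈ Ht K 1) (hx : x ∈ Ht K h) :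
    g * x * g⁻¹ ∈ Ht K h := by
  refine TwistMult.closure_ind (p := fun g => ∀ x ∈ Ht K h, g * x * g⁻¹ ∈ Ht K h) ?_
    (fun x hx => by simpa using hx) (fun a b _ _ ha hb x hx => ?_) hg x hx
  · rintro _ ⟨r, t, hr, hr1, rfl⟩ x hx
    refine TwistMult.closure_ind (p := fun x => xg hC r t * x * (xg hC r t)⁻¹ ∈ Ht K h) ?_ (by simp) ?_ hx
    · rintro _ ⟨s, u, hs, hsh, rfl⟩
      by_cases hsr : s = r
      · subst hsr
        rw [← xg_add hC, xg_inv hC, ← xg_add hC]
        exact xg_mem_Ht hs hsh _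
      have e := xg_comm hC (lt_n hr) (lt_n hs) hsr (not_neg hr hs (by omega) (by omega)) (-t) u
      rw [← xg_inv hC r t] at e
      rw [mul_assoc, e, ← mul_assoc, ← mul_assoc, mul_inv_cancel, one_mul]
      exact mul_mem (xg_mem_Ht hs hsh u) (Ht_anti (by omega) (word_mem le_rfl hh hr hs hr1 hsh _ _))
    · intro a b _ _ ha hb
      rw [show xg hC r t * (a * b) * (xg hC r t)⁻¹ =
        xg hC r t * a * (xg hC r t)⁻¹ * (xg hC r t * b * (xg hC r t)⁻¹) by group]
      exact mul_mem ha hb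
  · rw [show a * b * x * (a * b)⁻¹ = a * (b * x * b⁻¹) * a⁻¹ by group]
    exact ha _ (hb x hx)

theorem Ht_comm {a b : ℤ} (ha : 1 ≤ a) (hb : 1 ≤ b) {g x : GL chevE6.Idx K} (hg : g ∈ Ht K a)
    (hx : x ∈ Ht K b) : ⁅g, x⁆ ∈ Ht K (a + b) := by
  have hab : (1 : ℤ) ≤ a + b := by omega
  refine TwistMult.closure_ind (p := fun x => ∀ g ∈ Ht K a, ⁅g, x⁆ ∈ Ht K (a + b)) ?_ ?_ ?_ hx g hg
  · rintro _ ⟨r, t, hr, hrb, rfl⟩ g hg
    refine TwistMult.closure_ind (p := fun g => ⁅g, xg hC r t⁆ ∈ Ht K (a + b)) ?_ ?_ ?_ hg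
    · rintro _ ⟨s, u, hs, hsa, rfl⟩
      by_cases hsr : s = r
      · subst hsr
        rw [commutatorElement_eq_one_iff_commute.2 (by
          rw [commute_iff_eq, ← xg_add hC, ← xg_add hC, add_comm])]
        exact one_mem _
      have e := xg_comm hC (lt_n hr) (lt_n hs) hsr (not_neg hr hs (by omega) (by omega)) t u
      rw [commutatorElement_def, e, mul_assoc (xg hC r t * xg hC s u),
        show ∀ W : GL chevE6.Idx K, xg hC r t * xg hC s u * (W * (xg hC s u)⁻¹) * (xg hC r t)⁻¹ =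
          xg hC r t * (xg hC s u * W * (xg hC s u)⁻¹) * (xg hC r t)⁻¹ from fun W => by group]
      refine Ht_normal hab (xg_mem_Ht hr (by omega) t) (Ht_normal hab (xg_mem_Ht hs (by omega) u) ?_)
      rw [add_comm a b]
      exact word_mem hb ha hr hs hrb hsa _ _
    · rw [commutatorElement_one_left]; exact one_mem _
    · intro x y hx' _ ihx ihy
      rw [Lift.comm_mul_left]
      exact mul_mem (Ht_normal hab (Ht_anti ha hx') ihy) ihx
  · intro g _
    rw [commutatorElement_one_right]; exact one_mem _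
  · intro x y hx' _ ihx ihy g hg
    rw [Lift.comm_mul_right]
    exact mul_mem (ihx g hg) (Ht_normal hab (Ht_anti hb hx') (ihy g hg))

/-! ### The coordinates -/

theorem Ht_le_UT {h : ℤ} (hh : 1 ≤ h) :
    Ht K h ≤ UT (deg chevE6 ca) h (by omega) := by
  rw [Ht, Subgroup.closure_le]
  rintro g ⟨r, t, hr, hle, rfl⟩
  have key : ∀ u : K, Fil (deg chevE6 ca) h (chevE6.x K r u - 1) := by
    intro u i j hij
    obtain ⟨k, hk, hkd⟩ := x_deg hC ca (lt_n hr) hij
    rw [hkd, lin_ht hr]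
    have h1 : (1 : ℤ) ≤ k := by exact_mod_cast hk
    nlinarith
  exact ⟨key t, by rw [xg_inv hC]; exact key (-t)⟩

/-- The coefficient of a root. -/
noncomputable def cu (r : ℕ) : K := -(((pairs.getD r []).getD (ui r) 0 : ℤ) : K)

theorem cu_ne {r : ℕ} (hr : r < 72) : (cu r : K) ≠ 0 := by
  rcases (ui_ok r hr).2 with e | e <;> rw [cu, e] <;> simp

/-- The coordinate of a root. -/
noncomputable def coo (g : GL chevE6.Idx K) (r : ℕ) : K :=
  if hr : r < 72 then (cu r)⁻¹ * (g : Matrix chevE6.Idx chevE6.Idx K) (Sum.inr ⟨r, lt_n hr⟩)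
    (Sum.inl ⟨ui r, (ui_ok r hr).1.trans_eq (by decide)⟩) else 0

theorem coo_xg {r s : ℕ} (hr : r < 72) (hs : s < 72) (t : K) :
    coo (xg hC s t) r = if r = s then t else 0 := by
  obtain ⟨hu, -⟩ := ui_ok r hr
  have hu' : ui r < chevE6.rank := hu.trans_eq (by decide)
  have h := congrFun (x_h (F := K) hC (lt_n hs) hu' t) (Sum.inr ⟨r, lt_n hr⟩)
  rw [eh_eq hu', Matrix.mulVec_single_one, Matrix.col_apply] at h
  rw [coo, dif_pos hr, coe_xg, h]
  simp only [Pi.sub_apply, Pi.smul_apply, Pi.single_apply, reduceCtorEq, if_false, zero_sub, smul_eq_mul,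
    ev_inr]
  split
  · next e =>
    subst e
    rw [pairs_ok r hr _ hu, mul_one, ← neg_mul, cu, inv_mul_cancel_left₀ (cu_ne hr)]
  · simp

theorem coo_one (r : ℕ) : coo (1 : GL chevE6.Idx K) r = 0 := by
  rw [coo]; split <;> simp

theorem coo_mul {h : ℤ} (hh : 1 ≤ h) {r : ℕ} (hr : r < 72) (hrh : ht r = h) {g g' : GL chevE6.Idx K}
    (hg : g ∈ Ht K h) (hg' : g' ∈ Ht K h) : coo (g * g') r = coo g r + coo g' r := by
  simp only [coo, dif_pos hr, ← mul_add]
  congr 1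
  obtain ⟨i, hi⟩ : ∃ i : chevE6.Idx, i = Sum.inr ⟨r, lt_n hr⟩ := ⟨_, rfl⟩
  obtain ⟨j, hj⟩ : ∃ j : chevE6.Idx, j = Sum.inl ⟨ui r, (ui_ok r hr).1.trans_eq (by decide)⟩ := ⟨_, rfl⟩
  rw [← hi, ← hj]
  obtain ⟨A, hA⟩ : ∃ A, A = ((g : Matrix chevE6.Idx chevE6.Idx K) - 1) := ⟨_, rfl⟩
  obtain ⟨B, hB⟩ : ∃ B, B = ((g' : Matrix chevE6.Idx chevE6.Idx K) - 1) := ⟨_, rfl⟩
  have h0 : (A * B) i j = 0 := by
    by_contra hne
    have h1 := fil_mul _ (hA ▸ (Ht_le_UT hh hg).1) (hB ▸ (Ht_le_UT hh hg').1) i j hne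
    have h2 : deg chevE6 ca i - deg chevE6 ca j = h := by
      rw [hi, hj]; simp [deg, lin_ht hr, hrh]
    omega
  have hne : i ≠ j := by rw [hi, hj]; simp
  rw [Units.val_mul, show (g : Matrix chevE6.Idx chevE6.Idx K) * g' = A * B + A + B + 1 by
    rw [hA, hB]; noncomm_ring]
  simp only [Matrix.add_apply, h0, Matrix.one_apply_ne hne, add_zero, zero_add]
  rw [hA, hB, Matrix.sub_apply, Matrix.sub_apply, Matrix.one_apply_ne hne, sub_zero, sub_zero]

theorem coo_inv {h : ℤ} (hh : 1 ≤ h) {r : ℕ} (hr : r < 72) (hrh : ht r = h) {g : GL chevE6.Idx K}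
    (hg : g ∈ Ht K h) : coo g⁻¹ r = -coo g r := by
  have e := coo_mul hh hr hrh (inv_mem hg) hg
  rw [inv_mul_cancel, coo_one] at e
  linear_combination -e

theorem coo_high {h : ℤ} (hh : 1 ≤ h) {r : ℕ} (hr : r < 72) (hrh : ht r = h) {g : GL chevE6.Idx K}
    (hg : g ∈ Ht K (h + 1)) : coo g r = 0 := by
  refine TwistMult.closure_ind (p := fun g => coo g r = 0) ?_ (coo_one r) ?_ hg
  · rintro _ ⟨s, t, hs, hsh, rfl⟩
    rw [coo_xg hr hs, if_neg (by rintro rfl; omega)]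
  · intro a b ha hb iha ihb
    rw [coo_mul hh hr hrh (Ht_anti (by omega) ha) (Ht_anti (by omega) hb), iha, ihb, add_zero]

/-- A product over a list of roots. -/
def prodR (l : List ℕ) (f : ℕ → K) : GL chevE6.Idx K := (l.map fun r => xg hC r (f r)).prod

theorem prodR_mem {h : ℤ} {l : List ℕ} (hl : ∀ r ∈ l, r < 72 ∧ h ≤ ht r) (f : ℕ → K) : prodR l f ∈ Ht K h := by
  refine list_prod_mem fun g hg => ?_
  obtain ⟨r, hr, rfl⟩ := List.mem_map.1 hg
  exact xg_mem_Ht (hl r hr).1 (hl r hr).2 _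

theorem prodR_add {h : ℤ} (hh : 1 ≤ h) : ∀ {l : List ℕ}, (∀ r ∈ l, r < 72 ∧ h ≤ ht r) → ∀ f f' : ℕ → K,
    ∃ u ∈ Ht K (h + 1), prodR l f * prodR l f' = prodR l (f + f') * u := by
  intro l
  induction l with
  | nil => intro _ f f'; exact ⟨1, one_mem _, by simp [prodR]⟩
  | cons r l ih =>
    intro hl f f'
    have hl' : ∀ s ∈ l, s < 72 ∧ h ≤ ht s := fun s hs => hl s (List.mem_cons_of_mem r hs)
    obtain ⟨hr, hrh⟩ := hl r List.mem_cons_self
    obtain ⟨u, hu, e⟩ := ih hl' f f'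
    obtain ⟨P, hP⟩ : ∃ P, P = prodR l f := ⟨_, rfl⟩
    obtain ⟨P', hP'⟩ : ∃ P', P' = prodR l f' := ⟨_, rfl⟩
    obtain ⟨b, hb⟩ : ∃ b, b = xg hC r (f' r) := ⟨_, rfl⟩
    have hPm : P ∈ Ht K h := hP ▸ prodR_mem hl' f
    have hP'm : P' ∈ Ht K 1 := Ht_anti hh (hP' ▸ prodR_mem hl' f')
    have hc : P⁻¹ * b⁻¹ * P * b ∈ Ht K (h + 1) := by
      have := Ht_comm hh hh (inv_mem hPm) (inv_mem (hb ▸ xg_mem_Ht hr hrh (f' r) : b ∈ Ht K h))
      rw [commutatorElement_def, inv_inv, inv_inv] at this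
      exact Ht_anti (by omega) this
    have hc' := Ht_normal (by omega) (inv_mem hP'm) hc
    rw [inv_inv] at hc'
    refine ⟨u * (P'⁻¹ * (P⁻¹ * b⁻¹ * P * b) * P'), mul_mem hu hc', ?_⟩
    have e2 : prodR (r :: l) (f + f') = xg hC r (f r) * b * prodR l (f + f') := by
      simp [prodR, hb, xg_add hC]
    have e3 : prodR (r :: l) f = xg hC r (f r) * P := by simp [prodR, hP]
    have e4 : prodR (r :: l) f' = b * P' := by simp [prodR, hb, hP']
    rw [e2, e3, e4]
    rw [← hP, ← hP'] at e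
    calc xg hC r (f r) * P * (b * P') =
        xg hC r (f r) * b * (P * P') * (P'⁻¹ * (P⁻¹ * b⁻¹ * P * b) * P') := by group
      _ = _ := by rw [e]; group

theorem prodR_zero (l : List ℕ) : prodR l (0 : ℕ → K) = 1 := by
  induction l with
  | nil => rfl
  | cons r l ih => simp only [prodR, List.map_cons, List.prod_cons, Pi.zero_apply, xg_zero hC, one_mul] at ih ⊢; exact ih

theorem prodR_single : ∀ {l : List ℕ}, l.Nodup → ∀ {r : ℕ}, r ∈ l → ∀ t : K,
    prodR l (Pi.single r t) = xg hC r t := by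
  intro l
  induction l with
  | nil => intro _ r hr; simp at hr
  | cons a l ih =>
    intro hnd r hr t
    rw [List.nodup_cons] at hnd
    simp only [prodR, List.map_cons, List.prod_cons] at ih ⊢
    rcases List.mem_cons.1 hr with rfl | hr
    · rw [Pi.single_eq_same]
      have h0 : (l.map fun s => xg hC s ((Pi.single r t : ℕ → K) s)) = l.map fun s => xg hC s ((0 : ℕ → K) s) :=
        List.map_congr_left fun s hs => by rw [Pi.single_eq_of_ne (fun e : s = r => hnd.1 (e ▸ hs)), Pi.zero_apply]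
      rw [h0]
      exact (congrArg _ (prodR_zero l)).trans (mul_one _)
    · rw [Pi.single_eq_of_ne (fun e : a = r => hnd.1 (e ▸ hr)), xg_zero hC, one_mul, ih hnd.2 hr]

/-- The roots of one height. -/
def lev (h : ℤ) : List ℕ := (List.range 72).filter fun r => ht r == h

theorem mem_lev {h : ℤ} {r : ℕ} : r ∈ lev h ↔ r < 72 ∧ ht r = h := by simp [lev]

theorem lev_le {h : ℤ} : ∀ r ∈ lev h, r < 72 ∧ h ≤ ht r := fun _ hr =>
  ⟨(mem_lev.1 hr).1, (mem_lev.1 hr).2.ge⟩

theorem Ht_form {h : ℤ} (hh : 1 ≤ h) {g : GL chevE6.Idx K} (hg : g ∈ Ht K h) :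
    ∃ f : ℕ → K, ∃ u ∈ Ht K (h + 1), g = prodR (lev h) f * u := by
  refine TwistMult.closure_ind (p := fun g => ∃ f : ℕ → K, ∃ u ∈ Ht K (h + 1), g = prodR (lev h) f * u) ?_
    ⟨0, 1, one_mem _, by rw [prodR_zero, mul_one]⟩ ?_ hg
  · rintro _ ⟨r, t, hr, hrh, rfl⟩
    rcases eq_or_lt_of_le hrh with e | hlt
    · exact ⟨Pi.single r t, 1, one_mem _, by
        rw [prodR_single (l := lev h) (List.nodup_range.filter _) (mem_lev.2 ⟨hr, e.symm⟩), mul_one]⟩
    · exact ⟨0, _, xg_mem_Ht hr hlt t, by rw [prodR_zero, one_mul]⟩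
  · rintro _ _ - - ⟨f, u, hu, rfl⟩ ⟨f', u', hu', rfl⟩
    obtain ⟨v, hv, e⟩ := prodR_add hh (lev_le (h := h)) f f'
    obtain ⟨P', hP'⟩ : ∃ P', P' = prodR (lev h) f' := ⟨_, rfl⟩
    have hc := Ht_normal (by omega) (inv_mem (Ht_anti hh (hP' ▸ prodR_mem lev_le f' : P' ∈ Ht K h))) hu
    rw [inv_inv] at hc
    refine ⟨f + f', v * (P'⁻¹ * u * P') * u', mul_mem (mul_mem hv hc) hu', ?_⟩
    rw [← hP'] at e ⊢
    calc prodR (lev h) f * u * (P' * u') = prodR (lev h) f * P' * (P'⁻¹ * u * P') * u' := by group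
      _ = _ := by rw [e]; group

theorem coo_prodR {h : ℤ} (hh : 1 ≤ h) {r : ℕ} (hrh : ht r = h) (hr : r < 72) :
    ∀ {l : List ℕ}, (∀ s ∈ l, s < 72 ∧ h ≤ ht s) → l.Nodup → ∀ f : ℕ → K,
      coo (prodR l f) r = if r ∈ l then f r else 0 := by
  intro l
  induction l with
  | nil => intro _ _ f; simp [prodR, coo_one]
  | cons a l ih =>
    intro hl hnd f
    rw [List.nodup_cons] at hnd
    have hl' : ∀ s ∈ l, s < 72 ∧ h ≤ ht s := fun s hs => hl s (List.mem_cons_of_mem a hs)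
    have ha := hl a List.mem_cons_self
    rw [show prodR (a :: l) f = xg hC a (f a) * prodR l f by simp [prodR],
      coo_mul hh hr hrh (xg_mem_Ht ha.1 ha.2 _) (prodR_mem hl' f), coo_xg hr ha.1, ih hl' hnd.2 f]
    by_cases e : r = a
    · subst e; simp [hnd.1]
    · simp [e]

/-- An element whose coordinates of one height vanish is of the next height. -/
theorem mem_next {h : ℤ} (hh : 1 ≤ h) {g : GL chevE6.Idx K} (hg : g ∈ Ht K h)
    (h0 : ∀ r < 72, ht r = h → coo g r = 0) : g ∈ Ht K (h + 1) := by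
  obtain ⟨f, u, hu, rfl⟩ := Ht_form hh hg
  have hf : prodR (lev h) f = prodR (lev h) (0 : ℕ → K) := by
    rw [prodR, prodR]
    congr 1
    refine List.map_congr_left fun r hr => ?_
    obtain ⟨hr72, hrh⟩ := mem_lev.1 hr
    have e := h0 r hr72 hrh
    rw [coo_mul hh hr72 hrh (prodR_mem lev_le f) (Ht_anti (by omega) hu), coo_high hh hr72 hrh hu,
      add_zero, coo_prodR hh hrh hr72 (lev_le (h := h)) (List.nodup_range.filter _), if_pos hr] at e
    rw [e, Pi.zero_apply]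
  rwa [hf, prodR_zero, one_mul]

/-! ### Fixed elements -/

variable {q : ℕ} {hK : Fintype.card K = q ^ 2} (X : Setup (K := K) hK)
include X

theorem img_coo {h : ℤ} (hh : 1 ≤ h) {g : GL chevE6.Idx K} (hg : g ∈ Ht K h) :
    ∀ g', Img X.S g g' → g' ∈ Ht K h ∧ ∀ r < 72, ht r = h → coo g' (rho r) = X.S.act r (coo g r) := by
  refine TwistMult.closure_ind (p := fun g => ∀ g', Img X.S g g' → g' ∈ Ht K h ∧
    ∀ r < 72, ht r = h → coo g' (rho r) = X.S.act r (coo g r)) ?_ ?_ ?_ hg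
  · rintro _ ⟨s, t, hs, hsh, rfl⟩ g' hg'
    obtain rfl := (img_root X hs t).unique hg'
    obtain ⟨hs', hss, -, -⟩ := rho_ok s hs
    refine ⟨xg_mem_Ht hs' (by rw [(ht_ok s hs).2.1]; exact hsh) _, fun r hr _ => ?_⟩
    rw [coo_xg (rho_ok r hr).1 hs', coo_xg hr hs]
    by_cases e : r = s
    · simp [e]
    · rw [if_neg, if_neg e, act_zero X.S (lt_n hr)]
      exact fun e' => e (by rw [← (rho_ok r hr).2.1, e', hss])
  · intro g' hg'
    obtain rfl := Img.one.unique hg'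
    exact ⟨one_mem _, fun r hr _ => by rw [coo_one, coo_one, act_zero X.S (lt_n hr)]⟩
  · intro a b ha hb iha ihb g' hg'
    obtain ⟨a', ha'⟩ := Img.exists_of_mem (S := X.S) (g := a) (by
      have hle : Ht K h ≤ chevE6.group K := (Subgroup.closure_le _).2 fun x ⟨r, t, hr, _, e⟩ =>
        e ▸ xg_mem_group hC (lt_n hr) t
      exact hle ha)
    obtain ⟨b', hb'⟩ := Img.exists_of_mem (S := X.S) (g := b) (by
      have hle : Ht K h ≤ chevE6.group K := (Subgroup.closure_le _).2 fun x ⟨r, t, hr, _, e⟩ =>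
        e ▸ xg_mem_group hC (lt_n hr) t
      exact hle hb)
    obtain rfl := (ha'.mul hb').unique hg'
    obtain ⟨ha1, ha2⟩ := iha a' ha'
    obtain ⟨hb1, hb2⟩ := ihb b' hb'
    refine ⟨mul_mem ha1 hb1, fun r hr hrh => ?_⟩
    rw [coo_mul hh hr hrh ha hb, act_add X.S (lt_n hr), ← ha2 r hr hrh, ← hb2 r hr hrh,
      coo_mul hh (rho_ok r hr).1 ((ht_ok r hr).2.1.trans hrh) ha1 hb1]

theorem exists_trace_one (hq : IsPrimePow q) : ∃ e : K, e + e ^ q = 1 := by
  classical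
  obtain ⟨θ, hθ⟩ := E6.exists_powq hq two_ne_zero hK
  obtain ⟨P, hP⟩ : ∃ P : Polynomial K, P = Polynomial.X ^ q + Polynomial.X := ⟨_, rfl⟩
  have hq2 := hq.two_le
  have hP0 : P ≠ 0 := fun h => by
    have h1 := congrArg (Polynomial.coeff · 1) h
    simp [hP, Polynomial.coeff_X_pow, show (1 : ℕ) ≠ q by omega] at h1
  obtain ⟨y, hy⟩ : ∃ y : K, y + y ^ q ≠ 0 := by
    by_contra hcon
    push Not at hcon
    have h1 : Finset.univ ⊆ P.roots.toFinset := fun y _ => by
      rw [Multiset.mem_toFinset, Polynomial.mem_roots', Polynomial.IsRoot.def]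
      exact ⟨hP0, by simp [hP, add_comm, hcon y]⟩
    have h2 := Finset.card_le_card h1
    have h3 := P.roots.toFinset_card_le
    have h4 := P.card_roots'
    have h5 : P.natDegree ≤ q := by
      rw [hP]; compute_degree <;> omega
    rw [Finset.card_univ, hK] at h2
    have h7 : 2 * q ≤ q ^ 2 := by nlinarith
    omega
  refine ⟨y / (y + y ^ q), ?_⟩
  have hfix : (y + y ^ q) ^ q = y + y ^ q := by
    rw [← hθ, map_add, hθ, hθ, qq_pow hK, add_comm]
  rw [div_pow, hfix, ← add_div, div_self hy]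

omit X in
theorem oel_Ht (X : Setup (K := K) hK) {h : ℤ} {r : ℕ} (hr : r < 72) (hrh : h ≤ ht r) (t : K) :
    oel X r t ∈ Ht K h := by
  rw [oel]
  split
  · exact xg_mem_Ht hr hrh _
  · exact mul_mem (xg_mem_Ht hr hrh _) (xg_mem_Ht (rho_ok r hr).1 (by rw [(ht_ok r hr).2.1]; exact hrh) _)

theorem coo_oel {h : ℤ} (hh : 1 ≤ h) {r s : ℕ} (hr : r < 72) (hs : s < 72) (hrh : ht r = h)
    (hsh : h ≤ ht s) (t : K) : coo (oel X s t) r =
      if rho s = s then (if r = s then t + X.S.act s t else 0)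
      else (if r = s then t else 0) + if r = rho s then X.S.act s t else 0 := by
  have hs' := (rho_ok s hs).1
  rw [oel]
  split
  · exact coo_xg hr hs _
  · rw [coo_mul hh hr hrh (xg_mem_Ht hs hsh _) (xg_mem_Ht hs' (by rw [(ht_ok s hs).2.1]; exact hsh) _),
      coo_xg hr hs, coo_xg hr hs']

/-- A layer element of the group. -/
noncomputable def el (k : ℕ) (t : K) : twistedE6 K q :=
  if hk : k < 24 then ⟨oel X (lay k) t, oel_mem X (lay_ok k hk).1 (lay_ok k hk).2.2.2.1 t⟩ else 1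

theorem coe_el {k : ℕ} (hk : k < 24) (t : K) : (el X k t : GL chevE6.Idx K) = oel X (lay k) t := by
  rw [el, dif_pos hk]

theorem el_prod {h : ℤ} (hh : 1 ≤ h) (s : ℕ → K) :
    ∀ {l : List ℕ}, (∀ k ∈ l, k < 24 ∧ h ≤ ht (lay k)) →
      ((l.map fun k => el X k (s k)).prod : twistedE6 K q).1 ∈ Ht K h ∧
      ∀ r < 72, ht r = h → coo ((l.map fun k => el X k (s k)).prod : twistedE6 K q).1 r =
        (l.map fun k => coo (oel X (lay k) (s k)) r).sum := by
  intro l
  induction l with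
  | nil => intro _; exact ⟨one_mem _, fun r _ _ => coo_one r⟩
  | cons a l ih =>
    intro hl
    obtain ⟨ha, hah⟩ := hl a List.mem_cons_self
    obtain ⟨h1, h2⟩ := ih fun k hk => hl k (List.mem_cons_of_mem a hk)
    have ha' : oel X (lay a) (s a) ∈ Ht K h := oel_Ht X (lay_ok a ha).1 hah _
    rw [List.map_cons, List.prod_cons, Subgroup.coe_mul, coe_el X ha]
    refine ⟨mul_mem ha' h1, fun r hr hrh => ?_⟩
    rw [coo_mul hh hr hrh ha' h1, h2 r hr hrh, List.map_cons, List.sum_cons]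

theorem mem_layN (hq : IsPrimePow q) : ∀ d : ℕ, ∀ h : ℤ, 1 ≤ h → 12 ≤ h + d → ∀ k : ℕ,
    (∀ l < 24, h ≤ ht (lay l) → k ≤ l) → ∀ g : twistedE6 K q, (g : GL chevE6.Idx K) ∈ Ht K h →
      g ∈ layN (el X) 24 k := by
  obtain ⟨e, he⟩ := exists_trace_one X hq
  intro d
  induction d with
  | zero =>
    intro h _ h12 k _ g hg
    rw [Ht_top (by omega), Subgroup.mem_bot] at hg
    rw [show g = 1 from Subtype.ext hg]
    exact one_mem _
  | succ d ih =>
    intro h hh h12 k hk g hg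
    have hfix : Img X.S (g : GL chevE6.Idx K) g := (mem_Fx X.S).1 (X.gen.le g.2)
    have hf := (img_coo X hh hg _ hfix).2
    let s : ℕ → K := fun l => if rho (lay l) = lay l then coo g.1 (lay l) * e else coo g.1 (lay l)
    let L : List ℕ := (List.range 24).filter fun l => ht (lay l) == h
    have hL : ∀ l ∈ L, l < 24 ∧ ht (lay l) = h := fun l hl => by simpa [L] using hl
    obtain ⟨P, hP⟩ : ∃ P : twistedE6 K q, P = (L.map fun l => el X l (s l)).prod := ⟨_, rfl⟩
    obtain ⟨hPm, hPc⟩ := el_prod X hh s (l := L) fun l hl => ⟨(hL l hl).1, (hL l hl).2.ge⟩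
    rw [← hP] at hPm hPc
    have hPN : P ∈ layN (el X) 24 k := hP ▸ list_prod_mem fun x hx => by
      obtain ⟨l, hl, rfl⟩ := List.mem_map.1 hx
      exact Subgroup.subset_closure ⟨l, hk l (hL l hl).1 (hL l hl).2.ge, (hL l hl).1, _, rfl⟩
    have hrest : ((P⁻¹ * g : twistedE6 K q) : GL chevE6.Idx K) ∈ Ht K (h + 1) := by
      rw [Subgroup.coe_mul, Subgroup.coe_inv]
      refine mem_next hh (mul_mem (inv_mem hPm) hg) fun r hr hrh => ?_
      rw [coo_mul hh hr hrh (inv_mem hPm) hg, coo_inv hh hr hrh hPm, neg_add_eq_zero, hPc r hr hrh]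
      obtain ⟨l, hl, hrl⟩ := lay_cover r hr (by omega)
      obtain ⟨hlr, -, -, -, huniq⟩ := lay_ok l hl
      have hlh : ht (lay l) = h := by
        rcases hrl with rfl | rfl
        · exact hrh
        · rw [← (ht_ok _ hlr).2.1]; exact hrh
      have hlL : l ∈ L := by simp [L, hl, hlh]
      rw [List.sum_map_eq_nsmul_single l]
      · rw [List.count_eq_one_of_mem (List.nodup_range.filter _) hlL, one_smul,
          coo_oel X hh hr hlr hrh hlh.ge]
        simp only [s]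
        by_cases hρ : rho (lay l) = lay l
        · rw [if_pos hρ, if_pos hρ]
          obtain rfl : r = lay l := hrl.elim id (fun e => e.trans hρ)
          have hfl := hf _ hr hrh
          rw [hρ] at hfl
          rw [if_pos rfl, mul_comm (coo g.1 (lay l)) e, act_pow X hr, ← hfl, ← add_mul, he, one_mul]
        · rw [if_neg hρ, if_neg hρ]
          rcases hrl with rfl | rfl
          · rw [if_pos rfl, if_neg (fun e => hρ e.symm), add_zero]
          · rw [if_neg hρ, if_pos rfl, zero_add, hf _ hlr hlh]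
      · intro l' hne hl'
        obtain ⟨hl'24, hl'h⟩ := hL l' hl'
        have hl'r := (lay_ok l' hl'24).1
        rw [coo_oel X hh hr hl'r hrh hl'h.ge]
        have hne1 : r ≠ lay l' := by
          rintro rfl
          exact hne (huniq l' hl'24 hrl)
        have hne2 : r ≠ rho (lay l') := by
          rintro rfl
          refine hne (huniq l' hl'24 ?_)
          rcases hrl with e | e
          · exact Or.inr (by rw [← e, (rho_ok _ hl'r).2.1])
          · exact Or.inl (by rw [← (rho_ok _ hl'r).2.1, e, (rho_ok _ hlr).2.1])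
        simp [hne1, hne2]
    have := mul_mem hPN (ih (h + 1) (by omega) (by omega) k (fun l hl hle => hk l hl (by omega)) _ hrest)
    rwa [mul_inv_cancel_left] at this

/-- The series. -/
noncomputable def series (hq : IsPrimePow q) (h3 : 3 ≤ q) : Series (twistedE6 K q) K where
  n := 24
  x := el X
  add k hk s t := by
    rw [show el X k (s + t) = el X k s * el X k t from Subtype.ext (by
      rw [Subgroup.coe_mul, coe_el X hk, coe_el X hk, coe_el X hk,
        oel_add X (lay_ok k hk).1 (lay_ok k hk).2.2.2.1]), mul_inv_cancel]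
    exact one_mem _
  comm i hi j hj s t := by
    obtain ⟨hir, hi0, himono, -, -⟩ := lay_ok i hi
    obtain ⟨hjr, hj0, hjmono, -, -⟩ := lay_ok j hj
    refine mem_layN X hq 12 (ht (lay i) + ht (lay j)) (by omega) (by omega) _ (fun l hl hle => ?_) _ ?_
    · have h1 : ¬ l ≤ i := fun h => by have := (lay_ok l hl).2.2.1 i hi h; omega
      have h2 : ¬ l ≤ j := fun h => by have := (lay_ok l hl).2.2.1 j hj h; omega
      omega
    · rw [← Subgroup.subtype_apply, map_commutatorElement]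
      exact Ht_comm (by omega) (by omega)
        (by rw [Subgroup.subtype_apply, coe_el X hi]; exact oel_Ht X hir le_rfl _)
        (by rw [Subgroup.subtype_apply, coe_el X hj]; exact oel_Ht X hjr le_rfl _)
  T := Par6 q K
  tg := tg X
  tg_comm a b := by
    refine Subtype.ext ?_
    show tor chevE6 a.1 * tor chevE6 b.1 = tor chevE6 b.1 * tor chevE6 a.1
    rw [tor_mul, tor_mul, mul_comm]
  μ k := chr (lay k)
  conj k hk c s := Subtype.ext (by
    rw [Subgroup.coe_mul, Subgroup.coe_mul, Subgroup.coe_inv, coe_el X hk, coe_el X hk]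
    exact oel_conj X c (lay_ok k hk).1 s)
  moves k hk := exists_move hK h3 hk

theorem series_zero (hq : IsPrimePow q) (h3 : 3 ≤ q) :
    (series X hq h3).N 0 = UK chevE6 (twistedE6 K q) := by
  show layN (el X) 24 0 = _
  refine le_antisymm ((Subgroup.closure_le _).2 ?_) fun g hg => ?_
  · rintro _ ⟨i, -, hi, s, rfl⟩
    rw [SetLike.mem_coe, Subgroup.mem_subgroupOf, coe_el X hi, ← Ht_one]
    exact oel_Ht X (lay_ok i hi).1 (lay_ok i hi).2.1 s
  · refine mem_layN X hq 12 1 le_rfl (by omega) 0 (fun l _ _ => Nat.zero_le l) g ?_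
    rw [Ht_one]
    exact Subgroup.mem_subgroupOf.1 hg

/-- The orbit element of any root in the group. -/
theorem exists_kill {k : ℕ} (hk : k < 24) (hρ : rho (lay k) = lay k) :
    ∃ a b : ℕ, ∃ (ha : a < 72) (hb : b < 72) (hca : rho a ≠ a → noComm Data.E6.tab a (rho a) = true)
      (hcb : rho b ≠ b → noComm Data.E6.tab b (rho b) = true),
      (∀ u t, Commute (oel X a u) (oel X (lay k) t)) ∧ (∀ u t, Commute (oel X b u) (oel X (lay k) t)) ∧
      sep (lay k) a = true ∧ sep (lay k) b = true ∧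
      ∀ t, ∃ u v, oel X (lay k) t = ⁅oel X a u, oel X b v⁆ := by
  have h := kill_ok k hk hρ
  obtain ⟨⟨a, b⟩, hab⟩ : ∃ p, p = killL.getD k (0, 0) := ⟨_, rfl⟩
  rw [← hab] at h
  have hr := (lay_ok k hk).1
  obtain ⟨r, hrk⟩ : ∃ r, r = lay k := ⟨_, rfl⟩
  rw [← hrk] at h hρ hr ⊢
  simp only [killChk, Bool.and_eq_true, Bool.not_eq_true', beq_eq_false_iff_ne, Nat.blt_eq] at h
  obtain ⟨⟨⟨⟨⟨⟨⟨⟨⟨⟨⟨⟨⟨⟨⟨⟨ha, hb⟩, hane⟩, hbne⟩, car⟩, car'⟩, cbr⟩, cbr'⟩, cab'⟩, ca'b⟩, caa⟩, cbb⟩,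
    hsa⟩, hsb⟩, hnab⟩, hnna⟩, hterm⟩ := h
  refine ⟨a, b, ha, hb, fun _ => caa, fun _ => cbb, fun u t => oel_commute X ha hr car car' hρ u t,
    fun u t => oel_commute X hb hr cbr cbr' hρ u t, hsa, hsb, fun t => ?_⟩
  have ha' := (rho_ok a ha).1
  have hb' := (rho_ok b hb).1
  obtain ⟨c, hterms, hc1⟩ : ∃ c : ℤ, chevE6.commTerms a b = [(r, c, 1, 1)] ∧ (c = 1 ∨ c = -1) := by
    rw [← commOf_eq hC (lt_n ha) (lt_n hb)]
    split at hterm
    · next c e =>
      simp only [Bool.and_eq_true, Bool.or_eq_true, beq_iff_eq] at hterm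
      obtain ⟨⟨⟨h1, h2⟩, h3⟩, h4⟩ := hterm
      refine ⟨c.2.1, ?_, h2⟩
      rw [e]
      obtain ⟨c1, c2, c3, c4⟩ := c
      simp only at h1 h3 h4
      subst h1; subst h3; subst h4
      rfl
    · exact absurd hterm Bool.false_ne_true
  rw [hC.neg_eq (lt_n ha)] at hnna
  obtain ⟨A, A', B, B', hA, hA', hB, hB'⟩ : ∃ A A' B B' : K → GL chevE6.Idx K,
      (∀ u, A u = xg hC a u) ∧ (∀ u, A' u = xg hC (rho a) u) ∧ (∀ u, B u = xg hC b u) ∧
        ∀ u, B' u = xg hC (rho b) u :=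
    ⟨_, _, _, _, fun _ => rfl, fun _ => rfl, fun _ => rfl, fun _ => rfl⟩
  have hcr : ∀ u v, Commute (A u) (xg hC r v) := fun u v => hA u ▸ commute_of_chk ha hr car u v
  have hcr' : ∀ u v, Commute (B u) (xg hC r v) := fun u v => hB u ▸ commute_of_chk hb hr cbr u v
  have key : ∀ u, ⁅A u, B 1⁆ = xg hC r ((c : K) * u) := fun u => by
    have e := xg_comm hC (lt_n ha) (lt_n hb) hnab hnna u 1
    rw [ChevalleyDatum.commWord, hterms, List.map_singleton, List.map_singleton, List.prod_singleton,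
      ← hA, ← hB] at e
    simp only [pow_one, mul_one] at e
    have e2 : B 1 * A u * (xg hC r ((c : K) * -u))⁻¹ = A u * B 1 := by rw [e, mul_inv_cancel_right]
    have hc2 := ((hcr' 1 ((c : K) * u)).mul_left (hcr u ((c : K) * u))).eq
    rw [xg_inv hC, show -((c : K) * -u) = (c : K) * u by ring] at e2
    rw [commutatorElement_def, ← e2, hc2]
    group
  obtain ⟨c', hc'⟩ : ∃ c', c' = (c : K) := ⟨_, rfl⟩
  have hc0 : c' ≠ 0 := by rcases hc1 with rfl | rfl <;> simp [hc']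
  refine ⟨c'⁻¹ * t, 1, ?_⟩
  have key1 : ⁅A (c'⁻¹ * t), B 1⁆ = xg hC r t := by rw [key, hc', mul_inv_cancel_left₀ (hc' ▸ hc0)]
  generalize c'⁻¹ * t = u at key1 ⊢
  have key2 : ⁅A' (X.S.act a u), B' (X.S.act b 1)⁆ = xg hC r (X.S.act r t) := by
    have i1 : Img X.S (A u) (A' (X.S.act a u)) := by rw [hA, hA']; exact img_root X ha u
    have i2 : Img X.S (B 1) (B' (X.S.act b 1)) := by rw [hB, hB']; exact img_root X hb 1
    have i3 := ((i1.mul i2).mul i1.inv).mul i2.inv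
    rw [← commutatorElement_def, ← commutatorElement_def, key1] at i3
    have i4 := img_root X hr t
    rw [hρ] at i4
    exact i3.unique i4
  have e1 : oel X a u = A u * A' (X.S.act a u) := by rw [oel, if_neg hane, hA, hA']
  have e2 : oel X b 1 = B 1 * B' (X.S.act b 1) := by rw [oel, if_neg hbne, hB, hB']
  have e3 : oel X r t = xg hC r t * xg hC r (X.S.act r t) := by rw [oel, if_pos hρ, xg_add hC]
  rw [e1, e2, e3, ← key1, ← key2]
  have c1 : Commute (A' (X.S.act a u)) (B 1) := by rw [hA', hB]; exact commute_of_chk ha' hb ca'b _ _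
  have c2 : Commute (A u) (B' (X.S.act b 1)) := by rw [hA, hB']; exact commute_of_chk ha hb' cab' _ _
  have c3 : Commute (A u) ⁅A' (X.S.act a u), B' (X.S.act b 1)⁆ := key2 ▸ hcr _ _
  have c4 : Commute (B 1) ⁅A' (X.S.act a u), B' (X.S.act b 1)⁆ := key2 ▸ hcr' _ _
  generalize A u = x at *
  generalize A' (X.S.act a u) = x' at *
  generalize B 1 = y at *
  generalize B' (X.S.act b 1) = y' at *
  calc ⁅x, y⁆ * ⁅x', y'⁆ = x * y * x⁻¹ * y⁻¹ * ⁅x', y'⁆ := by rw [commutatorElement_def x y]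
    _ = x * y * x⁻¹ * (⁅x', y'⁆ * y⁻¹) := by rw [← (c4.inv_left).eq]; group
    _ = x * y * ⁅x', y'⁆ * x⁻¹ * y⁻¹ := by
      rw [← mul_assoc (x * y * x⁻¹), mul_assoc (x * y) x⁻¹, (c3.inv_left).eq, ← mul_assoc]
    _ = x * (y * x') * y' * x'⁻¹ * (x * y')⁻¹ * y⁻¹ := by
      rw [commutatorElement_def]; group
    _ = x * (x' * y) * y' * (x'⁻¹ * x⁻¹) * (y'⁻¹ * y⁻¹) := by rw [← c1.eq, c2.eq]; group
    _ = ⁅x * x', y * y'⁆ := by
      rw [commutatorElement_def, mul_inv_rev, mul_inv_rev]; group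

end Cfsg.Agent.TwistMult.E6
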