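import Cfsg.Agent.Lib.TwistMult.OrthGood
import Cfsg.Agent.Lib.TwistMult.E6Elts
import Cfsg.Agent.Lib.Chevalley.Twist.AutE6
import Cfsg.Agent.Lib.LieLocalChar.TwistExc

/-!
The kernel of a perfect central extension of a twisted group of type E6 of order prime to the
characteristic has order dividing the greatest common divisor of three and q + 1.
-/

set_option autoImplicit false
set_option linter.unusedSectionVars false

open scoped Matrix

namespace Cfsg.Agent.TwistMult.E6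

open Cfsg.Lie Cfsg.Agent.Chevalley Cfsg.Agent.Chevalley.Table Cfsg.Agent.Chevalley.Cert
  Cfsg.Agent.Chevalley.Group Cfsg.Agent.Chevalley.Borel Cfsg.Agent.Chevalley.Twist
  Cfsg.Agent.Chevalley.Twist.E6 Cfsg.Agent.Chevalley.WeylEnum

theorem braid_ok : ∀ a < 4, ∀ b < 4, a ≠ b →
    (∃ k < 2, WeylGroup.wordOrdChk Data.E6.tab (Js.getD a [] ++ Js.getD b []) (2 * (k + 1)) = true ∧
      ∀ i ∈ Js.getD b [], ∃ j ∈ Js.getD b [],
        applyW Data.E6.tab ((List.replicate k (Js.getD a [] ++ Js.getD b [])).flatten ++ Js.getD a [])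
          (Data.E6.tab.simple i) = Data.E6.tab.simple j) ∨
    (WeylGroup.wordOrdChk Data.E6.tab (Js.getD a [] ++ Js.getD b []) 3 = true ∧
      ∀ i ∈ Js.getD a [], ∃ j ∈ Js.getD b [],
        applyW Data.E6.tab (Js.getD a [] ++ Js.getD b []) (Data.E6.tab.simple i) = Data.E6.tab.simple j) := by
  decide +kernel

/-- A neighbour of an orbit and the member of the orbit next to it. -/
def nbr (a : ℕ) : ℕ × ℕ := [(3, 1), (1, 3), (5, 4), (4, 5)].getD a (0, 0)

theorem nbr_ok : ∀ a < 4, (nbr a).1 < 6 ∧ (nbr a).2 ∈ Js.getD a [] ∧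
    ∀ i < 6, i ∈ Js.getD a [] → chevE6.cartan i (chevE6.simple (nbr a).1) =
      if i = (nbr a).2 then -1 else 0 := by decide +kernel

theorem simple_lt72 : ∀ i < 6, chevE6.simple i < 72 := by decide +kernel

variable {K : Type*} [Field K]

theorem torChar_congr {c c' : ℕ → Kˣ} (h : tor chevE6 c = tor chevE6 c') {r : ℕ} (hr : r < chevE6.nroots) :
    torChar chevE6 c r = torChar chevE6 c' r := by
  have h1 := congrArg (fun g : GL chevE6.Idx K =>
    (g : Matrix chevE6.Idx chevE6.Idx K) (Sum.inr ⟨r, hr⟩) (Sum.inr ⟨r, hr⟩)) h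
  simp only [tor, coe_dg, Root.dMat, Matrix.diagonal_apply_eq, Sum.elim_inr] at h1
  exact Units.ext h1

variable [Fintype K] {q : ℕ} {hK : Fintype.card K = q ^ 2} (X : Setup (K := K) hK)
include X

theorem coe_xh {E : Type*} [Field E] {a : ℕ} (ha : a < X.O.k) (P : Par X.S (X.O.J a) E) (t : Eˣ) :
    ∃ d : ℕ → Kˣ, (∀ i, d i = if i ∈ X.O.J a then Units.map (P.em i).toMonoidHom t else 1) ∧
      (xh X.O X.gen X.π_eq (hOr X) ha P (t : E) : GL chevE6.Idx K) = tor chevE6 d := by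
  classical
  obtain ⟨d, hd, e⟩ := onr_tor (hC := hC) (X.O.J a) (orth_nodup (hOr X a ha)) (X.O.J_lt a ha)
    fun i => Units.map (P.em i).toMonoidHom t
  rw [hg_prod_eq (hOr X a ha) _ _ (orth_nodup (hOr X a ha)) fun _ h => h] at e
  refine ⟨d, hd, ?_⟩
  rw [← e]
  simp only [xh, Subgroup.coe_mul, coe_xw, map_neg, map_one]
  rfl

/-- The torus element of an orbit determines its parameter. -/
theorem xh_inj {E : Type*} [Field E] {a : ℕ} (ha : a < X.O.k) (P : Par X.S (X.O.J a) E) {t t' : Eˣ}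
    (h : xh X.O X.gen X.π_eq (hOr X) ha P (t : E) = xh X.O X.gen X.π_eq (hOr X) ha P (t' : E)) : t = t' := by
  obtain ⟨d, hd, e⟩ := coe_xh X ha P t
  obtain ⟨d', hd', e'⟩ := coe_xh X ha P t'
  obtain ⟨hj, hl, hc⟩ := nbr_ok a (X.k_eq ▸ ha)
  rw [← X.J_eq] at hl hc
  have h1 := torChar_congr ((e.symm.trans (congrArg Subtype.val h)).trans e')
    (lt_n (simple_lt72 _ hj))
  have hval : ∀ (d : ℕ → Kˣ) (t : Eˣ), (∀ i, d i = if i ∈ X.O.J a then Units.map (P.em i).toMonoidHom t else 1) →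
      torChar chevE6 d (chevE6.simple (nbr a).1) = (Units.map (P.em (nbr a).2).toMonoidHom t)⁻¹ := by
    intro d t hd
    have hlt : (nbr a).2 < 6 := (X.O.J_lt a ha _ hl).trans_eq (by decide)
    rw [torChar, show chevE6.rank = 6 by decide,
      Finset.prod_eq_single_of_mem _ (Finset.mem_range.2 hlt) fun i hi hne => ?_]
    · rw [hd, if_pos hl, hc _ hlt hl, if_pos rfl, zpow_neg_one]
    · rw [hd]
      split
      · next hm => rw [hc i (Finset.mem_range.1 hi) hm, if_neg hne, zpow_zero]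
      · rw [one_zpow]
  rw [hval d t hd, hval d' t' hd', inv_inj] at h1
  exact Units.ext ((P.em _).injective (congrArg Units.val h1))

omit X in
theorem card_E₀ (hK : Fintype.card K = q ^ 2) (hq : IsPrimePow q) (θ : K →+* K) (hθ : ∀ t, θ t = t ^ q) :
    Nat.card (Twist.E6.E₀ θ) = q := by
  rw [← card_powfix (K := K) (n := 2) hq.two_le hK]
  exact Nat.card_congr (Equiv.subtypeEquivRight fun t => by
    show θ t = t ↔ _
    rw [hθ])

/-- The fixed unipotent group has prime power order. -/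
theorem isPGroup_U {p : ℕ} [Fact p.Prime] {f : ℕ} (hqp : q = p ^ f) (hq : IsPrimePow q) :
    IsPGroup p (UK chevE6 (twistedE6 K q)) := by
  refine IsPGroup.of_card (n := f * 36) ?_
  rw [pow_mul, ← hqp, ← Twist.E6.card_U X hq,
    ← Nat.card_congr (Subgroup.subgroupOfEquivOfLe (inf_le_right : chevE6.posUnipotent K ⊓
      twistedE6 K q ≤ twistedE6 K q)).toEquiv, Subgroup.inf_subgroupOf_right]

/-- The orders of the rank one tori. -/
def cT (q a : ℕ) : ℕ := [q - 1, q - 1, q ^ 2 - 1, q ^ 2 - 1].getD a 0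

set_option maxHeartbeats 1600000 in
/-- The order of the kernel of a perfect extension of order prime to the characteristic. -/
theorem card_ker_dvd {E : Type*} [Group E] [Finite E] {π : E →* twistedE6 K q} {p : ℕ} [Fact p.Prime]
    [CharP K p] (hq : IsPrimePow q) (h : Ctx p π) (hperf : commutator E = ⊤) :
    Nat.card π.ker ∣ Nat.gcd 3 (q + 1) := by
  classical
  haveI : Finite (twistedE6 K q) := Finite.of_injective _ Subtype.val_injective
  obtain ⟨f, -, hqp⟩ := SylowRigid.TwistedExc.exists_pow (p := p) hq two_ne_zero hK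
  have hU := isPGroup_U X hqp hq
  obtain ⟨θ, hθ⟩ := exists_powq hq two_ne_zero hK
  haveI : CharP (Twist.E6.E₀ θ) p := RingHom.charP (Twist.E6.E₀ θ).subtype Subtype.val_injective p
  haveI : Fintype (Twist.E6.E₀ θ) := Fintype.ofFinite _
  obtain ⟨P₀, h₀⟩ := exists_par_single X θ hθ (show 0 < 4 by decide) (i := 1) rfl (by decide)
  obtain ⟨P₁, h₁⟩ := exists_par_single X θ hθ (show 1 < 4 by decide) (i := 3) rfl (by decide)
  obtain ⟨P₂, h₂⟩ := exists_par_pair X θ hθ (show 2 < 4 by decide) (i := 2) (j := 4) rfl (by decide)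
    (by decide) (by decide)
  obtain ⟨P₃, h₃⟩ := exists_par_pair X θ hθ (show 3 < 4 by decide) (i := 0) (j := 5) rfl (by decide)
    (by decide) (by decide)
  let P := Orth.pair X.O X.gen X.π_eq (hOr X)
  let Tg : Subgroup (twistedE6 K q) := P.B ⊓ P.N
  have hTH : ∀ g ∈ Tg, (g : GL chevE6.Idx K) ∈ chevE6.diagonalSubgroup K := fun g hg =>
    mem_H_of_inf hC ((mem_bnB X.O X.gen X.π_eq (hOr X)).1 (Subgroup.mem_inf.1 hg).1)
      (Subgroup.mem_inf.1 hg).2.1
  have hHT : ∀ g : twistedE6 K q, (g : GL chevE6.Idx K) ∈ chevE6.diagonalSubgroup K → g ∈ Tg :=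
    fun g hg => Subgroup.mem_inf.2
      ⟨(mem_bnB X.O X.gen X.π_eq (hOr X)).2 (H_le_B hg), ⟨Subgroup.mem_sup_left hg, g.2⟩⟩
  let Ls : (a : ℕ) → a < X.O.k → Subgroup (twistedE6 K q) := fun _ ha =>
    Xs X.O X.π_eq (hOr X) (twistedE6 K q) false ha ⊔ Xs X.O X.π_eq (hOr X) (twistedE6 K q) true ha
  -- one orbit
  have orbit : ∀ {E' : Type _} [Field E'] [Fintype E'] [CharP E' p] {a : ℕ} (ha : a < X.O.k)
      (Q : Par X.S (X.O.J a) E'), Good p π (Ls a ha) ∧
      Nat.card (Tg ⊓ Ls a ha : Subgroup (twistedE6 K q)) = Fintype.card E' - 1 ∧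
      ∀ t : E'ˣ, xh X.O X.gen X.π_eq (hOr X) ha Q (t : E') ∈ Tg ⊓ Ls a ha := by
    intro E' _ _ _ a ha Q
    obtain ⟨φ, hx, hy⟩ := Orth.exists_phi X.O X.gen X.π_eq (hOr X) ha Q
    have hinj : ∀ t : E', t ≠ 0 → xh X.O X.gen X.π_eq (hOr X) ha Q t = 1 → t = 1 := fun t ht e => by
      have h1 : xh X.O X.gen X.π_eq (hOr X) ha Q ((1 : E'ˣ) : E') = 1 := by
        obtain ⟨d, hd, e1⟩ := coe_xh X ha Q 1
        refine Subtype.ext (e1.trans ?_)
        rw [show d = 1 from funext fun i => by rw [hd i, map_one, ite_self]; rfl, tor_one,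
          OneMemClass.coe_one]
      exact congrArg Units.val (xh_inj X ha Q (t := Units.mk0 t ht) (t' := 1) (by rw [Units.val_mk0, e, h1]))
    have hmem : ∀ t : E'ˣ, xh X.O X.gen X.π_eq (hOr X) ha Q (t : E') ∈ Tg ⊓ Ls a ha := fun t => by
      obtain ⟨d, -, e⟩ := coe_xh X ha Q t
      refine Subgroup.mem_inf.2 ⟨hHT _ (e ▸ tor_mem_H hC d), ?_⟩
      have hp : ∀ v, xp X.O X.gen X.π_eq (hOr X) ha Q v ∈ Ls a ha :=
        fun v => Subgroup.mem_sup_left ((mem_Xp_iff X.O X.gen X.π_eq (hOr X) ha Q).2 ⟨v, rfl⟩)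
      have hn : ∀ v, xn X.O X.gen X.π_eq (hOr X) ha Q v ∈ Ls a ha :=
        fun v => Subgroup.mem_sup_right ((mem_Xn_iff X.O X.gen X.π_eq (hOr X) ha Q).2 ⟨v, rfl⟩)
      exact mul_mem (mul_mem (mul_mem (hp _) (hn _)) (hp _)) (mul_mem (mul_mem (hp _) (hn _)) (hp _))
    refine ⟨Orth.good X.O X.gen X.π_eq (hOr X) ha Q hx hy h hU hinj, ?_, hmem⟩
    refine le_antisymm (Orth.card_tor_le X.O X.gen X.π_eq (hOr X) ha Q hx hy hTH) ?_
    calc Fintype.card E' - 1 = Nat.card E'ˣ := by rw [Nat.card_units, Nat.card_eq_fintype_card]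
      _ ≤ _ := Nat.card_le_card_of_injective (fun t => ⟨_, hmem t⟩) fun t t' e =>
        xh_inj X ha Q (congrArg Subtype.val e)
  have hq2 : Fintype.card (Twist.E6.E₀ θ) = q := by
    rw [← Nat.card_eq_fintype_card, card_E₀ hK hq θ hθ]
  obtain ⟨g0, c0, m0⟩ := orbit (lt4 X (show 0 < 4 by decide)) P₀
  obtain ⟨g1, c1, m1⟩ := orbit (lt4 X (show 1 < 4 by decide)) P₁
  obtain ⟨g2, c2, m2⟩ := orbit (lt4 X (show 2 < 4 by decide)) P₂
  obtain ⟨g3, c3, m3⟩ := orbit (lt4 X (show 3 < 4 by decide)) P₃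
  rw [hq2] at c0 c1
  rw [hK] at c2 c3
  have hall : ∀ a (ha : a < X.O.k), Good p π (Ls a ha) ∧
      Nat.card (Tg ⊓ Ls a ha : Subgroup (twistedE6 K q)) = cT q a := by
    intro a ha
    have ha' : a < 4 := X.k_eq ▸ ha
    interval_cases a
    exacts [⟨g0, c0⟩, ⟨g1, c1⟩, ⟨g2, c2⟩, ⟨g3, c3⟩]
  -- every torus element is a product
  have htor : Tg ≤ ⨆ s, Tg ⊓ Ls _ (Orth.idx_lt X.O X.gen X.π_eq (hOr X) s) := by
    intro g hg
    have hsup : ∀ a (ha : a < X.O.k), Tg ⊓ Ls a ha ≤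
        ⨆ s, Tg ⊓ Ls _ (Orth.idx_lt X.O X.gen X.π_eq (hOr X) s) := by
      intro a ha
      obtain ⟨s, hs⟩ := (Orth.idx_bij X.O X.gen X.π_eq (hOr X)).2 ⟨a, ha⟩
      obtain rfl : Orth.idx X.O X.gen X.π_eq (hOr X) s = a := congrArg Fin.val hs
      exact le_iSup (fun s => Tg ⊓ Ls _ (Orth.idx_lt X.O X.gen X.π_eq (hOr X) s)) s
    obtain ⟨c, hc⟩ := (mem_H_iff hC).1 (hTH g hg)
    obtain ⟨c', e, hfx⟩ := X.fix c (hc ▸ X.gen.le g.2)
    have hπn : ∀ i < 6, nodePi L i = np i := by decide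
    have hf : ∀ i < 6, (c' (np i) : K) = (c' i : K) ^ q := fun i hi => by
      have hi' : i < chevE6.rank := hi.trans_eq (by decide)
      have := hfx i hi'
      rw [X.hom_eq i hi, X.π_eq, hπn i hi] at this
      exact this
    have hfix : ∀ i < 6, np i = i → θ (c' i : K) = c' i := fun i hi e => by
      have := hf i hi; rw [e] at this; rw [hθ]; exact this.symm
    let u0 : (Twist.E6.E₀ θ)ˣ := Units.mk0 ⟨c' 1, hfix 1 (by decide) rfl⟩
      fun h => (c' 1).ne_zero (congrArg Subtype.val h)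
    let u1 : (Twist.E6.E₀ θ)ˣ := Units.mk0 ⟨c' 3, hfix 3 (by decide) rfl⟩
      fun h => (c' 3).ne_zero (congrArg Subtype.val h)
    obtain ⟨d0, hd0, e0⟩ := coe_xh X (lt4 X (show 0 < 4 by decide)) P₀ u0
    obtain ⟨d1, hd1, e1⟩ := coe_xh X (lt4 X (show 1 < 4 by decide)) P₁ u1
    obtain ⟨d2, hd2, e2⟩ := coe_xh X (lt4 X (show 2 < 4 by decide)) P₂ (c' 2)
    obtain ⟨d3, hd3, e3⟩ := coe_xh X (lt4 X (show 3 < 4 by decide)) P₃ (c' 0)
    simp only [X.J_eq] at hd0 hd1 hd2 hd3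
    have hprod : g = xh X.O X.gen X.π_eq (hOr X) (lt4 X (show 0 < 4 by decide)) P₀ (u0 : Twist.E6.E₀ θ) *
        xh X.O X.gen X.π_eq (hOr X) (lt4 X (show 1 < 4 by decide)) P₁ (u1 : Twist.E6.E₀ θ) *
        xh X.O X.gen X.π_eq (hOr X) (lt4 X (show 2 < 4 by decide)) P₂ (c' 2 : K) *
        xh X.O X.gen X.π_eq (hOr X) (lt4 X (show 3 < 4 by decide)) P₃ (c' 0 : K) := by
      refine Subtype.ext ?_
      rw [Subgroup.coe_mul, Subgroup.coe_mul, Subgroup.coe_mul, hc, ← e, e0, e1, e2, e3, tor_mul, tor_mul,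
        tor_mul]
      refine dg_congr fun s _ => Finset.prod_congr rfl fun i hi => ?_
      have hi : i < 6 := (Finset.mem_range.1 hi).trans_eq (by decide)
      congr 1
      refine Units.ext ?_
      have hf0 := hf 0 (by decide)
      have hf2 := hf 2 (by decide)
      simp only [np, List.getD_cons_zero, List.getD_cons_succ] at hf0 hf2
      simp only [Pi.mul_apply, hd0, hd1, hd2, hd3]
      interval_cases i <;> simp [h₀, h₁, h₂, h₃, u0, u1, hθ, hf0, hf2]
    rw [hprod]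
    exact mul_mem (mul_mem (mul_mem (hsup _ _ (m0 u0)) (hsup _ _ (m1 u1))) (hsup _ _ (m2 (c' 2))))
      (hsup _ _ (m3 (c' 0)))
  have hbr : ∀ a < X.O.k, ∀ b < X.O.k, a ≠ b → Orth.BraidChk Data.E6.tab (X.O.J a) (X.O.J b) := by
    intro a ha b hb hab
    rw [X.J_eq, X.J_eq]
    rcases braid_ok a (X.k_eq ▸ ha) b (X.k_eq ▸ hb) hab with ⟨k, -, hk⟩ | hk
    · exact Or.inl ⟨k, hk⟩
    · exact Or.inr hk
  let R := Orth.root X.O X.gen X.π_eq (hOr X) p hU htor hbr
  haveI : Fintype P.S := Fintype.ofFinite _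
  refine R.card_ker_dvd h hperf (fun s => (hall _ (Orth.idx_lt X.O X.gen X.π_eq (hOr X) s)).1) ?_
  show ∏ s : P.S, Nat.card (Tg ⊓ Ls _ (Orth.idx_lt X.O X.gen X.π_eq (hOr X) s) : Subgroup (twistedE6 K q)) =
    Nat.gcd 3 (q + 1) * Nat.card Tg
  rw [Fintype.prod_bijective _ (Orth.idx_bij X.O X.gen X.π_eq (hOr X)) _ (fun a => cT q a.1)
    fun s => (hall _ _).2, Fin.prod_univ_eq_prod_range (cT q) X.O.k, X.k_eq]
  have e : Tg = (chevE6.diagonalSubgroup K ⊓ twistedE6 K q).subgroupOf (twistedE6 K q) := by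
    ext g
    rw [Subgroup.mem_subgroupOf]
    exact ⟨fun hg => Subgroup.mem_inf.2 ⟨hTH g hg, g.2⟩, fun hg => hHT g (Subgroup.mem_inf.1 hg).1⟩
  rw [e, Nat.card_congr (Subgroup.subgroupOfEquivOfLe inf_le_right).toEquiv, Twist.E6.card_H X]
  simp [Finset.prod_range_succ, cT, show q ^ 2 - 1 = (q + 1) * (q - 1) by rw [← Nat.sq_sub_sq q 1]]
  ring

end Cfsg.Agent.TwistMult.E6
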