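import Cfsg.Agent.Lib.TwistMult.E6Filt
import Cfsg.Agent.Lib.LieLocalChar.TwistExc

/-!
A central extension of a twisted group of type E6, q at least three, splits over the fixed unipotent
group.
-/

set_option autoImplicit false
set_option linter.unusedSectionVars false

open scoped commutatorElement

namespace Cfsg.Agent.TwistMult.E6

open Cfsg.Lie Cfsg.Agent.Chevalley Cfsg.Agent.Chevalley.Cover Cfsg.Agent.Chevalley.Twist
  Cfsg.Agent.Chevalley.Twist.E6

universe u v

variable {K : Type v} [Field K] [Fintype K] {q : ℕ} {hK : Fintype.card K = q ^ 2}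
  (X : Setup (K := K) hK) {E : Type u} [Group E] {π : E →* twistedE6 K q}

/-- The element of a root orbit in the group. -/
noncomputable def elR {r : ℕ} (hr : r < 72)
    (hc : rho r ≠ r → Twist.noComm Data.E6.tab r (rho r) = true) (t : K) : twistedE6 K q :=
  ⟨oel X r t, oel_mem X hr hc t⟩

/-- The lifts of a layer of one root commute. -/
theorem cl_long (C : Cen π) (h3 : 3 ≤ q) {k : ℕ} (hk : k < 24) (hρ : rho (lay k) = lay k) (s t : K) :
    cl C (el X k s) (el X k t) = 1 := by
  obtain ⟨a, b, ha, hb, hca, hcb, car, cbr, hsa, hsb, hgen⟩ := exists_kill X hk hρ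
  obtain ⟨u, v, e⟩ := hgen s
  have hr := (lay_ok k hk).1
  have hzero : ∀ {r : ℕ} (hr' : r < 72) (hc : rho r ≠ r → Twist.noComm Data.E6.tab r (rho r) = true),
      sep (lay k) r = true → (∀ w t, Commute (oel X r w) (oel X (lay k) t)) →
      ∀ w, cl C (el X k t) (elR X hr' hc w) = 1 := by
    intro r hr' hc hsep hcom w
    refine cl_pair_zero C (noInv_sep hK h3 hr hr' hsep) (fun x y => Subtype.ext ?_)
      (fun x y => Subtype.ext ?_) (fun x y => Subtype.ext ?_) (fun c => ⟨tg X c, fun x y => ⟨?_, ?_⟩⟩) t w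
    · rw [Subgroup.coe_mul, coe_el X hk, coe_el X hk, coe_el X hk,
        oel_add X hr (lay_ok k hk).2.2.2.1]
    · exact oel_add X hr' hc x y
    · show ((el X k x : twistedE6 K q) : GL chevE6.Idx K) * oel X r y = oel X r y * el X k x
      rw [coe_el X hk]
      exact (hcom y x).eq.symm
    · exact Subtype.ext (by
        rw [Subgroup.coe_mul, Subgroup.coe_mul, Subgroup.coe_inv, coe_el X hk, coe_el X hk]
        exact oel_conj X c hr x)
    · exact Subtype.ext (oel_conj X c hr' y)
  have h1 := hzero ha hca hsa car u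
  have h2 := hzero hb hcb hsb cbr v
  rw [cl, commutatorElement_eq_one_iff_commute] at h1 h2
  have hx : el X k s = ⁅elR X ha hca u, elR X hb hcb v⁆ := by
    refine Subtype.ext ?_
    rw [coe_el X hk, e, ← Subgroup.subtype_apply, map_commutatorElement]
    rfl
  rw [cl, Lift.comm_congr C.cen (a := lft C (el X k s))
    (a' := ⁅lft C (elR X ha hca u), lft C (elR X hb hcb v)⁆) (b := lft C (el X k t)) (b' := lft C (el X k t))
    (by rw [π_lft, map_commutatorElement, π_lft, π_lft, hx]) rfl, commutatorElement_eq_one_iff_commute,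
    commutatorElement_def]
  exact ((h1.symm.mul_left h2.symm).mul_left h1.symm.inv_left).mul_left h2.symm.inv_left

include X in
theorem exists_complement [Finite E] (hq : IsPrimePow q) (h3 : 3 ≤ q) (C : Cen π) :
    ∃ W : Subgroup E, W ⊓ π.ker = ⊥ ∧ W.map π = UK chevE6 (twistedE6 K q) := by
  haveI : Finite (twistedE6 K q) := Finite.of_injective _ Subtype.val_injective
  obtain ⟨W, h1, h2⟩ := (series X hq h3).exists_complement C fun i k hik hk => by
    have hi : i < 24 := lt_of_le_of_lt hik hk
    rcases eq_or_lt_of_le hik with rfl | hlt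
    · by_cases hρ : rho (lay i) = lay i
      · exact Or.inr (cl_long X C h3 hi hρ)
      · exact Or.inl (noInv_same hK h3 hi hρ)
    · exact Or.inl (noInv_sep hK h3 (lay_ok i hi).1 (lay_ok k hk).1 (sep_ok i hi k hk hlt))
  exact ⟨W, h1, h2.trans (series_zero X hq h3)⟩

end Cfsg.Agent.TwistMult.E6
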