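import Cfsg.Agent.Lib.TwistMult.Restrict
import Cfsg.Agent.Lib.Chevalley.Twist.AutF4
import Cfsg.Agent.Lib.Suzuki.Matrices

/-!
The restrictions of the rank one generators of the large Ree groups to small subquotients.
-/

set_option autoImplicit false
set_option linter.unusedSectionVars false
set_option synthInstance.maxSize 4096

open scoped Matrix

namespace Cfsg.Agent.TwistMult.F4

open Cfsg.Lie Cfsg.Agent.Chevalley Cfsg.Agent.Chevalley.Table Cfsg.Agent.Chevalley.Cert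
  Cfsg.Agent.Chevalley.Group Cfsg.Agent.Chevalley.Root Cfsg.Agent.Chevalley.Columns
  Cfsg.Agent.Chevalley.Twist Cfsg.Agent.Chevalley.Twist.F4

/-- The exponents with odd coefficient in a chain. -/
def oddExp (r s u : ℕ) : List ℕ := ((chevF4.chainCoeff r s u).filter fun km => km.2 % 2 != 0).map (·.1)

/-- A matrix given by its rows. -/
def Em {n : ℕ} (l : List (List (List ℕ))) (i j : Fin n) : List ℕ :=
  (l.getD i.val []).getD j.val []

/-- The roots carrying the Suzuki module. -/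
def P1 : Fin 4 → Fin chevF4.nroots :=
  ![⟨32, by decide +kernel⟩, ⟨31, by decide +kernel⟩, ⟨26, by decide +kernel⟩, ⟨24, by decide +kernel⟩]

/-- The line below the Suzuki module. -/
def W1 : List (Fin chevF4.nroots) := [⟨29, by decide +kernel⟩]

/-- The roots carrying the natural module of degree two. -/
def P0 : Fin 2 → Fin chevF4.nroots := ![⟨26, by decide +kernel⟩, ⟨25, by decide +kernel⟩]

theorem inj1 : Function.Injective P1 := by decide +kernel

theorem inj0 : Function.Injective P0 := by decide +kernel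

theorem out1 : ∀ i, P1 i ∉ W1 := by decide +kernel

theorem out0 : ∀ i, P0 i ∉ ([] : List (Fin chevF4.nroots)) := fun _ => List.not_mem_nil

theorem blk1_ok : ∀ r ∈ [25, 27, 28, 30, 19, 17], r < chevF4.nroots ∧
    (∀ j : Fin 4, (P1 j).val ≠ r ∧ (P1 j).val ≠ chevF4.negIdx.getD r 0 ∧ ∀ u : Fin chevF4.nroots,
      (∀ i, u ≠ P1 i) → u ∉ W1 → oddExp r (P1 j) u = []) ∧
    ∀ w ∈ W1, w.val ≠ r ∧ w.val ≠ chevF4.negIdx.getD r 0 ∧ ∀ u : Fin chevF4.nroots,
      u ∉ W1 → oddExp r w u = [] := by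
  unfold oddExp
  decide +kernel

theorem blk0_ok : ∀ r ∈ [24, 33, 23, 14], r < chevF4.nroots ∧
    ∀ j : Fin 2, (P0 j).val ≠ r ∧ (P0 j).val ≠ chevF4.negIdx.getD r 0 ∧ ∀ u : Fin chevF4.nroots,
      (∀ i, u ≠ P0 i) → oddExp r (P0 j) u = [] := by
  unfold oddExp
  decide +kernel

theorem tbl25 : ∀ i j : Fin 4, oddExp 25 (P1 j) (P1 i) =
    Em [[[], [1], [], []], [[], [], [], []], [[], [], [], [1]], [[], [], [], []]] i j := by
  unfold oddExp
  decide +kernel

theorem tbl27 : ∀ i j : Fin 4, oddExp 27 (P1 j) (P1 i) =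
    Em [[[], [], [], []], [[], [], [2], []], [[], [], [], []], [[], [], [], []]] i j := by
  unfold oddExp
  decide +kernel

theorem tbl28 : ∀ i j : Fin 4, oddExp 28 (P1 j) (P1 i) =
    Em [[[], [], [], [2]], [[], [], [], []], [[], [], [], []], [[], [], [], []]] i j := by
  unfold oddExp
  decide +kernel

theorem tbl30 : ∀ i j : Fin 4, oddExp 30 (P1 j) (P1 i) =
    Em [[[], [], [1], []], [[], [], [], [1]], [[], [], [], []], [[], [], [], []]] i j := by
  unfold oddExp
  decide +kernel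

theorem tbl19 : ∀ i j : Fin 4, oddExp 19 (P1 j) (P1 i) =
    Em [[[], [], [], []], [[], [], [], []], [[], [], [], []], [[2], [], [], []]] i j := by
  unfold oddExp
  decide +kernel

theorem tbl17 : ∀ i j : Fin 4, oddExp 17 (P1 j) (P1 i) =
    Em [[[], [], [], []], [[], [], [], []], [[1], [], [], []], [[], [1], [], []]] i j := by
  unfold oddExp
  decide +kernel

theorem tbl0 : ∀ i j : Fin 2, oddExp 24 (P0 j) (P0 i) =
      Em [[[], [1]], [[], []]] i j ∧
    oddExp 33 (P0 j) (P0 i) = [] ∧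
    oddExp 23 (P0 j) (P0 i) = Em [[[], []], [[1], []]] i j ∧
    oddExp 14 (P0 j) (P0 i) = [] := by
  unfold oddExp
  decide +kernel

theorem sum_roots : ∀ i < chevF4.rank, chevF4.cartan i 26 = chevF4.cartan i 24 + chevF4.cartan i 25 ∧
    chevF4.cartan i 29 = chevF4.cartan i 26 + chevF4.cartan i 27 ∧
    chevF4.cartan i 31 = chevF4.cartan i 29 + chevF4.cartan i 27 ∧
    chevF4.cartan i 32 = chevF4.cartan i 31 + chevF4.cartan i 25 := by decide +kernel

variable {K : Type*} [Field K]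

theorem torChar_add (c : ℕ → Kˣ) {r s u : ℕ}
    (h : ∀ i < chevF4.rank, chevF4.cartan i r = chevF4.cartan i s + chevF4.cartan i u) :
    torChar chevF4 c r = torChar chevF4 c s * torChar chevF4 c u := by
  rw [torChar, torChar, torChar, ← Finset.prod_mul_distrib]
  exact Finset.prod_congr rfl fun i hi => by rw [h i (Finset.mem_range.1 hi), zpow_add]

theorem chars (c : ℕ → Kˣ) : torChar chevF4 c 26 = torChar chevF4 c 24 * torChar chevF4 c 25 ∧
    torChar chevF4 c 31 = torChar chevF4 c 26 * torChar chevF4 c 27 ^ 2 ∧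
    torChar chevF4 c 32 = torChar chevF4 c 31 * torChar chevF4 c 25 :=
  ⟨torChar_add c fun i hi => (sum_roots i hi).1,
    by rw [torChar_add c fun i hi => (sum_roots i hi).2.2.1, torChar_add c fun i hi => (sum_roots i hi).2.1, sq,
      mul_assoc],
    torChar_add c fun i hi => (sum_roots i hi).2.2.2⟩

/-- A diagonal element acts diagonally on any set of root vectors. -/
theorem res_tor {n : ℕ} {P : Fin n → Fin chevF4.nroots} (hP : Function.Injective P) (c : ℕ → Kˣ) :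
    Res.res P (tor chevF4 c : GL chevF4.Idx K) = Matrix.diagonal fun i => (torChar chevF4 c (P i) : K) := by
  ext i j
  show ((tor chevF4 c : GL chevF4.Idx K) : Matrix chevF4.Idx chevF4.Idx K) _ _ = _
  rw [tor, coe_dg, dMat]
  by_cases h : i = j
  · subst h; rw [Matrix.diagonal_apply_eq, Matrix.diagonal_apply_eq]; rfl
  · rw [Matrix.diagonal_apply_ne _ h, Matrix.diagonal_apply_ne _ fun e => h (hP (Sum.inr.inj e))]

theorem blk_tor {n : ℕ} (P : Fin n → Fin chevF4.nroots) (W : List (Fin chevF4.nroots)) (c : ℕ → Kˣ) :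
    Res.Blk P W (tor chevF4 c : GL chevF4.Idx K) := by
  refine ⟨fun j k h _ => ?_, fun w hw k h => ?_⟩ <;> rw [tor, coe_dg, dMat, Matrix.diagonal_apply_ne]
  · exact h j
  · exact h w hw

variable [CharP K 2]

theorem cast_odd (c : ℤ) : (c : K) = if c % 2 != 0 then 1 else 0 := by
  obtain ⟨k, rfl | rfl⟩ : ∃ k, c = 2 * k ∨ c = 2 * k + 1 := ⟨c / 2, by omega⟩
  · simp [Int.mul_emod_right, _root_.CharTwo.two_eq_zero]
  · simp [Int.add_emod, Int.mul_emod_right, _root_.CharTwo.two_eq_zero]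

/-- An entry of a root element on root vectors off its own line. -/
theorem xg_entry {r : ℕ} (hr : r < chevF4.nroots) (t : K) {s : Fin chevF4.nroots} (h1 : s.val ≠ r)
    (h2 : s.val ≠ chevF4.negIdx.getD r 0) (u : Fin chevF4.nroots) :
    ((xg hC r t : GL chevF4.Idx K) : Matrix chevF4.Idx chevF4.Idx K) (Sum.inr u) (Sum.inr s) =
      (if u = s then 1 else 0) + ((oddExp r s u).map fun k => t ^ k).sum := by
  rw [coe_xg, x_eq hr]
  simp only [ChevalleyDatum.xMat, Matrix.of_apply]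
  rw [if_neg (fun e => h1 (congrArg Fin.val e)), if_neg h2]
  simp only [oddExp, List.map_map]
  congr 1
  induction chevF4.chainCoeff r s.val u.val with
  | nil => rfl
  | cons a l ih =>
    rw [List.map_cons, List.sum_cons, ih, cast_odd]
    by_cases ha : (a.2 % 2 != 0) = true <;> simp [ha]

theorem xg_entry_inl {r : ℕ} (hr : r < chevF4.nroots) (t : K) {s : Fin chevF4.nroots} (h1 : s.val ≠ r)
    (h2 : s.val ≠ chevF4.negIdx.getD r 0) (i : Fin chevF4.rank) :
    ((xg hC r t : GL chevF4.Idx K) : Matrix chevF4.Idx chevF4.Idx K) (Sum.inl i) (Sum.inr s) = 0 := by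
  rw [coe_xg, x_eq hr]
  simp only [ChevalleyDatum.xMat, Matrix.of_apply]
  rw [if_neg (fun e => h1 (congrArg Fin.val e)), if_neg h2]

theorem blk1 {r : ℕ} (hr : r ∈ [25, 27, 28, 30, 19, 17]) (t : K) : Res.Blk P1 W1 (xg hC r t) := by
  obtain ⟨hlt, hP, hW⟩ := blk1_ok r hr
  refine ⟨fun j k h1 h2 => ?_, fun w hw k h => ?_⟩
  · obtain ⟨e1, e2, e3⟩ := hP j
    rcases k with i | u
    · exact xg_entry_inl hlt t e1 e2 i
    · rw [xg_entry hlt t e1 e2, e3 u (fun i e => h1 i (congrArg Sum.inr e))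
        (fun e => h2 u e rfl), if_neg fun e => h1 j (congrArg Sum.inr e)]
      simp
  · obtain ⟨e1, e2, e3⟩ := hW w hw
    rcases k with i | u
    · exact xg_entry_inl hlt t e1 e2 i
    · rw [xg_entry hlt t e1 e2, e3 u (fun e => h u e rfl),
        if_neg fun e => h w hw (congrArg Sum.inr e)]
      simp

theorem blk0 {r : ℕ} (hr : r ∈ [24, 33, 23, 14]) (t : K) : Res.Blk P0 [] (xg hC r t) := by
  obtain ⟨hlt, hP⟩ := blk0_ok r hr
  refine ⟨fun j k h1 _ => ?_, fun w hw => absurd hw List.not_mem_nil⟩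
  obtain ⟨e1, e2, e3⟩ := hP j
  rcases k with i | u
  · exact xg_entry_inl hlt t e1 e2 i
  · rw [xg_entry hlt t e1 e2, e3 u (fun i e => h1 i (congrArg Sum.inr e)),
      if_neg fun e => h1 j (congrArg Sum.inr e)]
    simp

theorem res1 {r : ℕ} (hr : r ∈ [25, 27, 28, 30, 19, 17]) (t : K) {E : Fin 4 → Fin 4 → List ℕ}
    (hE : ∀ i j : Fin 4, oddExp r (P1 j) (P1 i) = E i j) :
    Res.res P1 (xg hC r t : GL chevF4.Idx K) = 1 + Matrix.of fun i j => ((E i j).map fun k => t ^ k).sum := by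
  obtain ⟨hlt, hP, -⟩ := blk1_ok r hr
  ext i j
  show ((xg hC r t : GL chevF4.Idx K) : Matrix chevF4.Idx chevF4.Idx K) _ _ = _
  rw [xg_entry hlt t (hP j).1 (hP j).2.1, hE i j, Matrix.add_apply, Matrix.one_apply, Matrix.of_apply]
  congr 1
  by_cases h : i = j
  · rw [if_pos h, if_pos (congrArg P1 h)]
  · rw [if_neg h, if_neg fun e => h (inj1 e)]

theorem res0 {r : ℕ} (hr : r ∈ [24, 33, 23, 14]) (t : K) {E : Fin 2 → Fin 2 → List ℕ}
    (hE : ∀ i j : Fin 2, oddExp r (P0 j) (P0 i) = E i j) :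
    Res.res P0 (xg hC r t : GL chevF4.Idx K) = 1 + Matrix.of fun i j => ((E i j).map fun k => t ^ k).sum := by
  obtain ⟨hlt, hP⟩ := blk0_ok r hr
  ext i j
  show ((xg hC r t : GL chevF4.Idx K) : Matrix chevF4.Idx chevF4.Idx K) _ _ = _
  rw [xg_entry hlt t (hP j).1 (hP j).2.1, hE i j, Matrix.add_apply, Matrix.one_apply, Matrix.of_apply]
  congr 1
  by_cases h : i = j
  · rw [if_pos h, if_pos (congrArg P0 h)]
  · rw [if_neg h, if_neg fun e => h (inj0 e)]

/-- A class word on the Suzuki module. -/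
theorem blk_cw (m : ℕ) (t u : K) : Res.Blk P1 W1 (cw (2 ^ m) 27 25 28 30 t u : GL chevF4.Idx K) := by
  have hm := @Res.blk_mul chevF4 K _ 4 P1 W1 inj1 out1
  exact hm (hm (blk1 (by simp) _) (blk1 (by simp) _)) (hm (blk1 (by simp) _) (blk1 (by simp) _))

theorem res_cw [Fintype K] {m : ℕ} (hK : Fintype.card K = 2 ^ (2 * m + 1)) (t u : K) : Res.res P1 (cw (2 ^ m) 27 25 28 30 t u : GL chevF4.Idx K) =
    Suzuki.transMat m t (t ^ (2 * 2 ^ m + 1) + u ^ (2 * 2 ^ m)) := by
  have hm := @Res.res_mul chevF4 K _ 4 P1 W1 inj1 out1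
  have hb := @Res.blk_mul chevF4 K _ 4 P1 W1 inj1 out1
  have b := fun r hr s => blk1 (K := K) (r := r) hr s
  rw [cw, hm (hb (b 27 (by simp) _) (b 25 (by simp) _)) (hb (b 28 (by simp) _) (b 30 (by simp) _)),
    hm (b 27 (by simp) _) (b 25 (by simp) _), hm (b 28 (by simp) _) (b 30 (by simp) _),
    res1 (by simp) _ tbl27, res1 (by simp) _ tbl25, res1 (by simp) _ tbl28, res1 (by simp) _ tbl30]
  have h2 : (2 : K) = 0 := _root_.CharTwo.two_eq_zero
  have hE : (2 : ℕ) ^ (m + 1) = 2 * 2 ^ m := by ring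
  rw [Suzuki.transMat, Suzuki.ovf, hE]
  ext i j
  fin_cases i <;> fin_cases j <;>
    simp [Matrix.mul_apply, Fin.sum_univ_four, Matrix.one_apply, Em]
  · linear_combination (-(t ^ (2 * 2 ^ m + 1))) * h2
  · haveI : Fact (Nat.Prime 2) := ⟨Nat.prime_two⟩
    have e1 : (t ^ (2 * 2 ^ m + 1) + u ^ (2 * 2 ^ m)) ^ (2 * 2 ^ m) = t ^ 2 * t ^ (2 * 2 ^ m) + u ^ 2 := by
      rw [show 2 * 2 ^ m = 2 ^ (m + 1) by ring, add_pow_char_pow, ← pow_mul, ← pow_mul,
        show (2 : ℕ) ^ (m + 1) * 2 ^ (m + 1) = 2 * (2 * (2 ^ m * 2 ^ m)) by ring,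
        show (2 ^ (m + 1) + 1) * 2 ^ (m + 1) = 2 * (2 * (2 ^ m * 2 ^ m)) + 2 ^ (m + 1) by ring, pow_add,
        mul_comm 2 (2 * (2 ^ m * 2 ^ m)), pow_mul t, pow_mul u, pow_q hK, pow_q hK]
    rw [e1, sq_add]
    linear_combination (-(t ^ 2 * t ^ (2 * 2 ^ m))) * h2
  · rw [← pow_mul, mul_comm 2]
  · rw [← pow_mul, mul_comm (2 ^ m) 2, pow_succ, add_comm]

/-- The element of the negative class used for the longest element. -/
theorem res_cn_one (m : ℕ) : Res.res P1 (cw (2 ^ m) 20 22 19 17 (0 : K) 1 : GL chevF4.Idx K) =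
    !![1, 0, 0, 0; 0, 1, 0, 0; 1, 0, 1, 0; 1, 1, 0, 1] ∧
    Res.Blk P1 W1 (cw (2 ^ m) 20 22 19 17 (0 : K) 1 : GL chevF4.Idx K) := by
  have e : (cw (2 ^ m) 20 22 19 17 (0 : K) 1 : GL chevF4.Idx K) = xg hC 19 1 * xg hC 17 1 := by
    simp [cw, zero_pow (pow_ne_zero m two_ne_zero), xg_zero hC]
  rw [e]
  refine ⟨?_, Res.blk_mul inj1 out1 (blk1 (by simp) _) (blk1 (by simp) _)⟩
  rw [Res.res_mul inj1 out1 (blk1 (by simp) _) (blk1 (by simp) _), res1 (by simp) _ tbl19,
    res1 (by simp) _ tbl17]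
  ext i j
  fin_cases i <;> fin_cases j <;> simp [Matrix.mul_apply, Fin.sum_univ_four, Matrix.one_apply, Em]

/-- A pair word on the natural module of degree two. -/
theorem res_pair (s t : K) : Res.res P0 (xg hC 24 t * xg hC 33 s : GL chevF4.Idx K) = !![1, t; 0, 1] ∧
    Res.res P0 (xg hC 23 t * xg hC 14 s : GL chevF4.Idx K) = !![1, 0; t, 1] ∧
    Res.Blk P0 [] (xg hC 24 t * xg hC 33 s : GL chevF4.Idx K) ∧
    Res.Blk P0 [] (xg hC 23 t * xg hC 14 s : GL chevF4.Idx K) := by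
  refine ⟨?_, ?_, Res.blk_mul inj0 out0 (blk0 (by simp) _) (blk0 (by simp) _),
    Res.blk_mul inj0 out0 (blk0 (by simp) _) (blk0 (by simp) _)⟩
  all_goals
    rw [Res.res_mul inj0 out0 (blk0 (by simp) _) (blk0 (by simp) _)]
  · rw [res0 (by simp) _ (fun i j => (tbl0 i j).1),
      res0 (by simp) _ (E := fun _ _ => []) (fun i j => (tbl0 i j).2.1)]
    ext i j
    fin_cases i <;> fin_cases j <;> simp [Matrix.mul_apply, Matrix.one_apply, Em]
  · rw [res0 (by simp) _ (fun i j => (tbl0 i j).2.2.1),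
      res0 (by simp) _ (E := fun _ _ => []) (fun i j => (tbl0 i j).2.2.2)]
    ext i j
    fin_cases i <;> fin_cases j <;> simp [Matrix.mul_apply, Matrix.one_apply, Em]

end Cfsg.Agent.TwistMult.F4
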