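import Cfsg.Agent.Lib.TwistMult.Hat
import Cfsg.Agent.SimpleFacts.SLTwoMultiplier

/-!
A copy of a special linear group of degree two lifts through a central kernel of order prime to its
characteristic.
-/

set_option autoImplicit false
set_option linter.unusedSectionVars false

namespace Cfsg.Agent.TwistMult

open scoped MatrixGroups
open Cfsg.Agent.Classical Cfsg.Agent.SimpleFacts.SLTwoMultiplier

universe u v w

variable {E : Type u} {G : Type v} [Group E] [Finite E] [Group G] {p : ℕ} {π : E →* G}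

/-- The kernel inside a lifted subgroup lies in its derived subgroup. -/
theorem hat_ker_le_commutator (h : Ctx p π) {L : Subgroup G} {x : hat p π L} (hx : π x.1 = 1) :
    x ∈ commutator (hat p π L) := by
  rw [← Abelianization.ker_of, MonoidHom.mem_ker]
  have hp : ∀ y : hat p π L, ∃ k, (Abelianization.of y) ^ p ^ k = 1 := by
    rintro ⟨y, hy⟩
    induction hy using Subgroup.closure_induction with
    | mem z hz =>
      obtain ⟨⟨k, hk⟩, hzL⟩ := hz
      refine ⟨k, ?_⟩
      rw [← map_pow]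
      refine (congrArg Abelianization.of (Subtype.ext ?_)).trans (map_one _)
      rw [Subgroup.coe_pow]
      exact hk
    | one => exact ⟨0, by rw [show (⟨(1 : E), _⟩ : hat p π L) = 1 from rfl, map_one, one_pow]⟩
    | mul a b ha hb iha ihb =>
      obtain ⟨i, hi⟩ := iha
      obtain ⟨j, hj⟩ := ihb
      refine ⟨i + j, ?_⟩
      rw [show (⟨a * b, _⟩ : hat p π L) = ⟨a, ha⟩ * ⟨b, hb⟩ from rfl, map_mul, mul_pow, pow_add, pow_mul, hi,
        one_pow, one_mul, mul_comm (p ^ i), pow_mul, hj, one_pow]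
    | inv a ha iha =>
      obtain ⟨i, hi⟩ := iha
      exact ⟨i, by rw [show (⟨a⁻¹, _⟩ : hat p π L) = ⟨a, ha⟩⁻¹ from rfl, map_inv, inv_pow, hi, inv_one]⟩
  obtain ⟨k, hk⟩ := hp x
  have hxk : x.1 ^ Nat.card π.ker = 1 :=
    congrArg Subtype.val (pow_card_eq_one' (x := (⟨x.1, hx⟩ : π.ker)))
  have hn : Abelianization.of x ^ Nat.card π.ker = 1 := by
    rw [← map_pow]
    refine (congrArg Abelianization.of (Subtype.ext ?_)).trans (map_one _)
    rw [Subgroup.coe_pow]
    exact hxk
  have hco : (Nat.card π.ker).Coprime (p ^ k) :=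
    Nat.Coprime.pow_right _ ((h.prime.coprime_iff_not_dvd.2 h.cop).symm)
  exact orderOf_eq_one_iff.1 (Nat.eq_one_of_dvd_coprimes hco (orderOf_dvd_of_pow_eq_one hn)
    (orderOf_dvd_of_pow_eq_one hk))

/-- The lifts of a copy of `SL₂` in characteristic `p`. -/
theorem good_sl2 (h : Ctx p π) {F : Type w} [Field F] [Fintype F] [CharP F p] (φ : SL(2, F) →* G)
    (hφ : Function.Injective φ) {L : Subgroup G} (hL : φ.range = L)
    (hgen : L ≤ Subgroup.closure {y | y ∈ L ∧ ∃ k, y ^ p ^ k = 1}) : Good p π L := by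
  classical
  haveI : Fact p.Prime := ⟨h.prime⟩
  subst hL
  obtain ⟨σ, hσ⟩ : ∃ σ : hat p π φ.range →* SL(2, F), ∀ x, φ (σ x) = π x.1 :=
    ⟨(MonoidHom.ofInjective hφ).symm.toMonoidHom.comp
      ((π.comp (hat p π φ.range).subtype).codRestrict φ.range fun x => hat_mem_image (p := p) (π := π) x.2), fun x => by
      show φ ((MonoidHom.ofInjective hφ).symm _) = _
      exact congrArg Subtype.val ((MonoidHom.ofInjective hφ).apply_symm_apply _)⟩
  have hk : ∀ x, σ x = 1 ↔ π x.1 = 1 := fun x => by rw [← hσ, map_eq_one_iff φ hφ]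
  have hcen : σ.ker ≤ Subgroup.center (hat p π φ.range) := fun x hx => Subgroup.mem_center_iff.2 fun y =>
    Subtype.ext (Subgroup.mem_center_iff.1 (h.cen ((hk x).1 hx)) y.1)
  have hstem : Cfsg.IsStemExtension σ := by
    refine ⟨fun g => ?_, hcen, fun x hx => hat_ker_le_commutator h ((hk x).1 hx)⟩
    obtain ⟨x, hx, e⟩ := exists_mem_hat h hgen (⟨g, rfl⟩ : φ g ∈ φ.range)
    exact ⟨⟨x, hx⟩, hφ (by rw [hσ]; exact e)⟩
  have hbot : σ.ker = ⊥ := by
    refine ker_eq_bot σ fun r _ P z hz hzP => ?_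
    by_cases hrp : r = p
    · subst hrp
      obtain ⟨k, hk'⟩ := P.isPGroup' ⟨z, hzP⟩
      refine Subtype.ext (eq_one_of_pel h ((hk z).1 hz) ⟨k, ?_⟩)
      exact congrArg (fun y : (P : Subgroup (hat r π φ.range)) => ((y : hat r π φ.range) : E)) hk'
    set R : Sylow r SL(2, F) := P.mapSurjective hstem.1 with hR
    let τ₀ : (P : Subgroup (hat p π φ.range)) →* (R : Subgroup SL(2, F)) :=
      (σ.comp (P : Subgroup (hat p π φ.range)).subtype).codRestrict _ fun x => ⟨x.1, x.2, rfl⟩
    have hπs : Function.Surjective τ₀ := by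
      rintro ⟨y, x, hx, rfl⟩
      exact ⟨⟨x, hx⟩, rfl⟩
    have hπk : τ₀.ker ≤ Subgroup.center (P : Subgroup (hat p π φ.range)) := fun x hx => by
      rw [Subgroup.mem_center_iff]
      intro y
      exact Subtype.ext (Subgroup.mem_center_iff.1 (hcen (MonoidHom.mem_ker.2
        (congrArg Subtype.val (MonoidHom.mem_ker.1 hx)))) y.1)
    by_cases hr2 : r = 2
    · subst hr2
      have hodd : Odd (Fintype.card F) := by
        obtain ⟨f, hp, hf⟩ := FiniteField.card F p
        rw [hf]
        exact (hp.odd_of_ne_two (Ne.symm hrp)).pow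
      obtain ⟨⟨e⟩, -⟩ := SylowSL2.sylow_two hodd R
      haveI : NeZero (2 ^ ((Nat.card SL(2, F)).factorization 2 - 2)) := ⟨pow_ne_zero _ two_ne_zero⟩
      let τ := e.toMonoidHom.comp τ₀
      have hk2 : τ.ker = τ₀.ker := by
        ext x
        simp [τ, MonoidHom.mem_ker]
      have hstem2 : Cfsg.IsStemExtension τ := by
        refine ⟨e.surjective.comp hπs, hk2.le.trans hπk, fun x hx => ?_⟩
        have hx' : σ x.1 = 1 := congrArg Subtype.val (MonoidHom.mem_ker.1 (hk2.le hx))
        exact mem_commutator_sylow P (hcen (MonoidHom.mem_ker.2 hx'))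
          (hstem.2.2 (MonoidHom.mem_ker.2 hx')) x.2
      have hb := quaternion_stem _ τ hstem2
      have hmem : (⟨z, hzP⟩ : (P : Subgroup (hat p π φ.range))) ∈ τ.ker := by
        rw [hk2, MonoidHom.mem_ker]
        exact Subtype.ext (MonoidHom.mem_ker.1 hz)
      rw [hb, Subgroup.mem_bot] at hmem
      exact congrArg Subtype.val hmem
    · haveI := SylowSL2.isCyclic_sylow p r hr2 hrp R
      refine eq_one_of_abelian σ hstem P (fun a ha b hb => ?_) hz hzP
      have := τ₀.isMulCommutative_of_isCyclic_of_ker_le_center hπk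
      exact congrArg Subtype.val (this.is_comm.comm ⟨a, ha⟩ ⟨b, hb⟩)
  rw [Good, eq_bot_iff]
  rintro x ⟨hx, hxk⟩
  have h1 : (⟨x, hx⟩ : hat p π φ.range) ∈ σ.ker := (hk _).2 hxk
  rw [hbot, Subgroup.mem_bot] at h1
  exact congrArg Subtype.val h1

end Cfsg.Agent.TwistMult
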