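import Cfsg.Agent.Lib.TwistMult.GenRoot
import Cfsg.Agent.Lib.TwistMult.F4Res
import Cfsg.Agent.Lib.TwistMult.GoodSL2
import Cfsg.Agent.Lib.Chevalley.Twist.CountF4
import Cfsg.Agent.Lib.Suzuki.Partition

/-!
The rank one subgroups of the large Ree groups.
-/

set_option autoImplicit false
set_option linter.unusedSectionVars false

open scoped Matrix MatrixGroups

namespace Cfsg.Agent.TwistMult.F4

open Cfsg.Lie Cfsg.Agent.Chevalley Cfsg.Agent.Chevalley.Table Cfsg.Agent.Chevalley.Cert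
  Cfsg.Agent.Chevalley.Group Cfsg.Agent.Chevalley.Borel Cfsg.Agent.Chevalley.Bruhat
  Cfsg.Agent.Chevalley.Weyl Cfsg.Agent.Chevalley.NormalForm
  Cfsg.Agent.Chevalley.Twist Cfsg.Agent.Chevalley.Twist.F4

/-- A matrix group as a monoid of matrices. -/
def ιS {F : Type*} [Field F] (m : ℕ) : Cfsg.Sz F m →* Matrix (Fin 4) (Fin 4) F where
  toFun h := h.1.1
  map_one' := rfl
  map_mul' _ _ := rfl

/-- The special linear group as a monoid of matrices. -/
def ι2 (F : Type*) [Field F] : SL(2, F) →* Matrix (Fin 2) (Fin 2) F where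
  toFun h := h.1
  map_one' := rfl
  map_mul' _ _ := rfl

theorem ιS_inj {F : Type*} [Field F] (m : ℕ) : Function.Injective (ιS (F := F) m) := fun _ _ h =>
  Subtype.ext (Subtype.ext h)

theorem ι2_inj (F : Type*) [Field F] : Function.Injective (ι2 F) := fun _ _ h => Subtype.ext h

theorem diag4 {F : Type*} [Field F] (f : Fin 4 → F) :
    Matrix.diagonal f = !![f 0, 0, 0, 0; 0, f 1, 0, 0; 0, 0, f 2, 0; 0, 0, 0, f 3] := by
  ext i j
  fin_cases i <;> fin_cases j <;> rfl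

theorem res_inv_left {D : ChevalleyDatum} {F : Type*} [Field F] [Finite F] {n : ℕ}
    {P : Fin n → Fin D.nroots} {W : List (Fin D.nroots)} (hP : Function.Injective P) (hPW : ∀ i, P i ∉ W)
    {g : GL D.Idx F} (hg : Res.Blk P W g) : Res.res P g⁻¹ * Res.res P g = 1 := by
  rw [← Res.res_mul hP hPW (Res.blk_inv hP hPW hg) hg, inv_mul_cancel, Res.res_one hP hPW]

variable {K : Type*} [Field K] [Fintype K] [CharP K 2] {m : ℕ}
  {hK : Fintype.card K = 2 ^ (2 * m + 1)} (X : Setup (K := K) (m := m) hK)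
include X

/-- The rank one subgroup of the pair orbit. -/
abbrev Lp : Subgroup (twistedF4 K (2 ^ m)) := Gen.L X.O (hnJ X) (k0 X)

/-- The rank one subgroup of the class orbit. -/
abbrev Lc : Subgroup (twistedF4 K (2 ^ m)) := Gen.L X.O (hnJ X) (k1 X)

theorem cp_mem (t u : K) : cp X t u ∈ Lc X := Subgroup.mem_sup_left ((mem_XU1 X).2 ⟨t, u, rfl⟩)

theorem n1_mem : n1 X ∈ Lc X := by
  have h : cn X 0 1 ∈ Lc X :=
    cn_eq X 0 1 ▸ Subgroup.mem_sup_right ⟨cp X 0 1, (mem_XU1 X).2 ⟨0, 1, rfl⟩, rfl⟩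
  exact n1_eq X ▸ mul_mem (mul_mem (inv_mem (cp_mem X 1 1)) h) (inv_mem (cp_mem X 1 0))

theorem w0_eq : w0 X 1 = nK X.O (hnJ X) (k0 X) := by
  refine Subtype.ext ?_
  rw [coe_w0]
  show _ = nL hC K (X.O.J 0)
  rw [J0 X, ← onr_one (hC := hC)]
  simp [map_one]

theorem x0_mem (t : K) : x0 X t ∈ Lp X := Subgroup.mem_sup_left ((mem_XU0 X).2 ⟨t, rfl⟩)

theorem y0_mem (t : K) : y0 X t ∈ Lp X := Subgroup.mem_sup_right ((mem_XV0 X).2 ⟨t, rfl⟩)

theorem h0_mem (s : Kˣ) : h0 X s ∈ Lp X :=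
  mul_mem (mul_mem (mul_mem (x0_mem X _) (y0_mem X _)) (x0_mem X _))
    (mul_mem (mul_mem (x0_mem X _) (y0_mem X _)) (x0_mem X _))

theorem n0_mem : nK X.O (hnJ X) (k0 X) ∈ Lp X :=
  w0_eq X ▸ mul_mem (mul_mem (x0_mem X _) (y0_mem X _)) (x0_mem X _)

omit X in
theorem torChar_congr {c c' : ℕ → Kˣ} (h : tor chevF4 c = tor chevF4 c') {r : ℕ} (hr : r < chevF4.nroots) :
    torChar chevF4 c r = torChar chevF4 c' r := by
  have h1 := congrArg (fun g : GL chevF4.Idx K =>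
    (g : Matrix chevF4.Idx chevF4.Idx K) (Sum.inr ⟨r, hr⟩) (Sum.inr ⟨r, hr⟩)) h
  simp only [tor, coe_dg, Root.dMat, Matrix.diagonal_apply_eq, Sum.elim_inr] at h1
  exact Units.ext h1

/-- A diagonal element is determined by two characters. -/
theorem eq_one_of_chars {g : twistedF4 K (2 ^ m)} {c : ℕ → Kˣ} (hg : (g : GL chevF4.Idx K) = tor chevF4 c)
    (h24 : torChar chevF4 c 24 = 1) (h25 : torChar chevF4 c 25 = 1) : g = 1 := by
  classical
  let T := HK chevF4 (twistedF4 K (2 ^ m))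
  have hex : ∀ t : T, ∃ c : ℕ → Kˣ, ((t : twistedF4 K (2 ^ m)) : GL chevF4.Idx K) = tor chevF4 c :=
    fun t => (mem_H_iff hC).1 (Subgroup.mem_subgroupOf.1 t.2)
  choose C hC' using hex
  let f : T → Kˣ × Kˣ := fun t => (torChar chevF4 (C t) 24, torChar chevF4 (C t) 25)
  have hlt : 24 < chevF4.nroots ∧ 25 < chevF4.nroots := by decide +kernel
  have hf : ∀ (t : T) (c : ℕ → Kˣ), ((t : twistedF4 K (2 ^ m)) : GL chevF4.Idx K) = tor chevF4 c →
      f t = (torChar chevF4 c 24, torChar chevF4 c 25) := fun t c h =>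
    Prod.ext (torChar_congr ((hC' t).symm.trans h) hlt.1) (torChar_congr ((hC' t).symm.trans h) hlt.2)
  have hfs : Function.Surjective f := fun ab => by
    obtain ⟨c, hcK, e1, e2⟩ := exists_torus X ab.1 ab.2
    refine ⟨⟨⟨tor chevF4 c, hcK⟩, Subgroup.mem_subgroupOf.2 (tor_mem_H hC c)⟩, ?_⟩
    rw [hf _ c rfl, e1, e2]
  haveI : Finite (twistedF4 K (2 ^ m)) := Finite.of_injective _ Subtype.val_injective
  have hcard : Nat.card T = Nat.card (Kˣ × Kˣ) := by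
    rw [Nat.card_prod, Nat.card_units, (Nat.card_eq_fintype_card (α := K)), hK, ← sq, ← card_H X,
      ← Nat.card_congr (Subgroup.subgroupOfEquivOfLe (inf_le_right : chevF4.diagonalSubgroup K ⊓
        twistedF4 K (2 ^ m) ≤ twistedF4 K (2 ^ m))).toEquiv, Subgroup.inf_subgroupOf_right]
  have hfi := ((Nat.bijective_iff_surjective_and_card f).2 ⟨hfs, hcard⟩).1
  have hgT : g ∈ T := Subgroup.mem_subgroupOf.2 (hg ▸ tor_mem_H hC c)
  have h1 : ((1 : T) : twistedF4 K (2 ^ m)).1 = tor chevF4 1 := by rw [tor_one]; rfl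
  refine congrArg Subtype.val (hfi (a₁ := ⟨g, hgT⟩) (a₂ := 1) ?_)
  rw [hf _ c hg, hf _ 1 h1, h24, h25]
  simp [torChar]

/-! ### The Suzuki group of the class orbit -/

theorem res_n1 : Res.res P1 (n1 X : GL chevF4.Idx K) = Suzuki.swapMat ∧
    Res.Blk P1 W1 (n1 X : GL chevF4.Idx K) := by
  obtain ⟨hv, hvb⟩ := res_cn_one (K := K) m
  rw [← coe_cn X] at hv hvb
  have hbn : Res.Blk P1 W1 (n1 X : GL chevF4.Idx K) := by
    rw [n1_eq X, Subgroup.coe_mul, Subgroup.coe_mul, Subgroup.coe_inv, Subgroup.coe_inv, coe_cp, coe_cp]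
    exact Res.blk_mul inj1 out1
      (Res.blk_mul inj1 out1 (Res.blk_inv inj1 out1 (blk_cw m 1 1)) hvb) (Res.blk_inv inj1 out1 (blk_cw m 1 0))
  refine ⟨?_, hbn⟩
  obtain ⟨n, hn⟩ : ∃ n, n = n1 X := ⟨_, rfl⟩
  have e : cn X 0 1 = cp X 1 1 * n * cp X 1 0 := by rw [hn, n1_eq]; group
  rw [← hn] at hbn ⊢
  rw [e, Subgroup.coe_mul, Subgroup.coe_mul, coe_cp, coe_cp,
    Res.res_mul inj1 out1 (Res.blk_mul inj1 out1 (blk_cw m 1 1) hbn) (blk_cw m 1 0),
    Res.res_mul inj1 out1 (blk_cw m 1 1) hbn, res_cw hK, res_cw hK] at hv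
  have h1 : (1 : K) ^ (2 * 2 ^ m + 1) + 1 ^ (2 * 2 ^ m) = 0 := by
    rw [one_pow, one_pow]; exact _root_.CharTwo.add_self_eq_zero 1
  have h0 : (1 : K) ^ (2 * 2 ^ m + 1) + 0 ^ (2 * 2 ^ m) = 1 := by
    rw [one_pow, zero_pow (by positivity), add_zero]
  rw [h1, h0] at hv
  have hs : Suzuki.transMat m (1 : K) 0 * Suzuki.swapMat * Suzuki.transMat m 1 1 =
      !![1, 0, 0, 0; 0, 1, 0, 0; 1, 0, 1, 0; 1, 1, 0, 1] := by
    ext i j
    fin_cases i <;> fin_cases j <;>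
      simp [Suzuki.transMat, Suzuki.swapMat, Suzuki.ovf, Matrix.mul_apply, Fin.sum_univ_four,
        _root_.CharTwo.add_self_eq_zero]
  have hu : ∀ a b : K, IsUnit (Suzuki.transMat m a b) := fun a b =>
    (Group.isUnit (Suzuki.tr hK a b : Cfsg.Sz K m)).map (ιS m)
  exact (hu 1 0).mul_left_cancel ((hu 1 1).mul_right_cancel (hv.trans hs.symm))

theorem res_cp (t u : K) : Res.res P1 (cp X t u : GL chevF4.Idx K) =
    ιS m (Suzuki.tr hK t (t ^ (2 * 2 ^ m + 1) + u ^ (2 * 2 ^ m))) := by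
  rw [coe_cp, res_cw hK]
  rfl

theorem Lc_target {g : twistedF4 K (2 ^ m)} (hg : g ∈ Lc X) :
    (g : GL chevF4.Idx K) ∈ Res.target inj1 out1 (ιS (F := K) m) := by
  obtain ⟨hn, hnb⟩ := res_n1 X
  have hU : ∀ x ∈ XU X.O (twistedF4 K (2 ^ m)) 1,
      (x : GL chevF4.Idx K) ∈ Res.target inj1 out1 (ιS (F := K) m) := fun x hx => by
    obtain ⟨t, u, rfl⟩ := (mem_XU1 X).1 hx
    exact ⟨coe_cp X t u ▸ blk_cw m t u, _, (res_cp X t u).symm⟩
  have hn' : (n1 X : GL chevF4.Idx K) ∈ Res.target inj1 out1 (ιS (F := K) m) :=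
    ⟨hnb, Suzuki.sw hK, hn.symm⟩
  have hle : Lc X ≤ (Res.target inj1 out1 (ιS (F := K) m)).subgroupOf (twistedF4 K (2 ^ m)) := by
    refine sup_le (fun x hx => hU x hx) ?_
    rintro _ ⟨x, hx, rfl⟩
    rw [MulEquiv.coe_toMonoidHom, MulAut.conj_apply, Subgroup.mem_subgroupOf, Subgroup.coe_mul,
      Subgroup.coe_mul, Subgroup.coe_inv]
    exact mul_mem (mul_mem hn' (hU x hx)) (inv_mem hn')
  exact hle hg

/-- A commutator of the longest element and a torus element. -/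
noncomputable def kc (s : Kˣ) : twistedF4 K (2 ^ m) := n1 X * h0 X s * (n1 X)⁻¹ * (h0 X s)⁻¹

theorem kc_mem (s : Kˣ) : kc X s ∈ Lc X ∧ (kc X s : GL chevF4.Idx K) ∈ chevF4.diagonalSubgroup K := by
  have hh : ((h0 X s : twistedF4 K (2 ^ m)) : GL chevF4.Idx K) ∈ chevF4.diagonalSubgroup K := h0_mem_HK X s
  refine ⟨?_, mul_mem (HK_conj X (h0_mem_HK X s)).1 (inv_mem hh)⟩
  rw [kc, show n1 X * h0 X s * (n1 X)⁻¹ * (h0 X s)⁻¹ =
    n1 X * (h0 X s * (n1 X)⁻¹ * (h0 X s)⁻¹) by group]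
  exact mul_mem (n1_mem X)
    ((Gen.tor_L X.O X.gen (hnJ X) (k1 X) hh).2.2 _ (inv_mem (n1_mem X)))

theorem res_kc (s : Kˣ) : Res.res P1 (kc X s : GL chevF4.Idx K) = Matrix.diagonal
    ![((s : K) ^ (2 * 2 ^ m))⁻¹ * ((s : K) ^ 2)⁻¹, ((s : K) ^ (2 * 2 ^ m))⁻¹,
      (s : K) ^ (2 * 2 ^ m), (s : K) ^ 2 * (s : K) ^ (2 * 2 ^ m)] := by
  obtain ⟨hn, hnb⟩ := res_n1 X
  obtain ⟨-, e24, e27, e25, -⟩ := char_tc (K := K) (m := m) s
  obtain ⟨e26, e31, e32⟩ := chars (tc m s)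
  have hbh := blk_tor P1 W1 (tc (K := K) m s)
  have hrn : Res.res P1 ((n1 X : twistedF4 K (2 ^ m)) : GL chevF4.Idx K)⁻¹ = Suzuki.swapMat := by
    have h := res_inv_left inj1 out1 hnb
    rw [hn] at h
    calc Res.res P1 ((n1 X : twistedF4 K (2 ^ m)) : GL chevF4.Idx K)⁻¹
        = Res.res P1 ((n1 X : twistedF4 K (2 ^ m)) : GL chevF4.Idx K)⁻¹ *
          (Suzuki.swapMat * Suzuki.swapMat) := by rw [Suzuki.swapMat_mul_self, mul_one]
      _ = _ := by rw [← mul_assoc, h, one_mul]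
  have hinvh : ((h0 X s : twistedF4 K (2 ^ m)) : GL chevF4.Idx K)⁻¹ = tor chevF4 (tc m s)⁻¹ := by
    rw [coe_h0, tor_inv]
  have hbn' := Res.blk_inv inj1 out1 hnb
  simp only [kc, Subgroup.coe_mul, Subgroup.coe_inv]
  rw [hinvh, coe_h0,
    Res.res_mul inj1 out1 (Res.blk_mul inj1 out1 (Res.blk_mul inj1 out1 hnb hbh) hbn') (blk_tor P1 W1 _),
    Res.res_mul inj1 out1 (Res.blk_mul inj1 out1 hnb hbh) hbn', Res.res_mul inj1 out1 hnb hbh, hn, hrn,
    res_tor inj1, res_tor inj1]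
  have hinv : ∀ r, torChar chevF4 (tc m s)⁻¹ r = (torChar chevF4 (tc m s) r)⁻¹ := fun r => by
    simp [torChar, Finset.prod_inv_distrib]
  have hP : ∀ i, torChar chevF4 (tc m s) (P1 i) = ![(s ^ (2 * 2 ^ m)), s ^ (2 * 2 ^ m) * s⁻¹, s⁻¹,
      (s⁻¹) ^ 2] i := by
    intro i
    have h26 : torChar chevF4 (tc m s) 26 = s⁻¹ := by
      rw [e26, e24, e25, sq, mul_assoc, inv_mul_cancel, mul_one]
    have h31 : torChar chevF4 (tc m s) 31 = s ^ (2 * 2 ^ m) * s⁻¹ := by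
      rw [e31, h26, e27, ← pow_mul, mul_comm, mul_comm (2 ^ m)]
    fin_cases i
    · show torChar chevF4 (tc m s) 32 = _
      rw [e32, h31, e25, inv_mul_cancel_right]; rfl
    · exact h31
    · exact h26
    · exact e24
  have hs0 := s.ne_zero
  simp only [hinv, hP, diag4]
  ext i j
  fin_cases i <;> fin_cases j <;>
    simp [Suzuki.swapMat, Matrix.mul_apply, Fin.sum_univ_four] <;> field_simp

theorem exists_R1 (hm : 1 ≤ m) {z : ℕ → Kˣ} (hz : Gen.SepZ X.O 1 z) :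
    ∃ R : Lc X →* Cfsg.Sz K m, Function.Bijective R ∧
      ∀ g : Lc X, ιS m (R g) = Res.res P1 ((g : twistedF4 K (2 ^ m)) : GL chevF4.Idx K) := by
  obtain ⟨R, hR⟩ := Res.exists_hom inj1 out1 (Lc X) (ιS (F := K) m) (ιS_inj m) fun g hg => Lc_target X hg
  obtain ⟨hn, hnb⟩ := res_n1 X
  refine ⟨R, ⟨?_, ?_⟩, hR⟩
  · rw [injective_iff_map_eq_one]
    intro g hg
    have he : Res.res P1 ((g : twistedF4 K (2 ^ m)) : GL chevF4.Idx K) = 1 := by rw [← hR, hg, map_one]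
    obtain ⟨x, hx, t, htL, htH, hcase⟩ :=
      Gen.L_form X.O X.gen (Twist.F4.hne X) (hnJ X) (k1 X) hz (n1_mem X) g.2
    obtain ⟨c, hc⟩ := (mem_H_iff hC).1 htH
    obtain ⟨a, b, rfl⟩ := (mem_XU1 X).1 hx
    have hbx : Res.Blk P1 W1 (cp X a b : GL chevF4.Idx K) := coe_cp X a b ▸ blk_cw m a b
    have hbt : Res.Blk P1 W1 (t : GL chevF4.Idx K) := hc ▸ blk_tor P1 W1 c
    rcases hcase with e | ⟨x', hx', e⟩
    · rw [e, Subgroup.coe_mul, Res.res_mul inj1 out1 hbx hbt, res_cp, hc, res_tor inj1] at he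
      have hd : ∀ i, (torChar chevF4 c (P1 i) : K) = 1 := fun i => by
        have h := congrFun (congrFun he i) i
        simp only [Matrix.mul_diagonal, Matrix.one_apply_eq] at h
        fin_cases i <;> simpa [ιS, Suzuki.tr, Suzuki.transSL, Suzuki.transMat] using h
      simp only [hd, Matrix.diagonal_one, mul_one] at he
      obtain ⟨ha, hb⟩ := Suzuki.tr_injective hK (c := 0) (d := 0) (ιS_inj m (he.trans (by
        rw [Suzuki.tr_zero, map_one])))
      subst ha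
      rw [zero_pow (by omega), zero_add] at hb
      obtain rfl : b = 0 := eq_zero_of_pow_eq_zero hb
      have ht1 : t = 1 := by
        refine eq_one_of_chars X hc ?_ ?_
        · exact Units.val_eq_one.1 (hd 3)
        · have h2 : torChar chevF4 c 26 = 1 := Units.val_eq_one.1 (hd 2)
          have h3 : torChar chevF4 c 24 = 1 := Units.val_eq_one.1 (hd 3)
          rwa [(chars c).1, h3, one_mul] at h2
      rw [cp_zero, ht1, one_mul] at e
      exact Subtype.ext e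
    · exfalso
      obtain ⟨a', b', rfl⟩ := (mem_XU1 X).1 hx'
      have hbx' : Res.Blk P1 W1 (cp X a' b' : GL chevF4.Idx K) := coe_cp X a' b' ▸ blk_cw m a' b'
      rw [e, Subgroup.coe_mul, Subgroup.coe_mul, Subgroup.coe_mul,
        Res.res_mul inj1 out1 (Res.blk_mul inj1 out1 (Res.blk_mul inj1 out1 hbx hbt) hnb) hbx',
        Res.res_mul inj1 out1 (Res.blk_mul inj1 out1 hbx hbt) hnb, Res.res_mul inj1 out1 hbx hbt, hn,
        res_cp, res_cp, hc, res_tor inj1] at he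
      have h := congrFun (congrFun he 3) 0
      simp [ιS, Suzuki.tr, Suzuki.transSL, Suzuki.transMat, Suzuki.swapMat, Matrix.mul_apply,
        Fin.sum_univ_four, Matrix.vecMul, dotProduct, diag4] at h
  · have htr : ∀ a b, Suzuki.tr hK a b ∈ R.range := fun a b => by
      obtain ⟨u, hu⟩ := Suzuki.exists_theta hK (b + a ^ (2 * 2 ^ m + 1))
      refine ⟨⟨cp X a u, cp_mem X a u⟩, ιS_inj m ?_⟩
      rw [hR, res_cp]
      congr 2
      rw [Suzuki.theta_def, show (2 : ℕ) ^ (m + 1) = 2 * 2 ^ m by ring] at hu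
      rw [hu, add_left_comm, _root_.CharTwo.add_self_eq_zero, add_zero]
    have hsw : Suzuki.sw hK ∈ R.range := ⟨⟨n1 X, n1_mem X⟩, ιS_inj m (by rw [hR, hn]; rfl)⟩
    have htor : ∀ u, Suzuki.tor hK u ∈ R.range := fun u => by
      obtain ⟨w, hw⟩ := Suzuki.exists_theta hK ((u⁻¹ : Kˣ) : K)
      have hw0 : w ≠ 0 := fun h => by rw [h, map_zero] at hw; exact Units.ne_zero _ hw.symm
      obtain ⟨s, rfl⟩ : ∃ s : Kˣ, (s : K) = w := ⟨Units.mk0 w hw0, rfl⟩
      have hus : u = ((s ^ (2 * 2 ^ m))⁻¹ : Kˣ) := by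
        refine inv_injective (Units.ext ?_)
        rw [inv_inv, ← hw, Suzuki.theta_def, Units.val_pow_eq_pow_val, pow_succ']
      refine ⟨⟨_, (kc_mem X s).1⟩, ιS_inj m ?_⟩
      rw [hR, res_kc]
      show _ = Suzuki.torusMat m u
      have hq : s ^ (2 * (2 ^ m * 2 ^ m)) = s :=
        Units.ext (by rw [Units.val_pow_eq_pow_val, pow_q hK])
      have hu0 : u ^ 2 ^ (m + 1) * u = (s ^ (2 * 2 ^ m))⁻¹ * (s ^ 2)⁻¹ := by
        rw [hus, inv_pow, ← pow_mul,
          show 2 * 2 ^ m * 2 ^ (m + 1) = 2 * (2 ^ m * 2 ^ m) * 2 by ring, pow_mul, hq, mul_comm]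
      have h0 : (u : K) ^ 2 ^ (m + 1) * u = ((s : K) ^ (2 * 2 ^ m))⁻¹ * ((s : K) ^ 2)⁻¹ := by
        simpa using congrArg Units.val hu0
      have h1 : (u : K) = ((s : K) ^ (2 * 2 ^ m))⁻¹ := by simpa using congrArg Units.val hus
      rw [Suzuki.torusMat, h0, h1, inv_inv]
      congr 1
      funext i
      fin_cases i
      · rfl
      · rfl
      · rfl
      · simp [mul_comm]
    intro h
    have : h ∈ R.range := by
      rcases Suzuki.bruhat hm hK h with ⟨a, b, s, rfl⟩ | ⟨a, b, c, d, s, rfl⟩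
      · exact mul_mem (htr _ _) (htor _)
      · exact mul_mem (mul_mem (htr _ _) hsw) (mul_mem (htr _ _) (htor _))
    exact this

end Cfsg.Agent.TwistMult.F4
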