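import Cfsg.Agent.Lib.Chevalley.Twist.InvolF4

/-!
Certificates for the layers of the unipotent group of the large Ree groups.
-/

set_option autoImplicit false
set_option linter.unusedSectionVars false

namespace Cfsg.Agent.TwistMult.F4

open Cfsg.Lie Cfsg.Agent.Chevalley Cfsg.Agent.Chevalley.Table Cfsg.Agent.Chevalley.Cert
  Cfsg.Agent.Chevalley.Group Cfsg.Agent.Chevalley.Unip Cfsg.Agent.Chevalley.Borel
  Cfsg.Agent.Chevalley.Twist Cfsg.Agent.Chevalley.Twist.F4 Cfsg.Agent.Chevalley.Twist.F4.Collect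
  Cfsg.Agent.Chevalley.Twist.F4.Invol
open scoped commutatorElement

attribute [local irreducible] xg Po

/-- The first position of the class of a layer. -/
abbrev base : List ℕ := [0, 20, 2, 20, 8, 14, 2, 18, 6, 12, 14, 8]

/-- The kind of a layer: a pair, the first part of a class, the central part of a class. -/
abbrev kind : List ℕ := [0, 1, 1, 2, 1, 1, 2, 0, 0, 0, 2, 2]

/-- The primary position of a layer. -/
abbrev prim : List ℕ := [0, 21, 3, 22, 9, 15, 4, 18, 6, 12, 16, 10]

/-- The word of a layer element with given parameter polynomials. -/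
def lwp (k : ℕ) (p p' : Poly) : Word :=
  let i := base.getD k 0
  if kind.getD k 0 = 0 then [(i, p), (i + 1, p')]
  else if kind.getD k 0 = 1 then [(i, p'), (i + 1, p), (i + 2, mulP p p')]
  else [(i + 2, p), (i + 3, p')]

/-- The word of a layer element on the variables from `j`. -/
def lw (k j : ℕ) : Word := lwp k [[j]] [[j + 1]]

/-- The primary coordinates up to a layer vanish. -/
def zps (k : ℕ) : List (ℕ × Poly) := (List.range (k + 1)).map fun l => (prim.getD l 0, [])

theorem comm_ok : ∀ i < 12, ∀ j < 12,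
    chk (lw i 0 ++ lw j 2 ++ (lw i 0).reverse ++ (lw j 2).reverse) (zps (max i j)) = true := by
  decide +kernel

theorem add_ok : ∀ k < 12,
    chk (lwp k [[0], [2]] [[1], [3]] ++ (lw k 2).reverse ++ (lw k 0).reverse) (zps k) = true := by
  decide +kernel

/-- A cartan entry at a position. -/
def ca (i p : ℕ) : ℤ := chevF4.cartan i (ord.getD p 0)

theorem rel_pair : ∀ rr ∈ [(0, 1), (6, 7), (12, 13), (18, 19), (3, 2), (9, 8), (15, 14), (21, 20), (5, 4),
    (11, 10), (17, 16), (23, 22)], rr.1 < 24 ∧ rr.2 < 24 ∧ ca 0 rr.2 = ca 3 rr.1 ∧ ca 1 rr.2 = ca 2 rr.1 ∧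
      ca 0 rr.1 = 2 * ca 3 rr.2 ∧ ca 1 rr.1 = 2 * ca 2 rr.2 := by
  unfold ca
  decide +kernel

theorem rel_sum : ∀ i ∈ [2, 8, 14, 20], ∀ j < 4, ca j (i + 2) = ca j i + ca j (i + 1) := by
  unfold ca
  decide +kernel

theorem ord_lt : ∀ p < 24, ord.getD p 0 < chevF4.nroots := by decide +kernel

/-- The norm of a linear exponent is a power of two. -/
def normChk (u v : ℤ) : Bool := ([0, 1, 2, 3, 4, 5] : List ℕ).any fun j => Nat.beq (2 * u * u - v * v).natAbs (2 ^ j)

theorem weight_ok : ∀ k < 12,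
    (normChk (ca 3 (prim.getD k 0)) (ca 0 (prim.getD k 0)) ||
      normChk (ca 2 (prim.getD k 0)) (ca 1 (prim.getD k 0))) = true := by
  unfold normChk ca
  decide +kernel

theorem pos_ok : ∀ i < 12, chk (lw i 0) [] = true := by decide +kernel

theorem same_add_ok : ∀ k ∈ [6, 10, 11],
    Collect.same (lwp k [[0], [2]] [[1], [3]]) (lw k 0 ++ lw k 2) = true := by decide +kernel

theorem kill_ok :
    Collect.same (lwp 0 [[]] [[]] ++ lw 10 2 ++ (lwp 0 [[]] [[]]).reverse ++ (lw 10 2).reverse) (lw 11 2) = true ∧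
    Collect.same (lw 4 0 ++ lwp 0 [[]] [[]] ++ (lw 4 0).reverse ++ (lwp 0 [[]] [[]]).reverse) (lwp 6 [[1]] [[0]]) = true ∧
    ∀ ij ∈ [(4, 10), (4, 11), (6, 10), (6, 11), (1, 3)], Collect.same (lw ij.1 0 ++ lw ij.2 2) (lw ij.2 2 ++ lw ij.1 0) = true := by
  decide +kernel

/-- The classes with their first parts, central parts and the word moving the simple class to them. -/
abbrev classes : List (ℕ × ℕ × List ℕ) := [(1, 3, []), (2, 6, [0]), (4, 11, [0, 1, 0]), (5, 10, [1, 0])]

theorem map_ok : ∀ c ∈ classes,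
    mapChk c.2.2 (lw 1 0) (lw c.1 0) = true ∧ mapChk c.2.2 (lw 3 2) (lw c.2.1 2) = true := by
  decide +kernel

/-- The two parts of one class. -/
abbrev same : List (ℕ × ℕ) := [(1, 3), (2, 6), (4, 11), (5, 10)]

/-- The determinant of two layer weights, reduced. -/
def det (a b : ℕ) : ℤ × ℤ :=
  (ca 0 b * ca 1 a - ca 1 b * ca 0 a + 2 * (ca 3 b * ca 2 a - ca 2 b * ca 3 a),
    2 * (ca 0 b * ca 2 a + ca 3 b * ca 1 a - ca 1 b * ca 3 a - ca 2 b * ca 0 a))

theorem det_ok : ∀ k < 12, ∀ i < k, (i, k) ∈ same ∨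
    normChk (det (prim.getD i 0) (prim.getD k 0)).1 (det (prim.getD i 0) (prim.getD k 0)).2 = true := by
  unfold normChk det ca
  decide +kernel

end Cfsg.Agent.TwistMult.F4
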