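import Cfsg.Agent.Lib.TwistMult.F4Class

/-!
The rank one subgroup of the pair orbit of a large Ree group.
-/

set_option autoImplicit false
set_option linter.unusedSectionVars false

open scoped Matrix MatrixGroups

namespace Cfsg.Agent.TwistMult.F4

open Cfsg.Lie Cfsg.Agent.Chevalley Cfsg.Agent.Chevalley.Table Cfsg.Agent.Chevalley.Cert
  Cfsg.Agent.Chevalley.Group Cfsg.Agent.Chevalley.Borel Cfsg.Agent.Chevalley.Bruhat
  Cfsg.Agent.Chevalley.Weyl Cfsg.Agent.Chevalley.NormalForm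
  Cfsg.Agent.Chevalley.Twist Cfsg.Agent.Chevalley.Twist.F4

variable {K : Type*} [Field K] [Fintype K] [CharP K 2] {m : ℕ}
  {hK : Fintype.card K = 2 ^ (2 * m + 1)} (X : Setup (K := K) (m := m) hK)
include X

theorem res_x0 (t : K) : Res.res P0 (x0 X t : GL chevF4.Idx K) = !![1, t; 0, 1] ∧
    Res.Blk P0 [] (x0 X t : GL chevF4.Idx K) := by
  have e : (x0 X t : GL chevF4.Idx K) = xg hC 24 t * xg hC 33 (t ^ 2 ^ m) := by
    rw [coe_x0]
    obtain ⟨h0, -, -, h3, -⟩ := roots_ok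
    simp [opr, h0, h3, em0, em3]
  rw [e]
  exact ⟨(res_pair _ t).1, (res_pair _ t).2.2.1⟩

theorem res_y0 (t : K) : Res.res P0 (y0 X t : GL chevF4.Idx K) = !![1, 0; t, 1] ∧
    Res.Blk P0 [] (y0 X t : GL chevF4.Idx K) := by
  have e : (y0 X t : GL chevF4.Idx K) = xg hC 23 t * xg hC 14 (t ^ 2 ^ m) := by
    rw [coe_y0]
    obtain ⟨h0, -, -, h3, -, -, -, -, h14, h23, -⟩ := roots_ok
    simp [opr, h0, h3, h14, h23, em0, em3]
  rw [e]
  exact ⟨(res_pair _ t).2.1, (res_pair _ t).2.2.2⟩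

theorem res_n0 : Res.res P0 (nK X.O (hnJ X) (k0 X) : GL chevF4.Idx K) = !![0, 1; 1, 0] ∧
    Res.Blk P0 [] (nK X.O (hnJ X) (k0 X) : GL chevF4.Idx K) := by
  rw [← w0_eq X, w0]
  simp only [Subgroup.coe_mul, inv_one]
  obtain ⟨h1, b1⟩ := res_x0 X (1 : K)
  obtain ⟨h2, b2⟩ := res_y0 X (1 : K)
  refine ⟨?_, Res.blk_mul inj0 out0 (Res.blk_mul inj0 out0 b1 b2) b1⟩
  rw [Res.res_mul inj0 out0 (Res.blk_mul inj0 out0 b1 b2) b1, Res.res_mul inj0 out0 b1 b2, h1, h2]
  ext i j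
  fin_cases i <;> fin_cases j <;>
    simp [Matrix.mul_apply, Fin.sum_univ_two, _root_.CharTwo.add_self_eq_zero]

theorem exists_R0 {z : ℕ → Kˣ} (hz : Gen.SepZ X.O 0 z) :
    ∃ R : Lp X →* SL(2, K), Function.Bijective R ∧
      ∀ g : Lp X, ι2 K (R g) = Res.res P0 ((g : twistedF4 K (2 ^ m)) : GL chevF4.Idx K) := by
  have hle : Lp X ≤ (Res.target inj0 out0 (ι2 K)).subgroupOf (twistedF4 K (2 ^ m)) := by
    refine sup_le (fun x hx => ?_) (fun x hx => ?_)
    · obtain ⟨t, rfl⟩ := (mem_XU0 X).1 hx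
      exact ⟨(res_x0 X t).2, ⟨!![1, t; 0, 1], by simp [Matrix.det_fin_two]⟩, (res_x0 X t).1.symm⟩
    · obtain ⟨t, rfl⟩ := (mem_XV0 X).1 hx
      exact ⟨(res_y0 X t).2, ⟨!![1, 0; t, 1], by simp [Matrix.det_fin_two]⟩, (res_y0 X t).1.symm⟩
  obtain ⟨R, hR⟩ := Res.exists_hom inj0 out0 (Lp X) (ι2 K) (ι2_inj K) fun g hg => hle hg
  refine ⟨R, ⟨?_, ?_⟩, hR⟩
  · rw [injective_iff_map_eq_one]
    intro g hg
    have he : Res.res P0 ((g : twistedF4 K (2 ^ m)) : GL chevF4.Idx K) = 1 := by rw [← hR, hg, map_one]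
    obtain ⟨x, hx, t, htL, htH, hcase⟩ :=
      Gen.L_form X.O X.gen (Twist.F4.hne X) (hnJ X) (k0 X) hz (n0_mem X) g.2
    obtain ⟨c, hc⟩ := (mem_H_iff hC).1 htH
    obtain ⟨a, rfl⟩ := (mem_XU0 X).1 hx
    obtain ⟨hrx, hbx⟩ := res_x0 X a
    have hbt : Res.Blk P0 [] (t : GL chevF4.Idx K) := hc ▸ blk_tor P0 [] c
    have hdt : Res.res P0 (t : GL chevF4.Idx K) =
        !![(torChar chevF4 c 26 : K), 0; 0, (torChar chevF4 c 25 : K)] := by
      rw [hc, res_tor inj0]
      ext i j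
      fin_cases i <;> fin_cases j <;> simp [P0]
    rcases hcase with e | ⟨x', hx', e⟩
    · rw [e, Subgroup.coe_mul, Res.res_mul inj0 out0 hbx hbt, hrx, hdt] at he
      have h00 := congrFun (congrFun he 0) 0
      have h01 := congrFun (congrFun he 0) 1
      have h11 := congrFun (congrFun he 1) 1
      simp [Matrix.mul_apply, Fin.sum_univ_two] at h00 h01 h11
      have h26 : torChar chevF4 c 26 = 1 := h00
      have h25 : torChar chevF4 c 25 = 1 := h11
      have ha : a = 0 := by simpa using h01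
      have ht1 : t = 1 := eq_one_of_chars X hc (by
        have h := (chars c).1
        rw [h26, h25, mul_one] at h
        exact h.symm) h25
      have hx0 : x0 X (0 : K) = 1 := by
        have h := x0_add X (0 : K) 0
        rw [add_zero] at h
        exact mul_eq_left.1 h.symm
      rw [ha, hx0, ht1, one_mul] at e
      exact Subtype.ext e
    · exfalso
      obtain ⟨a', rfl⟩ := (mem_XU0 X).1 hx'
      obtain ⟨hn, hnb⟩ := res_n0 X
      obtain ⟨hrx', hbx'⟩ := res_x0 X a'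
      rw [e, Subgroup.coe_mul, Subgroup.coe_mul, Subgroup.coe_mul,
        Res.res_mul inj0 out0 (Res.blk_mul inj0 out0 (Res.blk_mul inj0 out0 hbx hbt) hnb) hbx',
        Res.res_mul inj0 out0 (Res.blk_mul inj0 out0 hbx hbt) hnb, Res.res_mul inj0 out0 hbx hbt, hn,
        hrx, hrx', hdt] at he
      have h := congrFun (congrFun he 1) 0
      simp [Matrix.mul_apply, Fin.sum_univ_two] at h
  · refine MonoidHom.range_eq_top.1 (Classical.Linear.eq_top_of_transvection_mem _ fun i j hij c => ?_)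
    fin_cases i <;> fin_cases j
    · exact absurd rfl hij
    · refine ⟨⟨x0 X c, x0_mem X c⟩, ι2_inj K ?_⟩
      rw [hR, (res_x0 X c).1]
      ext a b
      fin_cases a <;> fin_cases b <;> simp [ι2, Matrix.SpecialLinearGroup.transvection, Matrix.transvection]
    · refine ⟨⟨y0 X c, y0_mem X c⟩, ι2_inj K ?_⟩
      rw [hR, (res_y0 X c).1]
      ext a b
      fin_cases a <;> fin_cases b <;> simp [ι2, Matrix.SpecialLinearGroup.transvection, Matrix.transvection]
    · exact absurd rfl hij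

end Cfsg.Agent.TwistMult.F4
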