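import Cfsg.Agent.Lib.TwistMult.F4Series
import Cfsg.Agent.Lib.Suzuki.Multiplier
import Cfsg.Agent.Lib.LieLocalChar.TwistExc

/-!
The complement over a Sylow two-subgroup of a large Ree group of type F4.
-/

set_option autoImplicit false
set_option linter.unusedSectionVars false

namespace Cfsg.Agent.TwistMult.F4

open Cfsg.Lie Cfsg.Agent.Chevalley Cfsg.Agent.Chevalley.Table Cfsg.Agent.Chevalley.Cert
  Cfsg.Agent.Chevalley.Group Cfsg.Agent.Chevalley.Unip Cfsg.Agent.Chevalley.Borel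
  Cfsg.Agent.Chevalley.Twist Cfsg.Agent.Chevalley.Twist.F4 Cfsg.Agent.Chevalley.Twist.F4.Collect
  Cfsg.Agent.Chevalley.Twist.F4.Invol Cfsg.Agent.Chevalley.Cover
open scoped commutatorElement

attribute [local irreducible] xg Po

variable {K : Type*} [Field K] [Fintype K] [CharP K 2] {m : ℕ}

/-- A unit killed by a power of two is trivial in characteristic two. -/
theorem eq_one_of_two_pow {a : Kˣ} {j : ℕ} (h : a ^ 2 ^ j = 1) : a = 1 := by
  haveI : Fact (Nat.Prime 2) := ⟨Nat.prime_two⟩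
  refine Units.ext ((iterateFrobenius_inj K 2 j) ?_)
  rw [iterateFrobenius_def, iterateFrobenius_def, Units.val_one, one_pow, ← Units.val_pow_eq_pow_val, h,
    Units.val_one]

/-- A linear exponent whose norm is a power of two is invertible on the units. -/
theorem eq_one_of_norm (hK : Fintype.card K = 2 ^ (2 * m + 1)) {a : Kˣ} {u v : ℤ}
    (h : normChk u v = true) (ha : a ^ (u + v * 2 ^ m) = 1) : a = 1 := by
  obtain ⟨j, -, hj⟩ := List.any_eq_true.1 h
  have hj' := Nat.eq_of_beq_eq_true hj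
  have h1 : a ^ ((u + v * 2 ^ m) * (2 * (u - v * 2 ^ m))) = 1 := by rw [zpow_mul, ha, one_zpow]
  rw [show (u + v * 2 ^ m) * (2 * (u - v * 2 ^ m)) =
    2 * u * u - 2 * (2 ^ m * 2 ^ m) * (v * v) by ring, zpow_sub, zpow_q hK, ← zpow_sub] at h1
  refine eq_one_of_two_pow (j := j) ?_
  rw [← hj']
  rcases Int.natAbs_eq (2 * u * u - v * v) with e | e
  · rw [← zpow_natCast, ← e, h1]
  · rw [← zpow_natCast, show ((2 * u * u - v * v).natAbs : ℤ) = -(2 * u * u - v * v) by omega, zpow_neg, h1,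
      inv_one]

theorem exists_unit_ne_one (hK : Fintype.card K = 2 ^ (2 * m + 1)) (hm : 1 ≤ m) : ∃ a : Kˣ, a ≠ 1 := by
  obtain ⟨x, hx0, hx1, -⟩ := exists_pow_e_ne hm hK
  exact ⟨Units.mk0 x hx0, fun h => hx1 (congrArg Units.val h)⟩

/-- Every scalar is the action of a torus element on a layer. -/
theorem chi_surj (hK : Fintype.card K = 2 ^ (2 * m + 1)) {k : ℕ} (hk : k < 12) (w : Kˣ) :
    ∃ xy, chi m (prim.getD k 0) xy = w := by
  have hroot : ∀ a b : ℤ, normChk b a = true → ∃ x : Kˣ, x ^ ((2 : ℤ) ^ m * a + b) = w := by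
    intro a b h
    have hinj : Function.Injective (zpowGroupHom ((2 : ℤ) ^ m * a + b) : Kˣ →* Kˣ) := by
      rw [injective_iff_map_eq_one]
      intro x hx
      refine eq_one_of_norm hK h ?_
      rw [← hx, zpowGroupHom_apply, show b + a * 2 ^ m = 2 ^ m * a + b by ring]
    exact Finite.injective_iff_surjective.1 hinj w
  rcases Bool.or_eq_true _ _ ▸ weight_ok k hk with h | h
  · obtain ⟨x, hx⟩ := hroot _ _ h
    exact ⟨(x, 1), by rw [chi, one_zpow, mul_one]; exact hx⟩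
  · obtain ⟨x, hx⟩ := hroot _ _ h
    exact ⟨(1, x), by rw [chi, one_zpow, one_mul]; exact hx⟩

/-- A witness that inversion is not additive. -/
theorem inv_witness (hK : Fintype.card K = 2 ^ (2 * m + 1)) (hm : 1 ≤ m) :
    ∃ w₁ w₂ : K, w₁ ≠ 0 ∧ w₂ ≠ 0 ∧ w₁ + w₂ ≠ 0 ∧ w₁⁻¹ + w₂⁻¹ ≠ 0 ∧ (w₁ + w₂)⁻¹ ≠ w₁⁻¹ + w₂⁻¹ := by
  classical
  obtain ⟨w, hw⟩ : ∃ w : K, w ∉ (({0, 1} : Finset K) ∪
      ((Polynomial.X ^ 2 + Polynomial.X + 1 : Polynomial K).roots.toFinset)) := by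
    by_contra hcon
    push Not at hcon
    have h1 := Finset.card_le_card (s := Finset.univ) fun x _ => hcon x
    have h2 : (Polynomial.X ^ 2 + Polynomial.X + 1 : Polynomial K).natDegree ≤ 2 := by
      compute_degree
    have h3 := (Polynomial.X ^ 2 + Polynomial.X + 1 : Polynomial K).roots.toFinset_card_le
    have h4 := (Polynomial.X ^ 2 + Polynomial.X + 1 : Polynomial K).card_roots'
    rw [Finset.card_univ, hK] at h1
    have h5 := Finset.card_union_le ({0, 1} : Finset K)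
      (Polynomial.X ^ 2 + Polynomial.X + 1 : Polynomial K).roots.toFinset
    have h6 : ({0, 1} : Finset K).card ≤ 2 := Finset.card_le_two
    have h7 : 2 ^ 3 ≤ 2 ^ (2 * m + 1) := Nat.pow_le_pow_right two_pos (by omega)
    omega
  simp only [Finset.mem_union, Finset.mem_insert, Finset.mem_singleton, Multiset.mem_toFinset,
    not_or] at hw
  obtain ⟨⟨hw0, hw1⟩, hwr⟩ := hw
  have hne : w ^ 2 + w + 1 ≠ 0 := by
    intro h
    apply hwr
    rw [Polynomial.mem_roots', Polynomial.IsRoot.def]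
    refine ⟨fun hz => ?_, by simpa using h⟩
    have := congrArg (Polynomial.coeff · 0) hz
    simp at this
  refine ⟨w, 1, hw0, one_ne_zero, fun h => hw1 (_root_.CharTwo.add_eq_zero.1 h), ?_, ?_⟩
  · rw [inv_one]
    intro h
    exact hw1 (inv_eq_one.1 (_root_.CharTwo.add_eq_zero.1 h))
  · rw [inv_one]
    intro h
    have hw1' : w + 1 ≠ 0 := fun h => hw1 (_root_.CharTwo.add_eq_zero.1 h)
    field_simp at h
    apply hne
    linear_combination -h

/-- A witness that the weight between the two parts of a class is not additive. -/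
theorem mixed_witness (hK : Fintype.card K = 2 ^ (2 * m + 1)) (hm : 2 ≤ m) :
    ∃ w₁ w₂ : K, w₁ ≠ 0 ∧ w₂ ≠ 0 ∧ w₁ + w₂ ≠ 0 ∧
      (w₁ ^ (2 ^ m + 1))⁻¹ + (w₂ ^ (2 ^ m + 1))⁻¹ ≠ 0 ∧
      ((w₁ + w₂) ^ (2 ^ m + 1))⁻¹ ≠ (w₁ ^ (2 ^ m + 1))⁻¹ + (w₂ ^ (2 ^ m + 1))⁻¹ := by
  classical
  haveI : Fact (Nat.Prime 2) := ⟨Nat.prime_two⟩
  set r := 2 ^ m with hr
  have hr4 : 4 ≤ r := by
    rw [hr]
    calc 4 = 2 ^ 2 := rfl
      _ ≤ _ := Nat.pow_le_pow_right two_pos hm
  open Polynomial in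
  set P : K[X] := X ^ (2 * r + 2) + X ^ (2 * r + 1) + X ^ (r + 2) + X ^ (r + 1) + X ^ r + X + 1 with hP
  have hdeg : P.natDegree ≤ 2 * r + 2 := by
    rw [hP]
    compute_degree <;> omega
  have hP0 : P ≠ 0 := fun h => by
    have := congrArg (Polynomial.coeff · 0) h
    simp [hP, Polynomial.coeff_X_pow, Polynomial.coeff_X, show 0 ≠ r by omega] at this
  obtain ⟨w, hw⟩ : ∃ w : K, w ∉ ({0, 1} : Finset K) ∪ P.roots.toFinset := by
    by_contra hcon
    push Not at hcon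
    have h1 := Finset.card_le_card (s := Finset.univ) fun x _ => hcon x
    have h3 := P.roots.toFinset_card_le
    have h4 := P.card_roots'
    rw [Finset.card_univ, hK] at h1
    have h5 := Finset.card_union_le ({0, 1} : Finset K) P.roots.toFinset
    have h6 : ({0, 1} : Finset K).card ≤ 2 := Finset.card_le_two
    have h7 : 2 ^ (2 * m + 1) = 2 * (r * r) := by rw [hr, ← pow_add, ← pow_succ']; ring_nf
    have h8 : 4 * r ≤ r * r := Nat.mul_le_mul_right r hr4
    omega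
  simp only [Finset.mem_union, Finset.mem_insert, Finset.mem_singleton, Multiset.mem_toFinset,
    not_or] at hw
  obtain ⟨⟨hw0, hw1⟩, hwr⟩ := hw
  obtain ⟨v, hv⟩ : ∃ v, v = w ^ r := ⟨_, rfl⟩
  have hne : w ^ 2 * v ^ 2 + w * v ^ 2 + w ^ 2 * v + w * v + v + w + 1 ≠ 0 := by
    intro h
    apply hwr
    rw [Polynomial.mem_roots', Polynomial.IsRoot.def]
    refine ⟨hP0, ?_⟩
    simp only [hP, Polynomial.eval_add, Polynomial.eval_pow, Polynomial.eval_X, Polynomial.eval_one]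
    rw [hv] at h
    linear_combination h
  have hw1' : w + 1 ≠ 0 := fun h => hw1 (_root_.CharTwo.add_eq_zero.1 h)
  have hv1 : v + 1 ≠ 0 := by
    rw [hv, show (1 : K) = 1 ^ r from (one_pow r).symm, hr, ← add_pow_char_pow w 1 2 m]
    exact pow_ne_zero _ hw1'
  have hv0 : v ≠ 0 := hv ▸ pow_ne_zero _ hw0
  refine ⟨w, 1, hw0, one_ne_zero, hw1', ?_, ?_⟩
  · rw [one_pow, inv_one]
    intro h
    have h1 : w ^ (r + 1) = 1 := inv_eq_one.1 (_root_.CharTwo.add_eq_zero.1 h)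
    have h2 := eq_one_of_norm hK (a := Units.mk0 w hw0) (u := 1) (v := 1) (by decide) (by
      rw [show (1 : ℤ) + 1 * 2 ^ m = ((r + 1 : ℕ) : ℤ) by rw [hr]; push_cast; ring, zpow_natCast]
      exact Units.ext h1)
    exact hw1 (congrArg Units.val h2)
  · rw [one_pow, inv_one, pow_succ, pow_succ, show (w + 1) ^ r = v + 1 by
      rw [hv, hr, add_pow_char_pow w 1 2 m, one_pow], ← hv]
    intro h
    field_simp at h
    apply hne
    have h2 : (2 : K) = 0 := _root_.CharTwo.two_eq_zero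
    linear_combination h + (w * v + v + w + 1 + w ^ 2 * v ^ 2 + w * v ^ 2 + w ^ 2 * v) * h2

variable {hK : Fintype.card K = 2 ^ (2 * m + 1)} (X : Setup (K := K) (m := m) hK)

/-- The weight of a layer. -/
def wt (m k : ℕ) (xy : Kˣ × Kˣ) : K := (chi m (prim.getD k 0) xy : K)

theorem noInv_same (hK : Fintype.card K = 2 ^ (2 * m + 1)) (hm : 1 ≤ m) {k : ℕ} (hk : k < 12) :
    NoInv (wt (K := K) m k) (wt m k) := by
  intro A _ B hl hr hinv
  refine Suzuki.Multiplier.pairing_eq_one B (fun w => w⁻¹) hl hr (fun x w hw => ?_)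
    (fun y hy => ⟨y⁻¹, inv_ne_zero hy, inv_inv y⟩) (inv_witness hK hm)
  obtain ⟨xy, h⟩ := chi_surj hK hk (Units.mk0 w hw)
  have e := hinv xy x w⁻¹
  rw [wt, h, Units.val_mk0, mul_inv_cancel₀ hw, mul_comm] at e
  exact e.symm

theorem noInv_class (hK : Fintype.card K = 2 ^ (2 * m + 1)) (hm : 2 ≤ m) {i k : ℕ}
    (h : (i, k) ∈ TwistMult.F4.same) : NoInv (wt (K := K) m i) (wt m k) := by
  obtain ⟨p, hp, ei, ek, hik, hlt⟩ : ∃ p, p ∈ [2, 8, 14, 20] ∧ prim.getD i 0 = p + 1 ∧ prim.getD k 0 = p + 2 ∧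
      i < 12 ∧ (p + 1, p) ∈ [(0, 1), (6, 7), (12, 13), (18, 19), (3, 2), (9, 8), (15, 14), (21, 20), (5, 4),
        (11, 10), (17, 16), (23, 22)] := by
    simp only [TwistMult.F4.same, List.mem_cons, List.not_mem_nil, or_false, Prod.mk.injEq] at h
    rcases h with ⟨rfl, rfl⟩ | ⟨rfl, rfl⟩ | ⟨rfl, rfl⟩ | ⟨rfl, rfl⟩
    exacts [⟨20, by decide⟩, ⟨2, by decide⟩, ⟨8, by decide⟩, ⟨14, by decide⟩]
  intro A _ B hl hr hinv
  refine Suzuki.Multiplier.pairing_eq_one B (fun w => (w ^ (2 ^ m + 1))⁻¹) hl hr (fun x w hw => ?_)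
    (fun y hy => ?_) (mixed_witness hK hm)
  · obtain ⟨xy, h⟩ := chi_surj hK hik (Units.mk0 w hw)
    have e := hinv xy x (w ^ (2 ^ m + 1))⁻¹
    rw [wt, h, wt, ek, chi_sum hp, (chi_pow hK hlt xy).1, ← ei, h, ← pow_succ, Units.val_pow_eq_pow_val,
      Units.val_mk0, mul_inv_cancel₀ (pow_ne_zero _ hw), mul_comm] at e
    exact e.symm
  · obtain ⟨s, hs⟩ := exists_root_succ hK (inv_ne_zero hy)
    refine ⟨s, s.ne_zero, ?_⟩
    rw [pow_succ, ← Units.val_pow_eq_pow_val, ← Units.val_mul, hs, inv_inv]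

theorem noInv_cross (hK : Fintype.card K = 2 ^ (2 * m + 1)) (hm : 1 ≤ m) {i k : ℕ} (hik : i < k)
    (hk : k < 12) (h : (i, k) ∉ TwistMult.F4.same) : NoInv (wt (K := K) m i) (wt m k) := by
  intro A _ B hl hr hinv
  obtain ⟨a, ha⟩ := exists_unit_ne_one hK hm
  obtain ⟨pi, hpi⟩ : ∃ pi, pi = prim.getD i 0 := ⟨_, rfl⟩
  obtain ⟨pk, hpk⟩ : ∃ pk, pk = prim.getD k 0 := ⟨_, rfl⟩
  obtain ⟨xy, hxy⟩ : ∃ xy : Kˣ × Kˣ, xy = (a ^ (ex m pi).2, a ^ (-(ex m pi).1)) := ⟨_, rfl⟩
  have h1 : chi m pi xy = 1 := by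
    rw [hxy, chi, ← zpow_mul, ← zpow_mul, ← zpow_add, show (ex m pi).2 * (ex m pi).1 +
      -(ex m pi).1 * (ex m pi).2 = 0 by ring, zpow_zero]
  have h2 : (chi m pk xy : K) ≠ 1 := by
    intro e
    have e' : chi m pk xy = 1 := Units.ext e
    rw [hxy, chi, ← zpow_mul, ← zpow_mul, ← zpow_add] at e'
    have hn := (det_ok k hk i hik).resolve_left h
    rw [← hpi, ← hpk] at hn
    refine ha (eq_one_of_norm hK hn ?_)
    have e2 : a ^ (2 * ((ex m pi).2 * (ex m pk).1 + -(ex m pi).1 * (ex m pk).2)) = 1 := by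
      rw [mul_comm, zpow_mul, e', one_zpow]
    rw [show 2 * ((ex m pi).2 * (ex m pk).1 + -(ex m pi).1 * (ex m pk).2) =
        2 * ((2 : ℤ) ^ m * 2 ^ m) * (ca 0 pk * ca 1 pi - ca 1 pk * ca 0 pi) +
          ((det pi pk).1 + (det pi pk).2 * 2 ^ m - (ca 0 pk * ca 1 pi - ca 1 pk * ca 0 pi)) by
      simp only [ex, det]; ring, zpow_add, zpow_q hK, ← zpow_add, add_sub_cancel] at e2
    exact e2
  intro x y
  have e1 : ∀ y, B x ((wt m k xy - 1) * y) = 1 := fun y => by
    have e := hinv xy x y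
    rw [show wt (K := K) m i xy = 1 by rw [wt, ← hpi, h1, Units.val_one], one_mul] at e
    have e' := hr x ((wt m k xy - 1) * y) y
    rw [show (wt m k xy - 1) * y + y = wt m k xy * y by ring, e] at e'
    exact right_eq_mul.1 e'
  have hne : wt (K := K) m k xy - 1 ≠ 0 := sub_ne_zero.2 (by rw [wt, ← hpk]; exact h2)
  have := e1 (y / (wt m k xy - 1))
  rwa [mul_div_cancel₀ _ hne] at this

include X

theorem cj_eq (v : ℕ → K) {ks : List ℕ} {w w' : Word} (h : mapChk ks w w' = true) :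
    nL hC K (ks.flatMap fun a => Js.getD a []) * wev v w * (nL hC K (ks.flatMap fun a => Js.getD a []))⁻¹ =
      wev v w' := by
  simp only [mapChk, Bool.and_eq_true, List.all_eq_true, decide_eq_true_eq] at h
  obtain ⟨h1, h2, h3⟩ := h
  rw [← same_spec v h3]
  clear h3
  obtain ⟨L, hL⟩ : ∃ L, L = ks.flatMap fun a => Js.getD a [] := ⟨_, rfl⟩
  have hlt : ∀ i ∈ L, i < chevF4.rank := by
    intro i hi
    obtain ⟨a, ha, hia⟩ := List.mem_flatMap.1 (hL ▸ hi)
    have hJ : ∀ a < 2, ∀ i ∈ Js.getD a [], i < chevF4.rank := by decide +kernel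
    exact hJ a (h2 a ha) i hia
  induction w with
  | nil => simp [wev_nil, mapW]
  | cons x w ih =>
    obtain ⟨hx, hm⟩ := h1 x List.mem_cons_self
    rw [show mapW ks (x :: w) = (ord.idxOf (wL chevF4 (ks.flatMap fun a => Js.getD a []) (ord.getD x.1 0)), x.2) ::
      mapW ks w from rfl, wev_cons, wev_cons, ← ih fun y hy => h1 y (List.mem_cons_of_mem x hy)]
    simp only [xo, ← hL] at hm ⊢
    rw [List.getD_eq_getElem _ _ (List.idxOf_lt_length_iff.2 hm), List.getElem_idxOf,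
      ← CharTwo.nL_conj hlt hx]
    group

theorem lay_eq_of_same {v : ℕ → K} {g g' : twistedF4 K (2 ^ m)} {w w' : Word}
    (h : Collect.same w w' = true) (hg : wev v w = g) (hg' : wev v w' = g') : g = g' :=
  Subtype.ext (hg.symm.trans ((same_spec v h).trans hg'))

theorem wev_comm (v : ℕ → K) {w w' : Word} {g g' : twistedF4 K (2 ^ m)} (hg : wev v w = g) (hg' : wev v w' = g') :
    wev v (w ++ w' ++ w.reverse ++ w'.reverse) = (⁅g, g'⁆ : twistedF4 K (2 ^ m)) := by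
  rw [wev_append, wev_append, wev_append, wev_reverse, wev_reverse, hg, hg', commutatorElement_def]
  rfl

/-- The series. -/
noncomputable def series (hm : 1 ≤ m) : Series (twistedF4 K (2 ^ m)) K where
  n := 12
  x := lay X
  add k hk s t := by
    refine mem_of_chk X (v4 m k k s t) hk (add_ok k hk) ?_
    have e : wev (v4 m k k s t) (lwp k [[0], [2]] [[1], [3]]) = el m k (s + t) :=
      wev_lwp _ k hk _ _ (by simp [pev, mev, v4]) (by simp [pev, mev, v4, par_add])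
    rw [wev_append, wev_append, wev_reverse, wev_reverse, e, wev_lw0 k k hk, wev_lw2 k k hk,
      Subgroup.coe_mul, Subgroup.coe_inv, Subgroup.coe_mul, coe_lay X hk, coe_lay X hk, coe_lay X hk]
    group
  comm i hi j hj s t :=
    mem_of_chk X (v4 m i j s t) (by omega) (comm_ok i hi j hj)
      (wev_comm X _ ((wev_lw0 i j hi s t).trans (coe_lay X hi s).symm)
        ((wev_lw2 i j hj s t).trans (coe_lay X hj t).symm)).symm
  T := Kˣ × Kˣ
  tg := tgen X
  tg_comm a b := by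
    refine Subtype.ext ?_
    show tor chevF4 (tp m a.1 a.2) * tor chevF4 (tp m b.1 b.2) = tor chevF4 _ * tor chevF4 _
    rw [tor_mul, tor_mul, mul_comm]
  μ := wt m
  conj k hk xy s := conj_lay X hk xy s
  moves k hk := by
    obtain ⟨a, ha⟩ := exists_unit_ne_one hK hm
    obtain ⟨xy, h⟩ := chi_surj hK hk a
    exact ⟨xy, fun e => ha (Units.ext (h ▸ e))⟩

theorem lay_add {k : ℕ} (hk : k ∈ [6, 10, 11]) (s t : K) : lay X k (s + t) = lay X k s * lay X k t := by
  have hk' : k < 12 := by revert k; decide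
  refine lay_eq_of_same X (v := v4 m k k s t) (same_add_ok k hk) ?_ ?_
  · rw [coe_lay X hk']
    exact wev_lwp _ k hk' _ _ (by simp [pev, mev, v4]) (by simp [pev, mev, v4, par_add])
  · rw [wev_append, wev_lw0 k k hk', wev_lw2 k k hk', Subgroup.coe_mul, coe_lay X hk', coe_lay X hk']

theorem lay_commute {i j : ℕ} (h : (i, j) ∈ [(4, 10), (4, 11), (6, 10), (6, 11), (1, 3)]) (s t : K) :
    Commute (lay X i s) (lay X j t) := by
  have hij : i < 12 ∧ j < 12 := by
    simp only [List.mem_cons, List.not_mem_nil, or_false, Prod.mk.injEq] at h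
    omega
  refine lay_eq_of_same X (v := v4 m i j s t) (kill_ok.2.2 _ h) ?_ ?_ <;>
    rw [wev_append, wev_lw0 i j hij.1, wev_lw2 i j hij.2, Subgroup.coe_mul, coe_lay X hij.1, coe_lay X hij.2]

variable {E : Type*} [Group E] {π : E →* twistedF4 K (2 ^ m)} (C : Cen π)
include C

/-- The two parts of a class lift to commuting groups. -/
theorem cl_class (hm : 1 ≤ m) {i k : ℕ} (h : (i, k) ∈ TwistMult.F4.same) (s t : K) :
    cl C (lay X i s) (lay X k t) = 1 := by
  have hz : ∀ j, (6, j) ∈ [(4, 10), (4, 11), (6, 10), (6, 11), (1, 3)] → j ∈ [6, 10, 11] → ∀ a b,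
      cl C (lay X 6 a) (lay X j b) = 1 := by
    intro j hj hj' a b
    have hj2 : j < 12 ∧ 6 < j ∧ (6, j) ∉ TwistMult.F4.same := by
      simp only [List.mem_cons, List.not_mem_nil, or_false, Prod.mk.injEq] at hj
      obtain rfl | rfl : j = 10 ∨ j = 11 := by omega
      all_goals decide
    exact cl_pair_zero C (noInv_cross hK hm hj2.2.1 hj2.1 hj2.2.2) (lay_add X (by simp))
      (lay_add X hj') (lay_commute X hj)
      (fun xy => ⟨tgen X xy, fun a b => ⟨conj_lay X (by norm_num) xy a, conj_lay X hj2.1 xy b⟩⟩) a b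
  -- the class at the fourth ray
  have h4 : ∀ s t, cl C (lay X 4 s) (lay X 11 t) = 1 := by
    intro s t
    obtain ⟨hD, hZ, -⟩ := kill_ok
    have e11 : lay X 11 t = ⁅lay X 0 1, lay X 10 t⁆ := by
      refine (lay_eq_of_same X (v := v4 m 11 10 t t) hD (wev_comm X _ ?_ ?_) ?_).symm
      · rw [coe_lay X (by norm_num)]
        exact wev_lwp _ 0 (by norm_num) _ _ (by simp [pev, mev]) (by simp [pev, mev, par])
      · rw [wev_lw2 11 10 (by norm_num), coe_lay X (by norm_num)]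
      · rw [coe_lay X (by norm_num)]
        exact wev_lwp _ 11 (by norm_num) _ _ (by simp [pev, mev, v4]) (by simp [pev, mev, v4, par])
    have e6 : ⁅lay X 4 s, lay X 0 1⁆ = lay X 6 (par m 4 s) := by
      refine lay_eq_of_same X (v := v4 m 4 0 s 1) hZ (wev_comm X _ ?_ ?_) ?_
      · rw [wev_lw0 4 0 (by norm_num), coe_lay X (by norm_num)]
      · rw [coe_lay X (by norm_num)]
        exact wev_lwp _ 0 (by norm_num) _ _ (by simp [pev, mev]) (by simp [pev, mev, par])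
      · rw [coe_lay X (by norm_num)]
        refine wev_lwp _ 6 (by norm_num) _ _ (by simp [pev, mev, v4]) ?_
        simp [pev, mev, v4, par, (q_pow X s).1]
    obtain ⟨T, hT⟩ : ∃ T, T = lft C (lay X 4 s) := ⟨_, rfl⟩
    obtain ⟨a, ha⟩ : ∃ a, a = lft C (lay X 0 1) := ⟨_, rfl⟩
    obtain ⟨f, hf⟩ : ∃ f, f = lft C (lay X 10 t) := ⟨_, rfl⟩
    have hπ : π T = lay X 4 s ∧ π a = lay X 0 1 ∧ π f = lay X 10 t :=
      ⟨hT ▸ π_lft C _, ha ▸ π_lft C _, hf ▸ π_lft C _⟩
    obtain ⟨z, hz'⟩ : ∃ z, z = ⁅T, a⁆ := ⟨_, rfl⟩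
    have hπz : π z = lay X 6 (par m 4 s) := by rw [hz', map_commutatorElement, hπ.1, hπ.2.1, e6]
    have hD' : π ⁅a, f⁆ = lay X 11 t := by rw [map_commutatorElement, hπ.2.1, hπ.2.2, e11]
    have hzf : Commute z f := commute_of_cl C (hz 10 (by simp) (by simp) _ _) hπz hπ.2.2
    have hzD : Commute z ⁅a, f⁆ := commute_of_cl C (hz 11 (by simp) (by simp) _ _) hπz hD'
    have hTD : T * ⁅a, f⁆ * T⁻¹ = ⁅a, f⁆ := by
      rw [show T * ⁅a, f⁆ * T⁻¹ = ⁅T * a * T⁻¹, T * f * T⁻¹⁆ by simp only [commutatorElement_def]; group,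
        Lift.comm_congr C.cen (show π (T * a * T⁻¹) = π (z * a) by
          rw [hz', commutatorElement_def, inv_mul_cancel_right])
          (show π (T * f * T⁻¹) = π f by
            rw [map_mul, map_mul, map_inv, hπ.1, hπ.2.2, (lay_commute X (by simp) s t).eq,
              mul_inv_cancel_right]),
        Lift.comm_mul_left, hzD.eq, mul_inv_cancel_right, commutatorElement_eq_one_iff_commute.2 hzf,
        mul_one]
    rw [show cl C (lay X 4 s) (lay X 11 t) = ⁅T, ⁅a, f⁆⁆ by rw [cl_eq C, hπ.1, hD'],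
      commutatorElement_def, hTD, mul_inv_cancel]
  -- every class is conjugate to it
  have mv : ∀ c ∈ classes, ∀ s t, cl C (lay X c.1 s) (lay X c.2.1 t) = cl C (lay X 1 s) (lay X 3 t) := by
    intro c hc s t
    obtain ⟨hks, hi, hk, hpar⟩ : (∀ a ∈ c.2.2, a < 2) ∧ c.1 < 12 ∧ c.2.1 < 12 ∧
        kind.getD c.1 0 = 1 ∧ kind.getD c.2.1 0 = 2 := by revert c; decide
    obtain ⟨hm1, hm2⟩ := map_ok c hc
    obtain ⟨L, hL⟩ : ∃ L, L = c.2.2.flatMap fun a => Js.getD a [] := ⟨_, rfl⟩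
    obtain ⟨g, hg⟩ : ∃ g : twistedF4 K (2 ^ m), (g : GL chevF4.Idx K) = nL hC K L :=
      ⟨⟨_, hL ▸ nL_mem_of X hks⟩, rfl⟩
    have key : ∀ (v : ℕ → K) (w w' : Word), mapChk c.2.2 w w' = true →
        nL hC K L * wev v w * (nL hC K L)⁻¹ = wev v w' := fun v w w' h => hL ▸ cj_eq X v h
    have p1 : (par m 1 s : K) = par m c.1 s := by rw [par, par, hpar.1]; rfl
    have p3 : (par m 3 t : K) = par m c.2.1 t := by rw [par, par, hpar.2]; rfl
    have e1 : g * lay X 1 s * g⁻¹ = lay X c.1 s := by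
      refine Subtype.ext ?_
      rw [Subgroup.coe_mul, Subgroup.coe_mul, Subgroup.coe_inv, hg, coe_lay X (by norm_num), coe_lay X hi,
        ← wev_lw0 1 3 (by norm_num) s t, key _ _ _ hm1,
        show v4 m 1 3 s t = v4 m c.1 c.2.1 s t by unfold v4; rw [p1, p3], wev_lw0 _ _ hi]
    have e3 : g * lay X 3 t * g⁻¹ = lay X c.2.1 t := by
      refine Subtype.ext ?_
      rw [Subgroup.coe_mul, Subgroup.coe_mul, Subgroup.coe_inv, hg, coe_lay X (by norm_num), coe_lay X hk,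
        ← wev_lw2 1 3 (by norm_num) s t, key _ _ _ hm2,
        show v4 m 1 3 s t = v4 m c.1 c.2.1 s t by unfold v4; rw [p1, p3], wev_lw2 _ _ hk]
    have e := cl_conj C (lft C g) (lay X 1 s) (lay X 3 t)
    rw [π_lft, e1, e3] at e
    rw [← e]
    have h1 : Commute (lay X 1 s) (lay X 3 t) := lay_commute X (by simp) s t
    rw [← (ker_central C (cl_ker C h1) _).eq, mul_inv_cancel_right]
  have h1 : ∀ s t, cl C (lay X 1 s) (lay X 3 t) = 1 := fun s t => by
    rw [← mv (4, 11, [0, 1, 0]) (by simp) s t, h4]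
  obtain ⟨c, hc, e1, e2⟩ : ∃ c ∈ classes, c.1 = i ∧ c.2.1 = k := by
    simp only [TwistMult.F4.same, List.mem_cons, List.not_mem_nil, or_false, Prod.mk.injEq] at h
    rcases h with ⟨rfl, rfl⟩ | ⟨rfl, rfl⟩ | ⟨rfl, rfl⟩ | ⟨rfl, rfl⟩
    exacts [⟨(1, 3, []), by simp, rfl, rfl⟩, ⟨(2, 6, [0]), by simp, rfl, rfl⟩,
      ⟨(4, 11, [0, 1, 0]), by simp, rfl, rfl⟩, ⟨(5, 10, [1, 0]), by simp, rfl, rfl⟩]
  rw [← e1, ← e2, mv c hc, h1]

/-- The extension splits over the Sylow subgroup. -/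
theorem exists_complement (hm : 1 ≤ m) : ∃ W : Subgroup E, W ⊓ π.ker = ⊥ ∧
    W.map π = (series X hm).N 0 := by
  refine (series X hm).exists_complement C fun i k hik hk => ?_
  rcases eq_or_lt_of_le hik with rfl | hlt
  · exact Or.inl (noInv_same hK hm hk)
  by_cases h : (i, k) ∈ TwistMult.F4.same
  · exact Or.inr (cl_class X C hm h)
  · exact Or.inl (noInv_cross hK hm hlt hk h)

end Cfsg.Agent.TwistMult.F4
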