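import Cfsg.Agent.Lib.TwistMult.F4Pair
import Cfsg.Agent.Lib.TwistMult.F4Split
import Cfsg.Agent.SimpleFacts.SLTwoMultiplier

/-!
A perfect central extension of a large Ree group by a group of odd order is trivial.
-/

set_option autoImplicit false
set_option linter.unusedSectionVars false

open scoped Matrix MatrixGroups

set_option synthInstance.maxSize 4096

namespace Cfsg.Agent.TwistMult.F4

open Cfsg.Lie Cfsg.Agent.Chevalley Cfsg.Agent.Chevalley.Table Cfsg.Agent.Chevalley.Cert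
  Cfsg.Agent.Chevalley.Group Cfsg.Agent.Chevalley.Borel Cfsg.Agent.Chevalley.Bruhat
  Cfsg.Agent.Chevalley.Weyl Cfsg.Agent.Chevalley.NormalForm Cfsg.Agent.Chevalley.WeylGroup
  Cfsg.Agent.Chevalley.Twist Cfsg.Agent.Chevalley.Twist.F4 Cfsg.Agent.Chevalley.Unip
  Cfsg.Agent.Chevalley.Twist.F4.Invol Cfsg.Agent.Chevalley.Twist.F4.Collect

/-- The exponents of the separating elements. -/
abbrev sexp : List (List ℤ) := [[2, 4, 2, 1], [3, 5, 7, 4]]

/-- The exponent of a root character at a separating element. -/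
def sev (a r : ℕ) : ℤ := ∑ i ∈ Finset.range 4, (sexp.getD a []).getD i 0 * chevF4.cartan i r

theorem sep_fix_ok : ∀ a < 2, ∀ r ∈ invT Data.F4.tab (Js.getD a []),
    sev a r = 0 ∧ sev a (wL chevF4 (Js.getD a []) r) = 0 := by
  unfold sev
  decide +kernel

theorem sep_move_ok : ∀ a < 2, ∀ r < chevF4.nroots, 0 < Data.F4.tab.phi r →
    r ∉ invT Data.F4.tab (Js.getD a []) → sev a r % 7 ≠ 0 ∧ (sev a r).natAbs < 31 := by
  unfold sev
  decide +kernel

theorem braid_ok : ∀ a < 2, ∀ b < 2, a ≠ b →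
    wordOrdChk Data.F4.tab (Js.getD a [] ++ Js.getD b []) (2 * (3 + 1)) = true ∧
    ∀ r ∈ invT Data.F4.tab (Js.getD b []),
      wL chevF4 ((List.replicate 3 (Js.getD a [] ++ Js.getD b [])).flatten ++ Js.getD a []) r ∈
          invT Data.F4.tab (Js.getD b []) ∧
        ∃ r' ∈ invT Data.F4.tab (Js.getD b []),
          wL chevF4 ((List.replicate 3 (Js.getD a [] ++ Js.getD b [])).flatten ++ Js.getD a [])
            (wL chevF4 (Js.getD b []) r) = wL chevF4 (Js.getD b []) r' := by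
  decide +kernel

variable {K : Type*} [Field K] [Fintype K] [CharP K 2] {m : ℕ}
  {hK : Fintype.card K = 2 ^ (2 * m + 1)} (X : Setup (K := K) (m := m) hK)
include X

/-- The separating elements. -/
theorem exists_sep (hm : 1 ≤ m) : ∃ zs : ℕ → ℕ → Kˣ, ∀ b < X.O.k, Gen.SepZ X.O b (zs b) := by
  classical
  obtain ⟨g, hg⟩ := IsCyclic.exists_generator (α := Kˣ)
  have hord : orderOf g = 2 ^ (2 * m + 1) - 1 := by
    rw [orderOf_eq_card_of_forall_mem_zpowers hg, Nat.card_units, Nat.card_eq_fintype_card, hK]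
  refine ⟨fun a i => g ^ (sexp.getD a []).getD i 0, fun a ha => ?_⟩
  have ha2 : a < 2 := X.k_eq ▸ ha
  have hchar : ∀ r, torChar chevF4 (fun i => g ^ (sexp.getD a []).getD i 0) r = g ^ sev a r := by
    intro r
    rw [torChar, sev]
    show ∏ i ∈ Finset.range 4, _ = _
    simp only [Finset.sum_range_succ, Finset.sum_range_zero, Finset.prod_range_succ, Finset.prod_range_zero,
      zpow_add, zpow_zero, ← zpow_mul]
  have hinv : invList chevF4 Data.F4.tab (X.O.J a) = invT Data.F4.tab (Js.getD a []) := by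
    rw [invList_eq_invT hC (X.O.J_lt a ha), X.J_eq]
  refine ⟨fun r hr => ?_, fun r hr hni => ?_⟩
  · rw [hinv] at hr
    obtain ⟨e1, e2⟩ := sep_fix_ok a ha2 r hr
    rw [hchar, hchar, X.J_eq, e1, e2, zpow_zero]
    exact ⟨rfl, rfl⟩
  · obtain ⟨h1, h2⟩ := (mem_posRoots hC).1 hr
    obtain ⟨e1, e2⟩ := sep_move_ok a ha2 r h1 h2 (hinv ▸ hni)
    rw [hchar]
    intro h
    rw [← orderOf_dvd_iff_zpow_eq_one, hord] at h
    rcases Nat.eq_or_lt_of_le hm with rfl | hm2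
    · norm_num at h
      omega
    · have h31 : 31 ≤ 2 ^ (2 * m + 1) - 1 := by
        have : 2 ^ 5 ≤ 2 ^ (2 * m + 1) := Nat.pow_le_pow_right two_pos (by omega)
        omega
      have h3 := Int.natAbs_dvd_natAbs.2 h
      rw [Int.natAbs_natCast] at h3
      have h0 : (sev a r).natAbs ≠ 0 := by omega
      have := Nat.le_of_dvd (Nat.pos_of_ne_zero h0) h3
      omega

theorem isPGroup_U : IsPGroup 2 (UK chevF4 (twistedF4 K (2 ^ m))) := by
  refine IsPGroup.of_card (n := (2 * m + 1) * 12) ?_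
  rw [pow_mul, ← card_U X,
    ← Nat.card_congr (Subgroup.subgroupOfEquivOfLe (inf_le_right : chevF4.posUnipotent K ⊓
      twistedF4 K (2 ^ m) ≤ twistedF4 K (2 ^ m))).toEquiv, Subgroup.inf_subgroupOf_right]

theorem gen_L {a : ℕ} (ha : a < X.O.k) :
    Gen.L X.O (hnJ X) ha ≤ Subgroup.closure {y | y ∈ Gen.L X.O (hnJ X) ha ∧ ∃ k, y ^ 2 ^ k = 1} := by
  have hU := (isPGroup_U X).to_le (XU_le_U X.O ha)
  exact sup_gen (pgroup_gen hU) (pgroup_gen (hU.map _))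

variable {E : Type*} [Group E] [Finite E] {π : E →* twistedF4 K (2 ^ m)} (h : Ctx 2 π)

include h in
theorem good_pair {z : ℕ → Kˣ} (hz : Gen.SepZ X.O 0 z) : Good 2 π (Lp X) := by
  obtain ⟨R, hR, -⟩ := exists_R0 X hz
  let e := MulEquiv.ofBijective R hR
  refine good_sl2 h ((Lp X).subtype.comp e.symm.toMonoidHom)
    (Subtype.val_injective.comp e.symm.injective) ?_ (gen_L X (k0 X))
  rw [MonoidHom.range_comp, MonoidHom.range_eq_top.2 e.symm.surjective, ← MonoidHom.range_eq_map,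
    Subgroup.range_subtype]

include h in
theorem good_class (hm : 1 ≤ m) {z : ℕ → Kˣ} (hz : Gen.SepZ X.O 1 z) : Good 2 π (Lc X) := by
  classical
  obtain ⟨R, hR, -⟩ := exists_R1 X hm hz
  let φ : hat 2 π (Lc X) →* Lc X :=
    (π.comp (hat 2 π (Lc X)).subtype).codRestrict (Lc X) fun x => hat_mem_image (p := 2) (π := π) x.2
  let σ : hat 2 π (Lc X) →* Cfsg.Sz K m := R.comp φ
  have hk : ∀ x, σ x = 1 ↔ π x.1 = 1 := fun x =>
    (map_eq_one_iff R hR.1).trans ⟨fun e => congrArg Subtype.val e, fun e => Subtype.ext e⟩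
  have hsur : Function.Surjective σ := hR.2.comp fun y => by
    obtain ⟨x, hx, e⟩ := exists_mem_hat h (gen_L X (k1 X)) y.2
    exact ⟨⟨x, hx⟩, Subtype.ext e⟩
  have hcen : σ.ker ≤ Subgroup.center (hat 2 π (Lc X)) := fun x hx => Subgroup.mem_center_iff.2 fun y =>
    Subtype.ext (Subgroup.mem_center_iff.1 (h.cen ((hk x).1 hx)) y.1)
  have hstem : Cfsg.IsStemExtension σ :=
    ⟨hsur, hcen, fun x hx => hat_ker_le_commutator h ((hk x).1 hx)⟩
  have hbot : σ.ker = ⊥ := by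
    refine SimpleFacts.SLTwoMultiplier.ker_eq_bot σ fun r _ P z hz hzP => ?_
    by_cases hr : r = 2
    · subst hr
      obtain ⟨k, hk'⟩ := P.isPGroup' ⟨z, hzP⟩
      refine Subtype.ext (eq_one_of_pel h ((hk z).1 hz) ⟨k, ?_⟩)
      exact congrArg (fun y : (P : Subgroup (hat 2 π (Lc X))) => ((y : hat 2 π (Lc X)) : E)) hk'
    · haveI := Suzuki.sylow_odd_cyclic (m := m) hm hK hr (P.mapSurjective hsur)
      let τ : (P : Subgroup (hat 2 π (Lc X))) →* ((P.mapSurjective hsur : Sylow r (Cfsg.Sz K m)) :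
          Subgroup (Cfsg.Sz K m)) :=
        (σ.comp (P : Subgroup (hat 2 π (Lc X))).subtype).codRestrict _ fun x => ⟨x.1, x.2, rfl⟩
      haveI := τ.isMulCommutative_of_isCyclic_of_ker_le_center (fun x hx => Subgroup.mem_center_iff.2 fun y =>
        Subtype.ext (Subgroup.mem_center_iff.1 (hcen (MonoidHom.mem_ker.2
          (congrArg Subtype.val (MonoidHom.mem_ker.1 hx)))) y.1))
      exact SimpleFacts.SLTwoMultiplier.eq_one_of_abelian σ hstem P
        (fun a ha b hb => congrArg Subtype.val (mul_comm' (⟨a, ha⟩ : (P : Subgroup _)) ⟨b, hb⟩)) hz hzP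
  rw [Good, eq_bot_iff]
  rintro x ⟨hx, hxk⟩
  have h1 : (⟨x, hx⟩ : hat 2 π (Lc X)) ∈ σ.ker := (hk _).2 hxk
  rw [hbot, Subgroup.mem_bot] at h1
  exact congrArg Subtype.val h1

theorem card_tor_pair {z : ℕ → Kˣ} (hz : Gen.SepZ X.O 0 z) {T : Subgroup (twistedF4 K (2 ^ m))}
    (hT : ∀ g ∈ T, (g : GL chevF4.Idx K) ∈ chevF4.diagonalSubgroup K) :
    Nat.card (T ⊓ Lp X : Subgroup (twistedF4 K (2 ^ m))) ≤ 2 ^ (2 * m + 1) - 1 := by
  classical
  obtain ⟨R, hR, hRr⟩ := exists_R0 X hz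
  let T' : Subgroup (twistedF4 K (2 ^ m)) := T ⊓ Lp X
  have hd : ∀ g : T', ∃ u : Kˣ, ι2 K (R ⟨g.1, g.2.2⟩) = !![(u : K), 0; 0, ((u⁻¹ : Kˣ) : K)] := by
    intro g
    obtain ⟨c, hc⟩ := (mem_H_iff hC).1 (hT _ g.2.1)
    have e : ι2 K (R ⟨g.1, g.2.2⟩) =
        !![(torChar chevF4 c 26 : K), 0; 0, (torChar chevF4 c 25 : K)] := by
      rw [hRr]
      show Res.res P0 ((g : twistedF4 K (2 ^ m)) : GL chevF4.Idx K) = _
      rw [hc, res_tor inj0]
      ext i j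
      fin_cases i <;> fin_cases j <;> simp [P0]
    refine ⟨torChar chevF4 c 26, e.trans ?_⟩
    have hdet : (ι2 K (R ⟨g.1, g.2.2⟩)).det = 1 := (R ⟨g.1, g.2.2⟩).2
    rw [e, Matrix.det_fin_two_of, mul_zero, sub_zero] at hdet
    rw [Units.val_inv_eq_inv_val, ← eq_inv_of_mul_eq_one_right hdet]
  choose f hf using hd
  have hinj : Function.Injective f := fun a b e => by
    have h1 := ι2_inj K ((hf a).trans (by rw [e, ← hf b]))
    have h2 := hR.1 h1
    exact Subtype.ext (Subtype.mk.inj h2)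
  refine (Nat.card_le_card_of_injective f hinj).trans (le_of_eq ?_)
  rw [Nat.card_units, Nat.card_eq_fintype_card, hK]

theorem card_tor_class (hm : 1 ≤ m) {z : ℕ → Kˣ} (hz : Gen.SepZ X.O 1 z)
    {T : Subgroup (twistedF4 K (2 ^ m))}
    (hT : ∀ g ∈ T, (g : GL chevF4.Idx K) ∈ chevF4.diagonalSubgroup K) :
    Nat.card (T ⊓ Lc X : Subgroup (twistedF4 K (2 ^ m))) ≤ 2 ^ (2 * m + 1) - 1 := by
  classical
  obtain ⟨R, hR, hRr⟩ := exists_R1 X hm hz
  let T' : Subgroup (twistedF4 K (2 ^ m)) := T ⊓ Lc X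
  have hd : ∀ g : T', ∃ u : Kˣ, R ⟨g.1, g.2.2⟩ = Suzuki.tor hK u := by
    intro g
    obtain ⟨c, hc⟩ := (mem_H_iff hC).1 (hT _ g.2.1)
    have e : ιS m (R ⟨g.1, g.2.2⟩) = Matrix.diagonal fun i => (torChar chevF4 c (P1 i) : K) := by
      rw [hRr]
      show Res.res P1 ((g : twistedF4 K (2 ^ m)) : GL chevF4.Idx K) = _
      rw [hc, res_tor inj1]
    refine Suzuki.exists_to hm hK (Subtype.ext ?_) (Subtype.ext ?_)
    · refine Suzuki.smul_mk_eq _ _ (c := (torChar chevF4 c (P1 0) : K)) ?_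
      show ιS m (R ⟨g.1, g.2.2⟩) *ᵥ _ = _
      rw [e]
      funext i
      rw [Matrix.mulVec_diagonal]
      fin_cases i <;> simp
    · refine Suzuki.smul_mk_eq _ _ (c := (torChar chevF4 c (P1 3) : K)) ?_
      show ιS m (R ⟨g.1, g.2.2⟩) *ᵥ _ = _
      rw [e]
      funext i
      rw [Matrix.mulVec_diagonal]
      fin_cases i <;> simp [Suzuki.vec, Suzuki.ovf_zero]
  choose f hf using hd
  have hinj : Function.Injective f := fun a b e => by
    have h1 := (hf a).trans (by rw [e, ← hf b])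
    have h2 := hR.1 h1
    exact Subtype.ext (Subtype.mk.inj h2)
  refine (Nat.card_le_card_of_injective f hinj).trans (le_of_eq ?_)
  rw [Nat.card_units, Nat.card_eq_fintype_card, hK]

theorem tor_gen {g : twistedF4 K (2 ^ m)} (hg : (g : GL chevF4.Idx K) ∈ chevF4.diagonalSubgroup K) :
    ∃ a s : Kˣ, g = h0 X a * kc X s := by
  obtain ⟨c, hc⟩ := (mem_H_iff hC).1 hg
  obtain ⟨A, hA⟩ : ∃ A, A = torChar chevF4 c 24 := ⟨_, rfl⟩
  obtain ⟨B, hB⟩ : ∃ B, B = torChar chevF4 c 25 := ⟨_, rfl⟩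
  have hinj : Function.Injective fun s : Kˣ => s ^ (2 * 2 ^ m) * (s ^ 2)⁻¹ := by
    let f : Kˣ →* Kˣ := (powMonoidHom (2 * 2 ^ m)) * (powMonoidHom 2)⁻¹
    show Function.Injective f
    rw [injective_iff_map_eq_one]
    intro s hs
    have hs' : s ^ (2 * 2 ^ m) = s ^ 2 := mul_inv_eq_one.1 hs
    have h4 : s ^ 2 = (s ^ 2) ^ 2 := by
      have e : (s ^ (2 * 2 ^ m)) ^ (2 * 2 ^ m) = s ^ 2 := by
        rw [← pow_mul, show 2 * 2 ^ m * (2 * 2 ^ m) = 2 * (2 ^ m * 2 ^ m) * 2 by ring, pow_mul]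
        exact Units.ext (by rw [Units.val_pow_eq_pow_val, Units.val_pow_eq_pow_val, pow_q hK,
          Units.val_pow_eq_pow_val])
      conv_lhs => rw [← e, hs', ← pow_mul, mul_comm 2, pow_mul, hs']
    rw [sq (s ^ 2), left_eq_mul] at h4
    refine eq_one_of_two_pow (j := 1) ?_
    rw [pow_one]; exact h4
  obtain ⟨s, hs⟩ := Finite.injective_iff_surjective.1 hinj (A * B ^ 2)
  simp only at hs
  obtain ⟨a, ha⟩ : ∃ a, a = B * s ^ 2 := ⟨_, rfl⟩
  refine ⟨a, s, ?_⟩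
  obtain ⟨d, hd⟩ := (mem_H_iff hC).1 (kc_mem X s).2
  have hk := res_kc X s
  rw [hd, res_tor inj1] at hk
  have h3 := congrFun (congrFun hk 3) 3
  have h2 := congrFun (congrFun hk 2) 2
  simp only [Matrix.diagonal_apply_eq] at h3 h2
  have k24 : torChar chevF4 d 24 = s ^ 2 * s ^ (2 * 2 ^ m) := Units.ext (by simpa [P1] using h3)
  have k26 : torChar chevF4 d 26 = s ^ (2 * 2 ^ m) := Units.ext (by simpa [P1] using h2)
  have k25 : torChar chevF4 d 25 = (s ^ 2)⁻¹ := by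
    have h := (chars d).1
    rw [k26, k24] at h
    rw [eq_inv_iff_mul_eq_one]
    exact mul_right_cancel (b := s ^ (2 * 2 ^ m)) (by rw [one_mul, mul_assoc, mul_comm]; exact h.symm)
  obtain ⟨-, e24, -, e25, -⟩ := char_tc (K := K) (m := m) a
  have hmul : ∀ (x y : ℕ → Kˣ) r, torChar chevF4 (x * y) r = torChar chevF4 x r * torChar chevF4 y r :=
    fun x y r => by simp [torChar, mul_zpow, Finset.prod_mul_distrib]
  have hinv : ∀ (x : ℕ → Kˣ) r, torChar chevF4 x⁻¹ r = (torChar chevF4 x r)⁻¹ := fun x r => by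
    simp [torChar, Finset.prod_inv_distrib]
  refine inv_mul_eq_one.1 (eq_one_of_chars X (c := c⁻¹ * (tc m a * d)) ?_ ?_ ?_)
  · rw [Subgroup.coe_mul, Subgroup.coe_inv, Subgroup.coe_mul, hc, coe_h0, hd, tor_inv, tor_mul, tor_mul]
  · rw [hmul, hmul, hinv, e24, k24, ← hA, inv_mul_eq_one, ha]
    have hs2 : s ^ (2 * 2 ^ m) = A * B ^ 2 * s ^ 2 := by rw [← hs, inv_mul_cancel_right]
    rw [hs2]
    refine Units.ext ?_
    have hB0 := B.ne_zero
    have hs0 := s.ne_zero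
    push_cast
    field_simp
  · rw [hmul, hmul, hinv, e25, k25, ← hB, inv_mul_eq_one, ha, mul_inv_cancel_right]

include h in
/-- A perfect central extension of odd kernel order is trivial. -/
theorem ker_eq_bot (hm : 1 ≤ m) (hperf : commutator E = ⊤) : π.ker = ⊥ := by
  classical
  haveI : Finite (twistedF4 K (2 ^ m)) := Finite.of_injective _ Subtype.val_injective
  obtain ⟨zs, hzs⟩ := exists_sep X hm
  let P := Gen.pair X.O X.gen (Twist.F4.hne X) (hnJ X)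
  have hTH : ∀ g ∈ P.B ⊓ P.N, (g : GL chevF4.Idx K) ∈ chevF4.diagonalSubgroup K := fun g hg =>
    (Gen.mem_pairT X.O X.gen (Twist.F4.hne X) (hnJ X)).1 hg
  have hHT : ∀ g : twistedF4 K (2 ^ m), (g : GL chevF4.Idx K) ∈ chevF4.diagonalSubgroup K → g ∈ P.B ⊓ P.N :=
    fun g hg => (Gen.mem_pairT X.O X.gen (Twist.F4.hne X) (hnJ X)).2 hg
  have hmem : ∀ b (hb : b < X.O.k), nK X.O (hnJ X) hb ∈ Gen.L X.O (hnJ X) hb := by
    intro b hb
    have hb2 : b < 2 := X.k_eq ▸ hb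
    interval_cases b
    · exact n0_mem X
    · exact n1_mem X
  obtain ⟨s₀, hs₀⟩ : ∃ s : P.S, Gen.idx X.O X.gen (Twist.F4.hne X) (hnJ X) s = 0 := by
    obtain ⟨s, hs⟩ := (Gen.idx_bij X.O X.gen (Twist.F4.hne X) (hnJ X)).2 ⟨0, k0 X⟩
    exact ⟨s, congrArg Fin.val hs⟩
  obtain ⟨s₁, hs₁⟩ : ∃ s : P.S, Gen.idx X.O X.gen (Twist.F4.hne X) (hnJ X) s = 1 := by
    obtain ⟨s, hs⟩ := (Gen.idx_bij X.O X.gen (Twist.F4.hne X) (hnJ X)).2 ⟨1, k1 X⟩
    exact ⟨s, congrArg Fin.val hs⟩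
  let Ls : P.S → Subgroup (twistedF4 K (2 ^ m)) := fun s =>
    Gen.L X.O (hnJ X) (Gen.idx_lt X.O X.gen (Twist.F4.hne X) (hnJ X) s)
  have hLs : ∀ s a (ha : a < X.O.k), Gen.idx X.O X.gen (Twist.F4.hne X) (hnJ X) s = a →
      Ls s = Gen.L X.O (hnJ X) ha := by
    intro s a ha e; subst e; rfl
  have htor : P.B ⊓ P.N ≤ ⨆ s, (P.B ⊓ P.N) ⊓ Ls s := by
    intro g hg
    obtain ⟨a, s, rfl⟩ := tor_gen X (hTH g hg)
    exact mul_mem (Subgroup.mem_iSup_of_mem s₀ (Subgroup.mem_inf.2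
        ⟨hHT _ (h0_mem_HK X a), by rw [hLs s₀ 0 (k0 X) hs₀]; exact h0_mem X a⟩))
      (Subgroup.mem_iSup_of_mem s₁ (Subgroup.mem_inf.2
        ⟨hHT _ (kc_mem X s).2, by rw [hLs s₁ 1 (k1 X) hs₁]; exact (kc_mem X s).1⟩))
  have hbr : ∀ a < X.O.k, ∀ b < X.O.k, a ≠ b → Gen.BraidChk chevF4 Data.F4.tab (X.O.J a) (X.O.J b) := by
    intro a ha b hb hab
    obtain ⟨h1, h2⟩ := braid_ok a (X.k_eq ▸ ha) b (X.k_eq ▸ hb) hab
    have hinv : invList chevF4 Data.F4.tab (X.O.J b) = invT Data.F4.tab (Js.getD b []) := by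
      rw [invList_eq_invT hC (X.O.J_lt b hb), X.J_eq]
    refine ⟨3, ?_, fun r hr => ?_⟩
    · rw [X.J_eq, X.J_eq]; exact h1
    · rw [hinv] at hr ⊢
      obtain ⟨e1, r', hr', e2⟩ := h2 r hr
      refine ⟨?_, r', ?_, ?_⟩
      · rw [X.J_eq, X.J_eq]; exact e1
      · rw [hinv]; exact hr'
      · rw [X.J_eq, X.J_eq]; exact e2
  let R := Gen.root X.O X.gen (Twist.F4.hne X) (hnJ X) 2 (isPGroup_U X) hmem zs hzs htor hbr
  haveI : Fintype P.S := Fintype.ofFinite _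
  have hcases : ∀ s : P.S, Gen.idx X.O X.gen (Twist.F4.hne X) (hnJ X) s = 0 ∨
      Gen.idx X.O X.gen (Twist.F4.hne X) (hnJ X) s = 1 := fun s => by
    have hb : Gen.idx X.O X.gen (Twist.F4.hne X) (hnJ X) s < 2 :=
      lt_of_lt_of_eq (Gen.idx_lt X.O X.gen (Twist.F4.hne X) (hnJ X) s) X.k_eq
    omega
  have hgood : ∀ s, Good 2 π (R.L s) := by
    intro s
    show Good 2 π (Ls s)
    rcases hcases s with e | e
    · rw [hLs s 0 (k0 X) e]; exact good_pair X h (hzs 0 (k0 X))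
    · rw [hLs s 1 (k1 X) e]; exact good_class X h hm (hzs 1 (k1 X))
  refine R.ker_eq_bot h hperf hgood ?_
  show ∏ s, Nat.card ((P.B ⊓ P.N) ⊓ Ls s : Subgroup (twistedF4 K (2 ^ m))) ≤
    Nat.card (P.B ⊓ P.N : Subgroup (twistedF4 K (2 ^ m)))
  have hcardT : Nat.card (P.B ⊓ P.N : Subgroup (twistedF4 K (2 ^ m))) = (2 ^ (2 * m + 1) - 1) ^ 2 := by
    have e : P.B ⊓ P.N = (chevF4.diagonalSubgroup K ⊓ twistedF4 K (2 ^ m)).subgroupOf (twistedF4 K (2 ^ m)) := by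
      ext g
      rw [Subgroup.mem_subgroupOf]
      exact ⟨fun hg => Subgroup.mem_inf.2 ⟨hTH g hg, g.2⟩, fun hg => hHT g (Subgroup.mem_inf.1 hg).1⟩
    rw [e, Nat.card_congr (Subgroup.subgroupOfEquivOfLe inf_le_right).toEquiv, card_H X]
  have hne : s₀ ≠ s₁ := fun e => by rw [e, hs₁] at hs₀; exact absurd hs₀ one_ne_zero
  have huniv : (Finset.univ : Finset P.S) = {s₀, s₁} := by
    refine (Finset.eq_univ_iff_forall.2 fun s => ?_).symm
    rw [Finset.mem_insert, Finset.mem_singleton]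
    rcases hcases s with e | e
    · exact Or.inl ((Gen.idx_bij X.O X.gen (Twist.F4.hne X) (hnJ X)).1 (Fin.ext (e.trans hs₀.symm)))
    · exact Or.inr ((Gen.idx_bij X.O X.gen (Twist.F4.hne X) (hnJ X)).1 (Fin.ext (e.trans hs₁.symm)))
  rw [huniv, Finset.prod_pair hne, hLs s₀ 0 (k0 X) hs₀, hLs s₁ 1 (k1 X) hs₁, hcardT, sq]
  exact Nat.mul_le_mul (card_tor_pair X (hzs 0 (k0 X)) hTH) (card_tor_class X hm (hzs 1 (k1 X)) hTH)

/-- The first subgroup of the series is the fixed unipotent group. -/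
theorem series_zero (hm : 1 ≤ m) : (series X hm).N 0 = UK chevF4 (twistedF4 K (2 ^ m)) := by
  show layN (lay X) 12 0 = _
  refine le_antisymm ((Subgroup.closure_le _).2 ?_) fun g hg => ?_
  · rintro _ ⟨i, -, hi, s, rfl⟩
    rw [SetLike.mem_coe, Subgroup.mem_subgroupOf, coe_lay X hi]
    exact wev_lw0 (m := m) i i hi s s ▸ wev_mem_U X _ (pos_ok i hi)
  · obtain ⟨d, hd⟩ := exists_Q X (Subgroup.mem_subgroupOf.1 hg) g.2
    rw [show g = _ from Subtype.ext (hd.trans (Q_eq_lay X d).symm)]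
    have hl : ∀ l < 12, ∀ s, lay X l s ∈ layN (lay X) 12 0 := fun l hl s =>
      Subgroup.subset_closure ⟨l, Nat.zero_le l, hl, s, rfl⟩
    exact mul_mem (mul_mem (mul_mem (mul_mem (mul_mem (mul_mem (mul_mem (hl 0 (by norm_num) _)
      (mul_mem (hl 2 (by norm_num) _) (hl 6 (by norm_num) _))) (hl 8 (by norm_num) _))
      (mul_mem (hl 4 (by norm_num) _) (hl 11 (by norm_num) _))) (hl 9 (by norm_num) _))
      (mul_mem (hl 5 (by norm_num) _) (hl 10 (by norm_num) _))) (hl 7 (by norm_num) _))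
      (mul_mem (hl 1 (by norm_num) _) (hl 3 (by norm_num) _))

end Cfsg.Agent.TwistMult.F4
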