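import Mathlib

/-!
Lifts of elements of prime power order through a central kernel of order prime to that prime, and the
subgroups they generate.
-/

set_option autoImplicit false
set_option linter.unusedSectionVars false

namespace Cfsg.Agent.TwistMult

variable {E G : Type*} [Group E] [Finite E] [Group G]

/-- The elements above a subgroup whose orders are powers of `p`, generating a subgroup. -/
def hat (p : ℕ) (π : E →* G) (S : Subgroup G) : Subgroup E :=
  Subgroup.closure {x | (∃ k, x ^ p ^ k = 1) ∧ π x ∈ S}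

/-- The generated subgroup meets the kernel trivially. -/
def Good (p : ℕ) (π : E →* G) (S : Subgroup G) : Prop := hat p π S ⊓ π.ker = ⊥

/-- A surjective homomorphism with central kernel of order prime to `p`. -/
structure Ctx (p : ℕ) (π : E →* G) : Prop where
  surj : Function.Surjective π
  cen : π.ker ≤ Subgroup.center E
  prime : p.Prime
  cop : ¬ p ∣ Nat.card π.ker

variable {p : ℕ} {π : E →* G} (h : Ctx p π)
include h

theorem exists_lift {y : G} {k : ℕ} (hy : y ^ p ^ k = 1) : ∃ x, x ^ p ^ k = 1 ∧ π x = y := by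
  obtain ⟨x, rfl⟩ := h.surj y
  have hz : x ^ p ^ k ∈ π.ker := by rw [MonoidHom.mem_ker, map_pow, hy]
  have hco : (Nat.card π.ker).Coprime (p ^ k) :=
    Nat.Coprime.pow_right _ ((h.prime.coprime_iff_not_dvd.2 h.cop).symm)
  obtain ⟨⟨w, hw⟩, hwz⟩ := (powCoprime hco).surjective ⟨_, hz⟩
  have hwz' : w ^ p ^ k = x ^ p ^ k := congrArg Subtype.val hwz
  have hcomm : Commute x w⁻¹ := Subgroup.mem_center_iff.1 (inv_mem (h.cen hw)) x
  refine ⟨x * w⁻¹, ?_, ?_⟩
  · rw [hcomm.mul_pow, inv_pow, hwz', mul_inv_cancel]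
  · rw [map_mul, map_inv, MonoidHom.mem_ker.1 hw, inv_one, mul_one]

theorem eq_one_of_pel {z : E} (hz : π z = 1) (hp : ∃ k, z ^ p ^ k = 1) : z = 1 := by
  obtain ⟨k, hk⟩ := hp
  have hco : (Nat.card π.ker).Coprime (p ^ k) :=
    Nat.Coprime.pow_right _ ((h.prime.coprime_iff_not_dvd.2 h.cop).symm)
  have h1 : orderOf z ∣ Nat.card π.ker := by
    have := orderOf_dvd_natCard (G := π.ker) ⟨z, hz⟩
    rwa [← Subgroup.orderOf_coe] at this
  exact orderOf_eq_one_iff.1 (Nat.eq_one_of_dvd_coprimes hco h1 (orderOf_dvd_of_pow_eq_one hk))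

theorem lift_unique {x y : E} (hx : ∃ k, x ^ p ^ k = 1) (hy : ∃ k, y ^ p ^ k = 1) (e : π x = π y) :
    x = y := by
  obtain ⟨a, ha⟩ := hx
  obtain ⟨b, hb⟩ := hy
  obtain ⟨z, hz⟩ : ∃ z, z = x * y⁻¹ := ⟨_, rfl⟩
  have hzk : π z = 1 := by rw [hz, map_mul, map_inv, e, mul_inv_cancel]
  have hxy : Commute z y := (Subgroup.mem_center_iff.1 (h.cen hzk) y).symm
  have e1 : z * y = x := by rw [hz, inv_mul_cancel_right]
  have h2 : z ^ p ^ (a + b) = 1 := by
    have h3 : x ^ p ^ (a + b) = 1 := by rw [pow_add, pow_mul, ha, one_pow]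
    have h4 : y ^ p ^ (a + b) = 1 := by rw [pow_add, mul_comm, pow_mul, hb, one_pow]
    rwa [← e1, hxy.mul_pow, h4, mul_one] at h3
  rw [← e1, eq_one_of_pel h hzk ⟨_, h2⟩, one_mul]

omit h in
theorem hat_mem_image {S : Subgroup G} {x : E} (hx : x ∈ hat p π S) : π x ∈ S := by
  induction hx using Subgroup.closure_induction with
  | mem x hx => exact hx.2
  | one => rw [map_one]; exact one_mem _
  | mul x y _ _ ha hb => rw [map_mul]; exact mul_mem ha hb
  | inv x _ ha => rw [map_inv]; exact inv_mem ha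

omit h in
theorem hat_mono {S S' : Subgroup G} (hle : S ≤ S') : hat p π S ≤ hat p π S' :=
  Subgroup.closure_mono fun _ hx => ⟨hx.1, hle hx.2⟩

omit h in
/-- Conjugation carries one generated subgroup into another. -/
theorem conj_mem_hat {S S' : Subgroup G} {e x : E} (hS : ∀ s ∈ S, π e * s * (π e)⁻¹ ∈ S')
    (hx : x ∈ hat p π S) : e * x * e⁻¹ ∈ hat p π S' := by
  induction hx using Subgroup.closure_induction with
  | mem x hx =>
    obtain ⟨⟨k, hk⟩, hxS⟩ := hx
    refine Subgroup.subset_closure ⟨⟨k, ?_⟩, ?_⟩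
    · rw [← MulAut.conj_apply, ← map_pow, hk, map_one]
    · rw [map_mul, map_mul, map_inv]; exact hS _ hxS
  | one => rw [mul_one, mul_inv_cancel]; exact one_mem _
  | mul x y _ _ ha hb =>
    rw [show e * (x * y) * e⁻¹ = e * x * e⁻¹ * (e * y * e⁻¹) by group]; exact mul_mem ha hb
  | inv x _ ha => rw [show e * x⁻¹ * e⁻¹ = (e * x * e⁻¹)⁻¹ by group]; exact inv_mem ha

omit h in
theorem eq_of_good {S : Subgroup G} (hS : Good p π S) {x y : E} (hx : x ∈ hat p π S) (hy : y ∈ hat p π S)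
    (e : π x = π y) : x = y := by
  have h1 : x * y⁻¹ ∈ hat p π S ⊓ π.ker :=
    Subgroup.mem_inf.2 ⟨mul_mem hx (inv_mem hy),
      by rw [MonoidHom.mem_ker, map_mul, map_inv, e, mul_inv_cancel]⟩
  rw [hS, Subgroup.mem_bot] at h1
  exact mul_inv_eq_one.1 h1

/-- A subgroup generated by elements of `p`-power order is the image of its lifts. -/
theorem exists_mem_hat {S : Subgroup G} (hS : S ≤ Subgroup.closure {y | y ∈ S ∧ ∃ k, y ^ p ^ k = 1}) {y : G}
    (hy : y ∈ S) : ∃ x ∈ hat p π S, π x = y := by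
  have hle : Subgroup.closure {y | y ∈ S ∧ ∃ k, y ^ p ^ k = 1} ≤ (hat p π S).map π := by
    rw [Subgroup.closure_le]
    rintro z ⟨hz, k, hk⟩
    obtain ⟨x, hx, rfl⟩ := exists_lift h hk
    exact ⟨x, Subgroup.subset_closure ⟨⟨k, hx⟩, hz⟩, rfl⟩
  exact hle (hS hy)

omit h in
theorem pgroup_gen {U : Subgroup G} (hU : IsPGroup p U) :
    U ≤ Subgroup.closure {y | y ∈ U ∧ ∃ k, y ^ p ^ k = 1} := fun y hy => by
  obtain ⟨k, hk⟩ := hU ⟨y, hy⟩
  exact Subgroup.subset_closure ⟨hy, k, congrArg Subtype.val hk⟩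

omit h in
theorem sup_gen {S S' : Subgroup G} (h1 : S ≤ Subgroup.closure {y | y ∈ S ∧ ∃ k, y ^ p ^ k = 1})
    (h2 : S' ≤ Subgroup.closure {y | y ∈ S' ∧ ∃ k, y ^ p ^ k = 1}) :
    S ⊔ S' ≤ Subgroup.closure {y | y ∈ S ⊔ S' ∧ ∃ k, y ^ p ^ k = 1} :=
  sup_le (h1.trans (Subgroup.closure_mono fun _ hy => ⟨Subgroup.mem_sup_left hy.1, hy.2⟩))
    (h2.trans (Subgroup.closure_mono fun _ hy => ⟨Subgroup.mem_sup_right hy.1, hy.2⟩))

/-- A `p`-subgroup has a unique lift. -/
theorem good_pgroup [Finite G] {U : Subgroup G} (hU : IsPGroup p U) :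
    Good p π U ∧ ∀ x ∈ hat p π U, ∃ k, x ^ p ^ k = 1 := by
  haveI : Fact p.Prime := ⟨h.prime⟩
  obtain ⟨Q⟩ : Nonempty (Sylow p (U.comap π)) := inferInstance
  have hQimg : (Q : Subgroup (U.comap π)).map ((π.comp (U.comap π).subtype)) = U := by
    let f : U.comap π →* U := (π.comp (U.comap π).subtype).codRestrict U fun x => x.2
    have hf : Function.Surjective f := fun u => by
      obtain ⟨x, hx⟩ := h.surj u.1
      exact ⟨⟨x, show π x ∈ U from hx ▸ u.2⟩, Subtype.ext hx⟩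
    have h1 := (Q.mapSurjective hf).is_maximal' (show IsPGroup p (⊤ : Subgroup U) from
      hU.of_equiv Subgroup.topEquiv.symm) le_top
    have h2 : (Q : Subgroup (U.comap π)).map f = ⊤ := h1.symm
    have h3 := congrArg (Subgroup.map U.subtype) h2
    rw [Subgroup.map_map, ← MonoidHom.range_eq_map, Subgroup.range_subtype] at h3
    exact h3
  have hQp : ∀ x ∈ (Q : Subgroup (U.comap π)), ∃ k, (x : E) ^ p ^ k = 1 := fun x hx => by
    obtain ⟨k, hk⟩ := Q.isPGroup' ⟨x, hx⟩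
    exact ⟨k, congrArg (fun y : (Q : Subgroup (U.comap π)) => ((y : U.comap π) : E)) hk⟩
  have hle : hat p π U ≤ (Q : Subgroup (U.comap π)).map (U.comap π).subtype := by
    rw [hat, Subgroup.closure_le]
    rintro x ⟨hx, hxU⟩
    obtain ⟨y, hy, e⟩ := hQimg.ge hxU
    exact ⟨y, hy, lift_unique h (hQp y hy) hx e⟩
  have hp : ∀ x ∈ hat p π U, ∃ k, x ^ p ^ k = 1 := fun x hx => by
    obtain ⟨y, hy, rfl⟩ := hle hx
    exact hQp y hy
  refine ⟨?_, hp⟩
  rw [Good, eq_bot_iff]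
  rintro x ⟨hx, hk⟩
  exact eq_one_of_pel h hk (hp x hx)

end Cfsg.Agent.TwistMult
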