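import Cfsg.Agent.SimpleFacts.SLTwoMultiplier
import Cfsg.Agent.Lib.TwistMult.Hat

/-!
A stem extension that splits over a Sylow subgroup has no kernel of that prime.
-/

set_option autoImplicit false

namespace Cfsg.Agent.TwistMult

open Cfsg.Agent.SimpleFacts.SLTwoMultiplier

variable {E G : Type*} [Group E] [Finite E] [Group G]

/-- The kernel of a stem extension split over a Sylow subgroup has order prime to its prime. -/
theorem not_dvd_ker {π : E →* G} (hπ : Cfsg.IsStemExtension π) {p : ℕ} [Fact p.Prime] (U : Sylow p G)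
    (h : ∃ W : Subgroup E, W ⊓ π.ker = ⊥ ∧ W.map π = (U : Subgroup G)) : ¬ p ∣ Nat.card π.ker := by
  obtain ⟨W, hW, hWU⟩ := h
  intro hdvd
  obtain ⟨y, hy⟩ := exists_prime_orderOf_dvd_card' (G := π.ker) p hdvd
  have hy1 : (y : E) ^ p = 1 := by
    have := congrArg Subtype.val (hy ▸ pow_orderOf_eq_one y : y ^ p = 1)
    rwa [Subgroup.coe_pow] at this
  have hM : IsPGroup p (Subgroup.zpowers (y : E) ⊔ W : Subgroup E) := by
    intro x
    have hn : W ≤ Subgroup.normalizer (Subgroup.zpowers (y : E) : Set E) := fun w _ => by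
      rw [Subgroup.mem_normalizer_iff]
      intro z
      have hz : ∀ z ∈ Subgroup.zpowers (y : E), ∀ g : E, g * z * g⁻¹ = z := fun z hz g => by
        have hc : z ∈ Subgroup.center E := hπ.2.1 ((Subgroup.zpowers_le.2 y.2) hz)
        rw [Subgroup.mem_center_iff.1 hc g, mul_inv_cancel_right]
      refine ⟨fun h => (hz z h w).symm ▸ h, fun h => ?_⟩
      have e := hz _ h w⁻¹
      rw [inv_inv, show w⁻¹ * (w * z * w⁻¹) * w = z by group] at e
      exact e ▸ h
    obtain ⟨a, ha, b, hb, e⟩ : ∃ a ∈ Subgroup.zpowers (y : E), ∃ b ∈ W, (x : E) = a * b := by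
      have hx : (x : E) ∈ ((Subgroup.zpowers (y : E) ⊔ W : Subgroup E) : Set E) := x.2
      rw [Subgroup.coe_mul_of_right_le_normalizer_left _ _ hn] at hx
      obtain ⟨a, ha, b, hb, e⟩ := hx
      exact ⟨a, ha, b, hb, e.symm⟩
    obtain ⟨k, hk⟩ := U.isPGroup' ⟨π b, by rw [← hWU]; exact Subgroup.mem_map_of_mem π hb⟩
    have hbk : b ^ p ^ k = 1 := by
      have h1 : b ^ p ^ k ∈ W ⊓ π.ker := by
        refine Subgroup.mem_inf.2 ⟨pow_mem hb _, MonoidHom.mem_ker.2 ?_⟩
        rw [map_pow]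
        exact congrArg Subtype.val hk
      rwa [hW, Subgroup.mem_bot] at h1
    have hap : a ^ p = 1 := by
      obtain ⟨i, rfl⟩ := Subgroup.mem_zpowers_iff.1 ha
      rw [← zpow_natCast, zpow_comm, zpow_natCast, hy1, one_zpow]
    refine ⟨k + 1, Subtype.ext ?_⟩
    have hc : Commute a b :=
      (Subgroup.mem_center_iff.1 (hπ.2.1 ((Subgroup.zpowers_le.2 y.2) ha)) b).symm
    rw [Subgroup.coe_pow, e, hc.mul_pow, pow_succ, pow_mul b, hbk, one_pow, mul_one, mul_comm, pow_mul, hap,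
      one_pow]
    rfl
  obtain ⟨P, hP⟩ := hM.exists_le_sylow
  have hle : (P : Subgroup E).map π ≤ (U : Subgroup G) :=
    (U.is_maximal' (P.isPGroup'.map π) (hWU ▸ Subgroup.map_mono (le_sup_right.trans hP))).le
  have hsplit : ∀ a ∈ (P : Subgroup E), ∃ k ∈ π.ker, ∃ w ∈ W, a = k * w := fun a ha => by
    obtain ⟨w, hw, e⟩ : π a ∈ W.map π := hWU.symm ▸ hle (Subgroup.mem_map_of_mem π ha)
    exact ⟨a * w⁻¹, by rw [MonoidHom.mem_ker, map_mul, map_inv, e, mul_inv_cancel], w, hw,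
      (inv_mul_cancel_right a w).symm⟩
  have hyP : (y : E) ∈ (P : Subgroup E) := hP (Subgroup.mem_sup_left (Subgroup.mem_zpowers _))
  have h1 := mem_commutator_sylow P (hπ.2.1 y.2) (hπ.2.2 y.2) hyP
  have hcle : commutator (P : Subgroup E) ≤ W.subgroupOf (P : Subgroup E) := by
    rw [commutator_def, Subgroup.commutator_le]
    rintro ⟨a, ha⟩ _ ⟨b, hb⟩ _
    obtain ⟨k, hk, w, hw, rfl⟩ := hsplit a ha
    obtain ⟨k', hk', w', hw', rfl⟩ := hsplit b hb
    rw [Subgroup.mem_subgroupOf]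
    show k * w * (k' * w') * (k * w)⁻¹ * (k' * w')⁻¹ ∈ W
    have c1 := Subgroup.mem_center_iff.1 (hπ.2.1 hk)
    have c2 := Subgroup.mem_center_iff.1 (hπ.2.1 hk')
    have e : k * w * (k' * w') * (k * w)⁻¹ * (k' * w')⁻¹ = w * w' * w⁻¹ * w'⁻¹ := by
      calc k * w * (k' * w') * (k * w)⁻¹ * (k' * w')⁻¹
          = k * (w * k') * w' * w⁻¹ * k⁻¹ * w'⁻¹ * k'⁻¹ := by group
        _ = k * k' * (w * w' * w⁻¹) * k⁻¹ * w'⁻¹ * k'⁻¹ := by rw [c2 w]; group
        _ = k * (k' * (w * w' * w⁻¹)) * k⁻¹ * w'⁻¹ * k'⁻¹ := by group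
        _ = k' * (w * w' * w⁻¹) * w'⁻¹ * k'⁻¹ := by rw [← c1]; group
        _ = _ := by rw [mul_assoc k', ← c2]; group
    rw [e]
    exact mul_mem (mul_mem (mul_mem hw hw') (inv_mem hw)) (inv_mem hw')
  have hyW : (y : E) ∈ W ⊓ π.ker := Subgroup.mem_inf.2 ⟨hcle h1, y.2⟩
  rw [hW, Subgroup.mem_bot] at hyW
  rw [show y = 1 from Subtype.ext hyW, orderOf_one] at hy
  exact (Fact.out : p.Prime).one_lt.ne hy

/-- A stem extension of a perfect group is perfect. -/
theorem perfect_of_stem {π : E →* G} (hπ : Cfsg.IsStemExtension π) (hG : commutator G = ⊤) :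
    commutator E = ⊤ := by
  rw [eq_top_iff]
  intro x _
  have h1 : π x ∈ (commutator E).map π := by
    rw [commutator_def, Subgroup.map_commutator, Subgroup.map_top_of_surjective π hπ.1, ← commutator_def, hG]
    exact Subgroup.mem_top _
  obtain ⟨c, hc, e⟩ := h1
  have h2 : c⁻¹ * x ∈ commutator E := hπ.2.2 (by
    rw [MonoidHom.mem_ker, map_mul, map_inv, e, inv_mul_cancel])
  have := mul_mem hc h2
  rwa [mul_inv_cancel_left] at this

end Cfsg.Agent.TwistMult
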