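import Cfsg.Agent.Lib.TwistMult.Series
import Cfsg.Agent.Lib.TwistMult.PPart
import Cfsg.Agent.Lib.TwistMult.F4Data

/-!
A central extension of a large Ree group of type F4 splits over a Sylow two-subgroup.
-/

set_option autoImplicit false
set_option linter.unusedSectionVars false

namespace Cfsg.Agent.TwistMult.F4

open Cfsg.Lie Cfsg.Agent.Chevalley Cfsg.Agent.Chevalley.Table Cfsg.Agent.Chevalley.Cert
  Cfsg.Agent.Chevalley.Group Cfsg.Agent.Chevalley.Unip Cfsg.Agent.Chevalley.Borel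
  Cfsg.Agent.Chevalley.Twist Cfsg.Agent.Chevalley.Twist.F4 Cfsg.Agent.Chevalley.Twist.F4.Collect
  Cfsg.Agent.Chevalley.Twist.F4.Invol
open scoped commutatorElement

attribute [local irreducible] xg Po

variable {K : Type*} [Field K] [CharP K 2] {m : ℕ}

/-- The second parameter of a layer element. -/
def par (m k : ℕ) (s : K) : K := s ^ (if kind.getD k 0 = 2 then 2 * 2 ^ m else 2 ^ m)

/-- The element of a layer. -/
noncomputable def el (m k : ℕ) (s : K) : GL chevF4.Idx K :=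
  let i := base.getD k 0
  if kind.getD k 0 = 0 then PX m i s
  else if kind.getD k 0 = 1 then SX m i s 0
  else SX m i 0 s

theorem wev_lwp (v : ℕ → K) (k : ℕ) (hk : k < 12) (p p' : Poly) {s : K} (h : pev v p = s)
    (h' : pev v p' = par m k s) : wev v (lwp k p p') = el m k s := by
  have hE : (2 : ℕ) * 2 ^ m ≠ 0 := by positivity
  have hkind : kind.getD k 0 = 0 ∨ kind.getD k 0 = 1 ∨ kind.getD k 0 = 2 := by
    have : ∀ k < 12, kind.getD k 0 = 0 ∨ kind.getD k 0 = 1 ∨ kind.getD k 0 = 2 := by decide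
    exact this k hk
  rcases hkind with e | e | e <;> rw [par, e] at h' <;>
    simp only [lwp, el, e, ↓reduceIte, show (1 : ℕ) ≠ 0 by decide, show (2 : ℕ) ≠ 0 by decide,
      show (2 : ℕ) ≠ 1 by decide, show (0 : ℕ) ≠ 2 by decide, show (1 : ℕ) ≠ 2 by decide] at h' ⊢ <;>
    simp [wev, PX, SX, h, h', pev_mulP, xg_zero hC, zero_pow, mul_assoc, pow_succ, mul_comm s]

/-- The valuation with two parameters. -/
def v4 (m k l : ℕ) (s t : K) : ℕ → K := fun j => [s, par m k s, t, par m l t].getD j 0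

theorem wev_lw0 (k l : ℕ) (hk : k < 12) (s t : K) : wev (v4 m k l s t) (lw k 0) = el m k s :=
  wev_lwp _ k hk _ _ (by simp [pev, mev, v4]) (by simp [pev, mev, v4])

theorem wev_lw2 (k l : ℕ) (hl : l < 12) (s t : K) : wev (v4 m k l s t) (lw l 2) = el m l t :=
  wev_lwp _ l hl _ _ (by simp [pev, mev, v4]) (by simp [pev, mev, v4])

theorem par_add (k : ℕ) (s t : K) : par m k (s + t) = par m k s + par m k t := by
  haveI : Fact (Nat.Prime 2) := ⟨Nat.prime_two⟩
  rw [par, par, par]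
  split
  · rw [show 2 * 2 ^ m = 2 ^ (m + 1) by ring]
    exact add_pow_char_pow s t 2 (m + 1)
  · exact add_pow_char_pow s t 2 m

theorem par_zero (k : ℕ) : par m k (0 : K) = 0 := by
  rw [par]; exact zero_pow (by split <;> positivity)

theorem el_zero (k : ℕ) : el m k (0 : K) = 1 := by
  have hE : (2 : ℕ) * 2 ^ m ≠ 0 := by positivity
  simp only [el]
  split
  · simp [PX, xg_zero hC, zero_pow]
  · split <;> simp [SX, xg_zero hC, zero_pow]

theorem SX_split (i : ℕ) (hi : i ∈ [2, 8, 14, 20]) (t u : K) : SX m i t u = SX m i t 0 * SX m i 0 u := by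
  have hE : (2 : ℕ) * 2 ^ m ≠ 0 := by positivity
  simp only [SX, zero_pow hE, zero_pow (pow_ne_zero m two_ne_zero), add_zero, xo, xg_zero hC, one_mul,
    mul_one, zero_pow (show 2 ^ m + 1 ≠ 0 by omega), zero_add, mul_assoc]
  rw [xg_add hC]
  simp only [mul_assoc]

variable [Fintype K] {hK : Fintype.card K = 2 ^ (2 * m + 1)} (X : Setup (K := K) (m := m) hK)
include X

theorem el_mem (k : ℕ) (hk : k < 12) (s : K) : el m k s ∈ twistedF4 K (2 ^ m) := by
  simp only [el]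
  have h0 : ∀ k < 12, kind.getD k 0 = 0 → base.getD k 0 ∈ [0, 6, 12, 18] := by decide
  have h1 : ∀ k < 12, kind.getD k 0 ≠ 0 → base.getD k 0 ∈ [2, 8, 14, 20] := by decide
  split
  · next h => exact PX_mem X _ (h0 k hk h) s
  · next h => split <;> exact SX_mem X _ (h1 k hk h) _ _

/-- A layer element of the group. -/
noncomputable def lay (k : ℕ) (s : K) : twistedF4 K (2 ^ m) :=
  if hk : k < 12 then ⟨el m k s, el_mem X k hk s⟩ else 1

theorem coe_lay {k : ℕ} (hk : k < 12) (s : K) : (lay X k s : GL chevF4.Idx K) = el m k s := by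
  rw [lay, dif_pos hk]

omit X in
/-- The field of a layer in the coordinates. -/
def fld (d : Cd K) (k : ℕ) : K :=
  [d.a, d.ht, d.bt, d.hu, d.dt, d.ft, d.bu, d.g, d.c, d.e, d.fu, d.du].getD k 0

omit X [Fintype K] in
theorem fld_eq {d : Cd K} {M : ℕ} (hM : M < 12) (h : ∀ x ∈ zps M, Qf m d x.1 = 0) :
    ∀ l ≤ M, fld d l = 0 := by
  have hl : ∀ l ≤ M, Qf m d (prim.getD l 0) = 0 := fun l hl =>
    h (prim.getD l 0, []) (List.mem_map.2 ⟨l, List.mem_range.2 (by omega), rfl⟩)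
  have h1 : ∀ l ≤ M, l ∈ [0, 1, 2, 4, 5, 7, 8, 9] → fld d l = 0 := by
    intro l hl' hm
    have := hl l hl'
    fin_cases hm <;> simpa [fld, Qf] using this
  intro l hl'
  have := hl l hl'
  by_cases hm : l ∈ [0, 1, 2, 4, 5, 7, 8, 9]
  · exact h1 l hl' hm
  obtain rfl | rfl | rfl | rfl : l = 3 ∨ l = 6 ∨ l = 10 ∨ l = 11 := by
    simp only [List.mem_cons, List.not_mem_nil, or_false] at hm
    omega
  · have e := h1 1 (by omega) (by simp)
    simp [fld, Qf] at this e ⊢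
    simpa [e, zero_pow] using this
  · have e := h1 2 (by omega) (by simp)
    simp [fld, Qf] at this e ⊢
    simpa [e, zero_pow] using this
  · have e := h1 5 (by omega) (by simp)
    simp [fld, Qf] at this e ⊢
    simpa [e, zero_pow] using this
  · have e := h1 4 (by omega) (by simp)
    simp [fld, Qf] at this e ⊢
    simpa [e, zero_pow] using this

theorem Q_eq_lay (d : Cd K) : ((lay X 0 d.a * (lay X 2 d.bt * lay X 6 d.bu) * lay X 8 d.c *
    (lay X 4 d.dt * lay X 11 d.du) * lay X 9 d.e * (lay X 5 d.ft * lay X 10 d.fu) * lay X 7 d.g *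
    (lay X 1 d.ht * lay X 3 d.hu) : twistedF4 K (2 ^ m)) : GL chevF4.Idx K) = Q m d := by
  have hk : ∀ {k : ℕ}, k < 12 → ∀ s : K, (lay X k s : GL chevF4.Idx K) = el m k s := fun h s => coe_lay X h s
  simp only [Subgroup.coe_mul, hk (show (0 : ℕ) < 12 by norm_num), hk (show (1 : ℕ) < 12 by norm_num),
    hk (show (2 : ℕ) < 12 by norm_num), hk (show (3 : ℕ) < 12 by norm_num),
    hk (show (4 : ℕ) < 12 by norm_num), hk (show (5 : ℕ) < 12 by norm_num),
    hk (show (6 : ℕ) < 12 by norm_num), hk (show (7 : ℕ) < 12 by norm_num),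
    hk (show (8 : ℕ) < 12 by norm_num), hk (show (9 : ℕ) < 12 by norm_num),
    hk (show (10 : ℕ) < 12 by norm_num), hk (show (11 : ℕ) < 12 by norm_num)]
  rw [Q, SX_split 2 (by simp) d.bt, SX_split 8 (by simp) d.dt, SX_split 14 (by simp) d.ft,
    SX_split 20 (by simp) d.ht]
  simp [el]

/-- An element whose first primary coordinates vanish lies in the later layers. -/
theorem mem_layN {M : ℕ} (hM : M < 12) {d : Cd K} (h : ∀ x ∈ zps M, Qf m d x.1 = 0)
    {g : twistedF4 K (2 ^ m)} (hg : (g : GL chevF4.Idx K) = Q m d) : g ∈ layN (lay X) 12 (M + 1) := by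
  have hf := fld_eq hM h
  have hl : ∀ l < 12, lay X l (fld d l) ∈ layN (lay X) 12 (M + 1) := by
    intro l hl
    rcases Nat.lt_or_ge M l with hlt | hge
    · exact Subgroup.subset_closure ⟨l, hlt, hl, _, rfl⟩
    · have : lay X l (fld d l) = 1 := Subtype.ext (by rw [coe_lay X hl, hf l hge, el_zero]; rfl)
      rw [this]; exact one_mem _
  rw [show g = _ from Subtype.ext (hg.trans (Q_eq_lay X d).symm)]
  exact mul_mem (mul_mem (mul_mem (mul_mem (mul_mem (mul_mem (mul_mem (hl 0 (by norm_num))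
    (mul_mem (hl 2 (by norm_num)) (hl 6 (by norm_num)))) (hl 8 (by norm_num)))
    (mul_mem (hl 4 (by norm_num)) (hl 11 (by norm_num)))) (hl 9 (by norm_num)))
    (mul_mem (hl 5 (by norm_num)) (hl 10 (by norm_num)))) (hl 7 (by norm_num)))
    (mul_mem (hl 1 (by norm_num)) (hl 3 (by norm_num)))

theorem mem_of_chk (v : ℕ → K) {w : Word} {M : ℕ} (hM : M < 12) (h : chk w (zps M) = true)
    {g : twistedF4 K (2 ^ m)} (hg : (g : GL chevF4.Idx K) = wev v w) : g ∈ layN (lay X) 12 (M + 1) := by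
  obtain ⟨d, hd⟩ := exists_Q X (hg ▸ wev_mem_U X v h) g.2
  refine mem_layN X hM (fun x hx => ?_) hd
  rw [coords X v h (hg.symm.trans hd) x hx]
  obtain ⟨l, -, rfl⟩ := List.mem_map.1 hx
  rfl

omit X in
/-- The exponents of the two torus parameters in a root character. -/
def ex (m p : ℕ) : ℤ × ℤ := ((2 ^ m : ℤ) * ca 0 p + ca 3 p, (2 ^ m : ℤ) * ca 1 p + ca 2 p)

omit X in
/-- The scalar by which a torus element acts at a position. -/
def chi (m p : ℕ) (xy : Kˣ × Kˣ) : Kˣ := xy.1 ^ (ex m p).1 * xy.2 ^ (ex m p).2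

omit X [Fintype K] in
theorem char_pos (xy : Kˣ × Kˣ) (p : ℕ) : torChar chevF4 (tp m xy.1 xy.2) (ord.getD p 0) = chi m p xy := by
  obtain ⟨x, y⟩ := xy
  show ∏ i ∈ Finset.range 4, tp m x y i ^ chevF4.cartan i (ord.getD p 0) = _
  simp only [chi, ex, ca, Finset.prod_range_succ, Finset.prod_range_zero, one_mul, tp, ↓reduceIte,
    show (1 : ℕ) ≠ 0 by decide, show (2 : ℕ) ≠ 0 by decide, show (2 : ℕ) ≠ 1 by decide,
    show (3 : ℕ) ≠ 0 by decide, show (3 : ℕ) ≠ 1 by decide, show (3 : ℕ) ≠ 2 by decide]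
  rw [zpow_add, zpow_add, zpow_mul, zpow_mul, show (2 ^ m : ℤ) = ((2 ^ m : ℕ) : ℤ) by push_cast; rfl,
    zpow_natCast, zpow_natCast]
  simp only [mul_comm, mul_left_comm, mul_assoc]

/-- The torus element with given parameters. -/
noncomputable def tgen (xy : Kˣ × Kˣ) : twistedF4 K (2 ^ m) := ⟨_, tp_mem X xy.1 xy.2⟩

theorem conj_xo (xy : Kˣ × Kˣ) {p : ℕ} (hp : p < 24) (s : K) :
    tor chevF4 (tp m xy.1 xy.2) * xo p s * (tor chevF4 (tp m xy.1 xy.2))⁻¹ = xo p ((chi m p xy : K) * s) := by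
  rw [← char_pos xy p]
  exact tor_conj_x hC _ _ _ (ord_lt p hp)

omit X in
theorem zpow_q (hK : Fintype.card K = 2 ^ (2 * m + 1)) (a : Kˣ) (n : ℤ) :
    a ^ (2 * ((2 : ℤ) ^ m * 2 ^ m) * n) = a ^ n := by
  rw [zpow_mul]
  congr 1
  refine Units.ext ?_
  rw [show (2 : ℤ) * (2 ^ m * 2 ^ m) = ((2 * (2 ^ m * 2 ^ m) : ℕ) : ℤ) by push_cast; rfl, zpow_natCast,
    Units.val_pow_eq_pow_val, pow_q hK]

omit X in
theorem chi_pow (hK : Fintype.card K = 2 ^ (2 * m + 1)) {r r' : ℕ} (h : (r, r') ∈ [(0, 1), (6, 7), (12, 13), (18, 19), (3, 2), (9, 8), (15, 14),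
    (21, 20), (5, 4), (11, 10), (17, 16), (23, 22)]) (xy : Kˣ × Kˣ) :
    chi m r' xy = chi m r xy ^ 2 ^ m ∧ chi m r xy = chi m r' xy ^ (2 * 2 ^ m) := by
  obtain ⟨-, -, h0, h1, h2, h3⟩ := rel_pair _ h
  simp only at h0 h1 h2 h3
  have key : chi m r' xy = chi m r xy ^ 2 ^ m := by
    rw [← zpow_natCast, chi, chi, mul_zpow, ← zpow_mul, ← zpow_mul]
    simp only [ex, h0, h1, h2, h3, Nat.cast_pow, Nat.cast_ofNat]
    rw [show ((2 : ℤ) ^ m * (2 * ca 3 r') + ca 3 r) * 2 ^ m =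
        2 * (2 ^ m * 2 ^ m) * ca 3 r' + 2 ^ m * ca 3 r by ring,
      show ((2 : ℤ) ^ m * (2 * ca 2 r') + ca 2 r) * 2 ^ m =
        2 * (2 ^ m * 2 ^ m) * ca 2 r' + 2 ^ m * ca 2 r by ring,
      zpow_add xy.1 (2 * _ * _), zpow_add xy.2 (2 * _ * _), zpow_q hK, zpow_q hK, ← zpow_add, ← zpow_add,
      add_comm (ca 3 r'), add_comm (ca 2 r')]
  refine ⟨key, ?_⟩
  rw [key, ← pow_mul]
  refine Units.ext ?_
  rw [Units.val_pow_eq_pow_val, show 2 ^ m * (2 * 2 ^ m) = 2 * (2 ^ m * 2 ^ m) by ring, pow_q hK]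

omit X [Fintype K] in
theorem chi_sum {i : ℕ} (hi : i ∈ [2, 8, 14, 20]) (xy : Kˣ × Kˣ) :
    chi m (i + 2) xy = chi m i xy * chi m (i + 1) xy := by
  have h := rel_sum i hi
  simp only [chi, ex, h 0 (by norm_num), h 1 (by norm_num), h 2 (by norm_num), h 3 (by norm_num)]
  rw [mul_mul_mul_comm, ← zpow_add, ← zpow_add]
  ring_nf

theorem conj_lay {k : ℕ} (hk : k < 12) (xy : Kˣ × Kˣ) (s : K) :
    tgen X xy * lay X k s * (tgen X xy)⁻¹ = lay X k ((chi m (prim.getD k 0) xy : K) * s) := by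
  refine Subtype.ext ?_
  rw [Subgroup.coe_mul, Subgroup.coe_mul, Subgroup.coe_inv, coe_lay X hk, coe_lay X hk]
  obtain ⟨c, hc⟩ : ∃ c, c = tor chevF4 (tp m xy.1 xy.2) := ⟨_, rfl⟩
  have htg : (tgen X xy : GL chevF4.Idx K) = c := hc.symm
  rw [htg]
  have hh : ∀ a b : GL chevF4.Idx K, c * (a * b) * c⁻¹ = c * a * c⁻¹ * (c * b * c⁻¹) := fun a b => by group
  have hx : ∀ {p}, p < 24 → ∀ s, c * xo p s * c⁻¹ = xo p ((chi m p xy : K) * s) := fun hp s =>
    hc ▸ conj_xo X xy hp s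
  have hP : ∀ i ∈ [0, 6, 12, 18], c * PX m i s * c⁻¹ = PX m i ((chi m i xy : K) * s) := by
    intro i hi
    have hr : (i, i + 1) ∈ [(0, 1), (6, 7), (12, 13), (18, 19), (3, 2), (9, 8), (15, 14), (21, 20), (5, 4),
        (11, 10), (17, 16), (23, 22)] ∧ i + 1 < 24 := by revert i; decide
    rw [PX, PX, hh, hx (by omega), hx hr.2, (chi_pow hK hr.1 xy).1, Units.val_pow_eq_pow_val, mul_pow]
  have hS : ∀ i ∈ [2, 8, 14, 20], ∀ t u, c * SX m i t u * c⁻¹ =
      SX m i ((chi m (i + 1) xy : K) * t) ((chi m (i + 2) xy : K) * u) := by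
    intro i hi t u
    have hr : ((i + 1, i) ∈ [(0, 1), (6, 7), (12, 13), (18, 19), (3, 2), (9, 8), (15, 14), (21, 20), (5, 4),
        (11, 10), (17, 16), (23, 22)] ∧ (i + 3, i + 2) ∈ [(0, 1), (6, 7), (12, 13), (18, 19), (3, 2), (9, 8),
        (15, 14), (21, 20), (5, 4), (11, 10), (17, 16), (23, 22)]) ∧ i + 3 < 24 := by revert i; decide
    rw [SX, SX, hh, hh, hh, hx (by omega), hx (by omega), hx (by omega), hx hr.2]
    congr 1
    · rw [(chi_pow hK hr.1.1 xy).1, Units.val_pow_eq_pow_val, mul_pow]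
    · congr 1
      · congr 1
        rw [mul_add, mul_pow]
        congr 1
        rw [chi_sum hi, (chi_pow hK hr.1.1 xy).1, Units.val_mul, Units.val_pow_eq_pow_val, pow_succ,
          pow_succ]
      · congr 1
        rw [(chi_pow hK hr.1.2 xy).2, Units.val_pow_eq_pow_val, mul_pow]
  have hdat : ∀ k < 12, (kind.getD k 0 = 0 ∧ prim.getD k 0 = base.getD k 0 ∧ base.getD k 0 ∈ [0, 6, 12, 18]) ∨
      (kind.getD k 0 = 1 ∧ prim.getD k 0 = base.getD k 0 + 1 ∧ base.getD k 0 ∈ [2, 8, 14, 20]) ∨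
      (kind.getD k 0 = 2 ∧ prim.getD k 0 = base.getD k 0 + 2 ∧ base.getD k 0 ∈ [2, 8, 14, 20]) := by decide
  rcases hdat k hk with ⟨e, ep, hb⟩ | ⟨e, ep, hb⟩ | ⟨e, ep, hb⟩ <;>
    simp only [el, e, ep, ↓reduceIte, show (1 : ℕ) ≠ 0 by decide, show (2 : ℕ) ≠ 0 by decide,
      show (2 : ℕ) ≠ 1 by decide]
  · exact hP _ hb
  · rw [hS _ hb, mul_zero]
  · rw [hS _ hb, mul_zero]

end Cfsg.Agent.TwistMult.F4
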