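import Cfsg.Agent.Lib.BN.Basic

/-!
A (B, N)-pair with other representatives of the same involutions.
-/

set_option autoImplicit false

namespace Cfsg.Agent.TwistMult

open scoped Pointwise

variable {G : Type*} [Group G]

/-- The pair with the representatives changed by elements of `B ⊓ N`. -/
noncomputable def reSign (P : Cfsg.BNPair G) (f : P.S → G) (hf : ∀ s, f s * (s : G)⁻¹ ∈ P.B ⊓ P.N) :
    Cfsg.BNPair G where
  B := P.B
  N := P.N
  S := Set.range f
  sup_eq_top := P.sup_eq_top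
  conj_mem := P.conj_mem
  subset := by
    rintro _ ⟨s, rfl⟩
    have := mul_mem (hf s).2 (P.subset s.2)
    rwa [inv_mul_cancel_right] at this
  sq_mem := by
    rintro _ ⟨s, rfl⟩
    obtain ⟨t, ht⟩ : ∃ t, t = f s * (s : G)⁻¹ := ⟨_, rfl⟩
    have htT : t ∈ P.B ⊓ P.N := ht ▸ hf s
    rw [show f s * f s = t * ((s : G) * t * (s : G)⁻¹) * ((s : G) * s) by rw [ht]; group]
    exact mul_mem (mul_mem htT.1 (P.conj_mem _ (P.subset s.2) _ htT)) (P.sq_mem _ s.2)
  inj := by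
    rintro _ ⟨s, rfl⟩ _ ⟨s', rfl⟩ h
    obtain ⟨t, ht⟩ : ∃ t, t = f s * (s : G)⁻¹ := ⟨_, rfl⟩
    obtain ⟨t', ht'⟩ : ∃ t', t' = f s' * (s' : G)⁻¹ := ⟨_, rfl⟩
    have hu : (s : G)⁻¹ * (t⁻¹ * t') * (s : G) ∈ P.B := by
      have := P.conj_mem _ (inv_mem (P.subset s.2)) _
        (mul_mem (inv_mem (ht ▸ hf s)) (ht' ▸ hf s') : t⁻¹ * t' ∈ P.B ⊓ P.N)
      rwa [inv_inv] at this
    have h' : (s : G)⁻¹ * s' ∈ P.B := by
      have e : (s : G)⁻¹ * s' = ((s : G)⁻¹ * (t⁻¹ * t') * s)⁻¹ * ((f s)⁻¹ * f s') := by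
        rw [ht, ht']; group
      rw [e]
      exact mul_mem (inv_mem hu) h
    rw [show s = s' from Subtype.ext (P.inj _ s.2 _ s'.2 h')]
  closure_sup := by
    refine le_antisymm (sup_le ((Subgroup.closure_le _).2 ?_) inf_le_right) ?_
    · rintro _ ⟨s, rfl⟩
      have := mul_mem (hf s).2 (P.subset s.2)
      rwa [inv_mul_cancel_right] at this
    · conv_lhs => rw [← P.closure_sup]
      refine sup_le ((Subgroup.closure_le _).2 fun x hx => ?_) le_sup_right
      have e : x = (f ⟨x, hx⟩ * x⁻¹)⁻¹ * f ⟨x, hx⟩ := by group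
      rw [SetLike.mem_coe, e]
      exact mul_mem (Subgroup.mem_sup_right (inv_mem (hf ⟨x, hx⟩)))
        (Subgroup.mem_sup_left (Subgroup.subset_closure ⟨_, rfl⟩))
  mul_mem_union := by
    rintro _ ⟨s, rfl⟩ n hn b hb
    obtain ⟨t, ht⟩ : ∃ t, t = f s * (s : G)⁻¹ := ⟨_, rfl⟩
    have htB : t ∈ P.B := (ht ▸ hf s : t ∈ P.B ⊓ P.N).1
    have key : ∀ x, (s : G) * b * n ∈ DoubleCoset.doubleCoset x (P.B : Set G) P.B →
        f s * b * n ∈ DoubleCoset.doubleCoset x (P.B : Set G) P.B := fun x hx => by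
      rw [show f s * b * n = t * ((s : G) * b * n) by rw [ht]; group]
      exact Cfsg.Agent.BN.Basic.dc_mul_left htB hx
    rcases P.mul_mem_union _ s.2 n hn b hb with h | h
    · left
      rw [show DoubleCoset.doubleCoset (f s * n) (P.B : Set G) P.B =
          DoubleCoset.doubleCoset ((s : G) * n) (P.B : Set G) P.B from
        DoubleCoset.doubleCoset_eq_of_mem (DoubleCoset.mem_doubleCoset.2
          ⟨t, htB, 1, one_mem _, by rw [ht]; group⟩)]
      exact key _ h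
    · exact Or.inr (key _ h)
  conj_ne := by
    rintro _ ⟨s, rfl⟩ h
    obtain ⟨t, ht⟩ : ∃ t, t = f s * (s : G)⁻¹ := ⟨_, rfl⟩
    have htB : t ∈ P.B := (ht ▸ hf s : t ∈ P.B ⊓ P.N).1
    refine P.conj_ne _ s.2 (Set.ext fun x => ⟨?_, fun hx => ?_⟩)
    · rintro ⟨b, hb, rfl⟩
      have h1 : f s * (b * t⁻¹) * f s ∈ (P.B : Set G) :=
        h.subset ⟨b * t⁻¹, mul_mem hb (inv_mem htB), rfl⟩
      show (s : G) * b * s ∈ P.B
      rw [show (s : G) * b * s = t⁻¹ * (f s * (b * t⁻¹) * f s) by rw [ht]; group]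
      exact mul_mem (inv_mem htB) h1
    · obtain ⟨b, hb, e⟩ := h.superset (show t * x ∈ (P.B : Set G) from mul_mem htB hx)
      refine ⟨b * t, mul_mem hb htB, ?_⟩
      show (s : G) * (b * t) * s = x
      have e' : f s * b * f s = t * x := e
      rw [show (s : G) * (b * t) * s = t⁻¹ * (f s * b * f s) by rw [ht]; group, e',
        inv_mul_cancel_left]

theorem mem_reSign_S {P : Cfsg.BNPair G} {f : P.S → G} {hf : ∀ s, f s * (s : G)⁻¹ ∈ P.B ⊓ P.N}
    {x : G} : x ∈ (reSign P f hf).S ↔ ∃ s, f s = x := Iff.rfl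

end Cfsg.Agent.TwistMult
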