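import Cfsg.Agent.Lib.TwistMult.LiftBN
import Cfsg.Agent.Lib.TwistMult.ReSign
import Cfsg.Agent.Lib.Chevalley.Twist.AutPara
import Cfsg.Agent.Lib.Chevalley.Twist.Coxeter
import Cfsg.Agent.Lib.Chevalley.Twist.Simple

/-!
The root data of a fixed group with orbits of any shape.
-/

set_option autoImplicit false
set_option linter.unusedSectionVars false

open scoped Matrix

namespace Cfsg.Agent.TwistMult.Gen

open Cfsg.Lie Cfsg.Agent.Chevalley Cfsg.Agent.Chevalley.Table Cfsg.Agent.Chevalley.Cert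
  Cfsg.Agent.Chevalley.Group Cfsg.Agent.Chevalley.Weight Cfsg.Agent.Chevalley.Unip
  Cfsg.Agent.Chevalley.Borel Cfsg.Agent.Chevalley.Weyl Cfsg.Agent.Chevalley.Bruhat
  Cfsg.Agent.Chevalley.NormalForm Cfsg.Agent.Chevalley.WeylEnum Cfsg.Agent.Chevalley.AutThm
  Cfsg.Agent.Chevalley.Twist Cfsg.Agent.Chevalley.WeylGroup

variable {D : ChevalleyDatum} {F : Type*} [Field F] {T : Tab} {hC : Certified D T} {S : Tw hC F}
  (O : Orbits S) {K : Subgroup (GL D.Idx F)} (hK : GenData O K)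
  (hne : ∀ a < O.k, ∃ x ∈ Fx S, x ≠ 1 ∧ ∀ c : ℕ → Fˣ,
    x ∈ Uminus D F (tor D c * nL hC F (O.J a)))
  (hnJ : ∀ a < O.k, nL hC F (O.J a) ∈ K)

/-- The subgroup generated by root elements on the roots sent by a word of an orbit. -/
def Vw (hC : Certified D T) (F : Type*) [Field F] (J : List ℕ) : Subgroup (GL D.Idx F) :=
  Subgroup.closure {g | ∃ r ∈ invList D T J, ∃ t : F, g = xg hC (wL D J r) t}

/-- The rank one subgroup of an orbit. -/
abbrev L {a : ℕ} (ha : a < O.k) : Subgroup K := XU O K a ⊔ XV O hnJ ha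

/-- The pair with the standard representatives. -/
noncomputable def pair : Cfsg.BNPair K :=
  reSign (bnK hK hne) (fun s => nK O hnJ s.2.choose_spec.1) fun s => by
    have ha := s.2.choose_spec.1
    have hs : ((s : K) : GL D.Idx F) = mel hK s.2.choose := s.2.choose_spec.2
    obtain ⟨c, hc⟩ := mel_eq hK ha
    have hmem : nL hC F (O.J s.2.choose) * (mel hK s.2.choose)⁻¹ ∈ D.diagonalSubgroup F := by
      rw [hc, mul_inv_rev, mul_inv_cancel_left]
      exact inv_mem (tor_mem_H hC _)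
    have e : ((nK O hnJ ha * (s : K)⁻¹ : K) : GL D.Idx F) =
        nL hC F (O.J s.2.choose) * (mel hK s.2.choose)⁻¹ := by
      rw [Subgroup.coe_mul, Subgroup.coe_inv]
      exact congrArg (fun x : GL D.Idx F => nL hC F (O.J s.2.choose) * x⁻¹) hs
    refine Subgroup.mem_inf.2 ⟨(mem_bnKB O hK hne).2 (e ▸ H_le_B hmem),
      ⟨?_, (nK O hnJ ha * (s : K)⁻¹ : K).2⟩⟩
    show ((nK O hnJ ha * (s : K)⁻¹ : K) : GL D.Idx F) ∈ D.monomialSubgroup F
    rw [e]
    exact Subgroup.mem_sup_left hmem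

theorem mem_pairB {g : K} : g ∈ (pair O hK hne hnJ).B ↔ (g : GL D.Idx F) ∈ D.borelSubgroup F :=
  mem_bnKB O hK hne

theorem mem_pairN {g : K} : g ∈ (pair O hK hne hnJ).N ↔ (g : GL D.Idx F) ∈ D.monomialSubgroup F :=
  ⟨fun h => h.1, fun h => ⟨h, g.2⟩⟩

theorem mem_pairT {g : K} :
    g ∈ (pair O hK hne hnJ).B ⊓ (pair O hK hne hnJ).N ↔ (g : GL D.Idx F) ∈ D.diagonalSubgroup F :=
  ⟨fun h => mem_H_of_inf hC ((mem_pairB O hK hne hnJ).1 (Subgroup.mem_inf.1 h).1)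
      ((mem_pairN O hK hne hnJ).1 (Subgroup.mem_inf.1 h).2),
    fun h => Subgroup.mem_inf.2 ⟨(mem_pairB O hK hne hnJ).2 (H_le_B h),
      (mem_pairN O hK hne hnJ).2 (Subgroup.mem_sup_left h)⟩⟩

theorem exists_idx (s : (pair O hK hne hnJ).S) : ∃ a, ∃ ha : a < O.k, (s : K) = nK O hnJ ha := by
  obtain ⟨t, e⟩ := s.2
  exact ⟨_, t.2.choose_spec.1, e.symm⟩

/-- The orbit of a representative. -/
noncomputable def idx (s : (pair O hK hne hnJ).S) : ℕ := (exists_idx O hK hne hnJ s).choose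

theorem idx_lt (s : (pair O hK hne hnJ).S) : idx O hK hne hnJ s < O.k :=
  (exists_idx O hK hne hnJ s).choose_spec.choose

theorem idx_eq (s : (pair O hK hne hnJ).S) : (s : K) = nK O hnJ (idx_lt O hK hne hnJ s) :=
  (exists_idx O hK hne hnJ s).choose_spec.choose_spec

theorem idx_bij : Function.Bijective
    (fun s => (⟨idx O hK hne hnJ s, idx_lt O hK hne hnJ s⟩ : Fin O.k)) := by
  refine ⟨fun s t h => Subtype.ext ?_, fun ⟨a, ha⟩ => ?_⟩
  · have h' : idx O hK hne hnJ s = idx O hK hne hnJ t := congrArg Fin.val h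
    rw [idx_eq O hK hne hnJ s, idx_eq O hK hne hnJ t]
    refine Subtype.ext ?_
    show nL hC F (O.J _) = nL hC F (O.J _)
    rw [h']
  · obtain ⟨s', hs'⟩ : ∃ s' : (bnK hK hne).S, (s' : K) = melK O hK a :=
      ⟨⟨_, melK_mem_BN O hK hne ha⟩, rfl⟩
    refine ⟨⟨_, s', rfl⟩, Fin.ext ?_⟩
    have h1 := idx_eq O hK hne hnJ ⟨_, s', rfl⟩
    have hab : s'.2.choose = a := by
      refine mel_inj hK s'.2.choose_spec.1 ha ?_
      rw [← s'.2.choose_spec.2, hs']
      show (mel hK a)⁻¹ * mel hK a ∈ _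
      rw [inv_mul_cancel]
      exact one_mem _
    have h2 : nL hC F (O.J s'.2.choose) = nL hC F (O.J (idx O hK hne hnJ ⟨_, s', rfl⟩)) :=
      congrArg Subtype.val h1
    rw [hab] at h2
    refine mel_inj hK (idx_lt O hK hne hnJ _) ha ?_
    obtain ⟨c, hc⟩ := mel_eq hK (idx_lt O hK hne hnJ ⟨_, s', rfl⟩)
    obtain ⟨c', hc'⟩ := mel_eq hK ha
    rw [hc, hc', ← h2, mul_inv_rev, mul_assoc, ← mul_assoc (tor D c)⁻¹]
    obtain ⟨d, hd⟩ : ∃ d, d = (tor D c)⁻¹ * tor D c' := ⟨_, rfl⟩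
    rw [← hd]
    have h3 := H_conj hC (inv_mem (nL_mem_N hC (O.J_lt a ha) (F := F)))
      (show d ∈ D.diagonalSubgroup F from hd ▸ mul_mem (inv_mem (tor_mem_H hC _)) (tor_mem_H hC _))
    simpa [mul_assoc] using h3

/-! ### The rank one subgroups -/

include hK in
theorem mem_XU_iff {a : ℕ} (ha : a < O.k) {g : K} :
    g ∈ XU O K a ↔ (g : GL D.Idx F) ∈
      Subgroup.closure {x : GL D.Idx F | ∃ (r : ℕ) (t : F), r ∈ invList D T (O.J a) ∧ x = xg hC r t} := by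
  rw [mem_XU O ha 1, Uminus_eq hC (O.J_lt a ha) 1]
  exact ⟨fun h => h.1, fun h => ⟨h, hK.le g.2⟩⟩

/-- A monomial element carrying one set of roots to another carries the generated groups. -/
theorem conj_closure {L' : List ℕ} (hL : ∀ i ∈ L', i < D.rank) (c : ℕ → Fˣ) {P Q : ℕ → Prop}
    (hP : ∀ r, P r → r < D.nroots) (hPQ : ∀ r, P r → Q (wL D L' r)) {g : GL D.Idx F}
    (hg : g ∈ Subgroup.closure {x : GL D.Idx F | ∃ (r : ℕ) (t : F), P r ∧ x = xg hC r t}) :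
    tor D c * nL hC F L' * g * (tor D c * nL hC F L')⁻¹ ∈
      Subgroup.closure {x : GL D.Idx F | ∃ (r : ℕ) (t : F), Q r ∧ x = xg hC r t} := by
  have hle : Subgroup.closure {x : GL D.Idx F | ∃ (r : ℕ) (t : F), P r ∧ x = xg hC r t} ≤
      (Subgroup.closure {x : GL D.Idx F | ∃ (r : ℕ) (t : F), Q r ∧ x = xg hC r t}).comap
        (MulAut.conj (tor D c * nL hC F L')).toMonoidHom := by
    refine (Subgroup.closure_le _).2 ?_
    rintro _ ⟨r, t, hr, rfl⟩
    obtain ⟨η, -, e⟩ := NormalForm.conj_xg (F := F) hC hL c (hP r hr)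
    rw [SetLike.mem_coe, Subgroup.mem_comap, MulEquiv.coe_toMonoidHom, MulAut.conj_apply, e]
    exact Subgroup.subset_closure ⟨_, _, hPQ r hr, rfl⟩
  exact hle hg

/-- The opposite roots of an orbit. -/
def Neg (D : ChevalleyDatum) (T : Tab) (J : List ℕ) (r : ℕ) : Prop := ∃ r' ∈ invList D T J, r = wL D J r'

include hK in
theorem mem_XV_iff {a : ℕ} (ha : a < O.k) {g : K} :
    g ∈ XV O hnJ ha ↔ (g : GL D.Idx F) ∈
      Subgroup.closure {x : GL D.Idx F | ∃ (r : ℕ) (t : F), Neg D T (O.J a) r ∧ x = xg hC r t} := by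
  have hJ := O.J_lt a ha
  constructor
  · rintro ⟨x, hx, rfl⟩
    have := conj_closure (hC := hC) hJ 1 (Q := Neg D T (O.J a))
      (fun r hr => ((mem_invList hC).1 hr).1) (fun r hr => ⟨r, hr, rfl⟩) ((mem_XU_iff O hK ha).1 hx)
    rwa [tor_one, one_mul] at this
  · intro hg
    refine ⟨(nK O hnJ ha)⁻¹ * g * nK O hnJ ha, ?_, by rw [MulEquiv.coe_toMonoidHom, MulAut.conj_apply]; group⟩
    rw [SetLike.mem_coe, mem_XU_iff O hK ha]
    obtain ⟨c, L', hL', e⟩ : ∃ c, ∃ L' : List ℕ, (∀ i ∈ L', i < D.rank) ∧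
        (nL hC F (O.J a))⁻¹ = tor D c * nL hC F L' :=
      (mem_N_iff hC).1 (inv_mem (nL_mem_N hC hJ))
    have hw : ∀ r < D.nroots, wL D L' (wL D (O.J a) r) = r := fun r hr => by
      have h1 : tor D (1 : ℕ → Fˣ) * nL hC F [] =
          tor D c * nL hC F L' * nL hC F (O.J a) := by
        rw [← e, inv_mul_cancel, tor_one]; simp [nL]
      rw [← wL_append]
      exact (wL_congr hC (c := 1) (c' := c) (L := []) (fun _ h => absurd h List.not_mem_nil)
        (fun i hi => (List.mem_append.1 hi).elim (hL' i) (hJ i)) (by rw [nL_append, ← mul_assoc]; exact h1) hr).symm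
    rw [Subgroup.coe_mul, Subgroup.coe_mul, Subgroup.coe_inv]
    show (nL hC F (O.J a))⁻¹ * _ * nL hC F (O.J a) ∈ _
    rw [show (nL hC F (O.J a))⁻¹ * (g : GL D.Idx F) * nL hC F (O.J a) =
      (nL hC F (O.J a))⁻¹ * (g : GL D.Idx F) * ((nL hC F (O.J a))⁻¹)⁻¹ by rw [inv_inv], e]
    refine conj_closure (hC := hC) hL' c (Q := fun r => r ∈ invList D T (O.J a)) ?_ ?_ hg
    · rintro _ ⟨r, hr, rfl⟩
      exact wL_lt hC hJ ((mem_invList hC).1 hr).1
    · rintro _ ⟨r, hr, rfl⟩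
      rw [hw r ((mem_invList hC).1 hr).1]
      exact hr

include hK in
/-- Monomial elements carrying the roots of one orbit to those of another carry the rank one groups. -/
theorem conj_L {a b : ℕ} (ha : a < O.k) (hb : b < O.k) {n : K} {c : ℕ → Fˣ} {L' : List ℕ}
    (hL : ∀ i ∈ L', i < D.rank) (hn : (n : GL D.Idx F) = tor D c * nL hC F L')
    (h1 : ∀ r ∈ invList D T (O.J a), wL D L' r ∈ invList D T (O.J b))
    (h2 : ∀ r ∈ invList D T (O.J a), Neg D T (O.J b) (wL D L' (wL D (O.J a) r))) :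
    (∀ x ∈ XU O K a, n * x * n⁻¹ ∈ XU O K b) ∧
      (∀ x ∈ XV O hnJ ha, n * x * n⁻¹ ∈ XV O hnJ hb) ∧ ∀ x ∈ L O hnJ ha, n * x * n⁻¹ ∈ L O hnJ hb := by
  have e1 : ∀ x ∈ XU O K a, n * x * n⁻¹ ∈ XU O K b := fun x hx => by
    rw [mem_XU_iff O hK hb, Subgroup.coe_mul, Subgroup.coe_mul, Subgroup.coe_inv, hn]
    exact conj_closure hL c (fun r hr => ((mem_invList hC).1 hr).1) h1 ((mem_XU_iff O hK ha).1 hx)
  have e2 : ∀ x ∈ XV O hnJ ha, n * x * n⁻¹ ∈ XV O hnJ hb := fun x hx => by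
    rw [mem_XV_iff O hK hnJ hb, Subgroup.coe_mul, Subgroup.coe_mul, Subgroup.coe_inv, hn]
    refine conj_closure hL c (P := Neg D T (O.J a)) ?_ ?_ ((mem_XV_iff O hK hnJ ha).1 hx)
    · rintro _ ⟨r, hr, rfl⟩
      exact wL_lt hC (O.J_lt a ha) ((mem_invList hC).1 hr).1
    · rintro _ ⟨r, hr, rfl⟩
      exact h2 r hr
  refine ⟨e1, e2, ?_⟩
  have hle : L O hnJ ha ≤ (L O hnJ hb).comap (MulAut.conj n).toMonoidHom :=
    sup_le (fun x hx => Subgroup.mem_sup_left (e1 x hx)) fun x hx => Subgroup.mem_sup_right (e2 x hx)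
  exact fun x hx => hle hx

include hK in
/-- The torus keeps the root groups. -/
theorem tor_L {a : ℕ} (ha : a < O.k) {t : K} (ht : (t : GL D.Idx F) ∈ D.diagonalSubgroup F) :
    (∀ x ∈ XU O K a, t * x * t⁻¹ ∈ XU O K a) ∧
      (∀ x ∈ XV O hnJ ha, t * x * t⁻¹ ∈ XV O hnJ ha) ∧ ∀ x ∈ L O hnJ ha, t * x * t⁻¹ ∈ L O hnJ ha := by
  obtain ⟨c, hc⟩ := (mem_H_iff hC).1 ht
  exact conj_L O hK hnJ ha ha (L' := []) (c := c) (fun i hi => absurd hi List.not_mem_nil)
    (by rw [hc]; simp [nL]) (fun r hr => hr) (fun r hr => ⟨r, hr, rfl⟩)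

include hK in
/-- A fixed monomial element keeps the sign of a root group or reverses it. -/
theorem root_dich {a : ℕ} (ha : a < O.k) {n : K} (hn : (n : GL D.Idx F) ∈ D.monomialSubgroup F) :
    (∀ x ∈ XU O K a, n * x * n⁻¹ ∈ UK D K) ∨ ∀ y ∈ XV O hnJ ha, n * y * n⁻¹ ∈ UK D K := by
  obtain ⟨c, L', hL, e⟩ := (mem_N_iff hC).1 hn
  have hE := equiv_of_fixed (S := S) hL (e ▸ hK.le n.2)
  obtain ⟨i₀, hi₀⟩ := List.exists_mem_of_ne_nil _ (O.ne a ha)
  have hne' := hC.phi_ne_zero (wL_lt hC hL (hC.simple_lt (O.J_lt a ha i₀ hi₀)))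
  have key : ∀ P : ℕ → Prop, (∀ r, P r → r < D.nroots ∧ 0 < T.phi (wL D L' r)) → ∀ g : K,
      (g : GL D.Idx F) ∈ Subgroup.closure {x : GL D.Idx F | ∃ (r : ℕ) (t : F), P r ∧ x = xg hC r t} →
        n * g * n⁻¹ ∈ UK D K := by
    intro P hP g hg
    rw [Subgroup.mem_subgroupOf, Subgroup.coe_mul, Subgroup.coe_mul, Subgroup.coe_inv, e]
    have h1 := conj_closure (hC := hC) hL c (Q := fun r => r < D.nroots ∧ 0 < T.phi r)
      (fun r hr => (hP r hr).1) (fun r hr => ⟨wL_lt hC hL (hP r hr).1, (hP r hr).2⟩) hg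
    have hle : Subgroup.closure {x : GL D.Idx F | ∃ (r : ℕ) (t : F),
        (r < D.nroots ∧ 0 < T.phi r) ∧ x = xg hC r t} ≤ D.posUnipotent F := by
      refine (Subgroup.closure_le _).2 ?_
      rintro _ ⟨r, t, hr, rfl⟩
      exact xg_mem_U hC hr.1 hr.2 _
    exact hle h1
  rcases lt_or_gt_of_ne hne' with h | h
  · refine Or.inr fun y hy => key (Neg D T (O.J a)) ?_ y ((mem_XV_iff O hK hnJ ha).1 hy)
    rintro _ ⟨r, hr, rfl⟩
    obtain ⟨h1, h2, h3⟩ := (mem_invList hC).1 hr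
    have hw := wL_lt hC (O.J_lt a ha) h1
    have hinv := O.invol a ha r h1
    have hn' := orbit_neg O hL hE ha hi₀ h (D.neg (wL D (O.J a) r)) (hC.neg_lt hw)
      (by rw [hC.phi_neg hw]; omega)
      (by rw [wL_neg hC (O.J_lt a ha) hw, hinv, hC.phi_neg h1]; omega)
    rw [wL_neg hC hL hw, hC.phi_neg (wL_lt hC hL hw)] at hn'
    exact ⟨hw, by omega⟩
  · refine Or.inl fun x hx => key (fun r => r ∈ invList D T (O.J a)) ?_ x ((mem_XU_iff O hK ha).1 hx)
    intro r hr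
    obtain ⟨h1, h2, h3⟩ := (mem_invList hC).1 hr
    exact ⟨h1, orbit_pos_inv O hL hE ha hi₀ h r h1 h2 h3⟩

/-! ### Separating elements -/

/-- A diagonal element centralising a rank one group and moving all other positive roots. -/
structure SepZ (a : ℕ) (z : ℕ → Fˣ) : Prop where
  fix : ∀ r ∈ invList D T (O.J a), torChar D z r = 1 ∧ torChar D z (wL D (O.J a) r) = 1
  move : ∀ r ∈ D.posRoots, r ∉ invList D T (O.J a) → torChar D z r ≠ 1

variable {a : ℕ} (ha : a < O.k) {z : ℕ → Fˣ} (hz : SepZ O a z)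
include hK hz ha

theorem z_comm {g : K} (hg : g ∈ L O hnJ ha) : Commute (tor D z) (g : GL D.Idx F) := by
  have key : ∀ P : ℕ → Prop, (∀ r, P r → r < D.nroots ∧ torChar D z r = 1) → ∀ g : GL D.Idx F,
      g ∈ Subgroup.closure {x : GL D.Idx F | ∃ (r : ℕ) (t : F), P r ∧ x = xg hC r t} →
        Commute (tor D z) g := by
    intro P hP g hg
    induction hg using Subgroup.closure_induction with
    | mem x hx =>
      obtain ⟨r, t, hr, rfl⟩ := hx
      have h := tor_conj_x hC z r t (hP r hr).1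
      rw [(hP r hr).2, Units.val_one, one_mul] at h
      exact mul_inv_eq_iff_eq_mul.1 h
    | one => exact Commute.one_right _
    | mul x y _ _ hx hy => exact hx.mul_right hy
    | inv x _ hx => exact hx.inv_right
  have hle : L O hnJ ha ≤ (Subgroup.centralizer {tor D z}).comap K.subtype := by
    refine sup_le (fun x hx => ?_) fun x hx => ?_ <;>
      rw [Subgroup.mem_comap, Subgroup.mem_centralizer_singleton_iff]
    · exact (key (fun r => r ∈ invList D T (O.J a))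
        (fun r hr => ⟨((mem_invList hC).1 hr).1, (hz.fix r hr).1⟩) _ ((mem_XU_iff O hK ha).1 hx)).symm.eq
    · refine (key (Neg D T (O.J a)) ?_ _ ((mem_XV_iff O hK hnJ ha).1 hx)).symm.eq
      rintro _ ⟨r, hr, rfl⟩
      exact ⟨wL_lt hC (O.J_lt a ha) ((mem_invList hC).1 hr).1, (hz.fix r hr).2⟩
  have := Subgroup.mem_centralizer_singleton_iff.1 (hle hg)
  exact this.symm

include hnJ in
/-- A fixed positive element commuting with the separating element lies in the root group. -/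
theorem mem_XU_of_z {v : K} (hv : (v : GL D.Idx F) ∈ D.posUnipotent F)
    (hvz : Commute (tor D z) (v : GL D.Idx F)) : v ∈ XU O K a := by
  have hd : tor D 1 * nL hC F (O.J a) ∈ Fx S := by rw [tor_one, one_mul]; exact hK.le (hnJ a ha)
  obtain ⟨A, B, e, hAF, hBF, hAU, hA', hB⟩ := split_fixed O ha hd hv (hK.le v.2)
  have hBX : (⟨B, Fx_le O hK hBF⟩ : K) ∈ XU O K a := (mem_XU O ha 1).2 ⟨hB, hBF⟩
  have hAz : Commute (tor D z) A := by
    have hBz : Commute (tor D z) B := z_comm O hK hnJ ha hz (Subgroup.mem_sup_left hBX)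
    have := hvz.mul_right hBz.inv_right
    rwa [e, mul_inv_cancel_right] at this
  obtain ⟨f, rfl⟩ := exists_prodX hC hAU
  have h1 := tor_conj_prod (hC := hC) z id f D.posRoots fun r hr => ((mem_posRoots hC).1 hr).1
  have h2 : tor D z * prodX hC D.posRoots f * (tor D z)⁻¹ = prodX hC D.posRoots f := by
    rw [hAz.eq, mul_inv_cancel_right]
  have h3 : prodX hC D.posRoots f = prodX hC D.posRoots fun r => (torChar D z r : F) * f r :=
    h2.symm.trans h1
  have h4 := prodX_inj hC posRoots_sorted (fun r hr => (mem_posRoots hC).1 hr) h3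
  have hAU' : prodX hC D.posRoots f ∈ Uminus D F (tor D 1 * nL hC F (O.J a)) := by
    rw [Uminus_eq hC (O.J_lt a ha) 1]
    refine list_prod_mem fun x hx => ?_
    obtain ⟨r, hr, rfl⟩ := List.mem_map.1 hx
    by_cases hi : r ∈ invList D T (O.J a)
    · exact Subgroup.subset_closure ⟨r, _, hi, rfl⟩
    · have hf : f r = 0 := by
        have := h4 r hr
        have hne' : ((torChar D z r : F) - 1) ≠ 0 := sub_ne_zero.2 fun e => hz.move r hr hi (Units.ext e)
        have h5 : ((torChar D z r : F) - 1) * f r = 0 := by rw [sub_mul, one_mul, ← this, sub_self]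
        exact (mul_eq_zero.1 h5).resolve_left hne'
      rw [hf, xg_zero hC]
      exact one_mem _
  have h6 := U_inf_V hC hA' (conj_Uminus hC hAU')
  rw [mul_inv_eq_one, mul_eq_left] at h6
  rw [h6, one_mul] at e
  exact (mem_XU O ha 1).2 ⟨e ▸ hB, hK.le v.2⟩

omit hz in
include hne hnJ in
/-- The cells of a minimal parabolic subgroup. -/
theorem cells {g : K} (hg : g ∈ PG O hK hne a) :
    (g : GL D.Idx F) ∈ D.borelSubgroup F ∨
      ∃ x ∈ XU O K a, ∃ b : K, (b : GL D.Idx F) ∈ D.borelSubgroup F ∧ g = x * nK O hnJ ha * b := by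
  have h := BN.Parabolic.parabolic_singleton
    (⟨melK O hK a, melK_mem_BN O hK hne ha⟩ : (bnK hK hne).S)
  have hg' : g ∈ ((bnK hK hne).B : Set K) ∪ BN.Basic.dc (bnK hK hne) (melK O hK a) := h ▸ hg
  rcases hg' with hg' | hg'
  · exact Or.inl ((mem_bnKB O hK hne).1 hg')
  obtain ⟨b, hb, b', hb', rfl⟩ := BN.Basic.mem_dc.1 hg'
  obtain ⟨v, hv, hvF, n, hn, hnF, u, hu, huF, e⟩ := fixed_form S (hK.le b.2)
  have hnB : n ∈ D.borelSubgroup F := by
    rw [show n = v⁻¹ * (b : GL D.Idx F) * u⁻¹ by rw [e]; group]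
    exact mul_mem (mul_mem (inv_mem (Subgroup.mem_sup_left hv)) ((mem_bnKB O hK hne).1 hb))
      (inv_mem (Subgroup.mem_sup_left (Uminus_le_U hC _ hu)))
  have hnH : n ∈ D.diagonalSubgroup F := mem_H_of_inf hC hnB hn
  obtain ⟨w, hwdef⟩ : ∃ w : GL D.Idx F, w = v * (n * u * n⁻¹) := ⟨_, rfl⟩
  have hwU : w ∈ D.posUnipotent F := hwdef ▸ mul_mem hv
    ((Subgroup.mem_normalizer_iff.1 (H_normalizes_U hC hnH) u).1 (Uminus_le_U hC _ hu))
  have hwF : w ∈ Fx S := hwdef ▸ mul_mem hvF (mul_mem (mul_mem hnF huF) (inv_mem hnF))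
  have hd : tor D 1 * nL hC F (O.J a) ∈ Fx S := by rw [tor_one, one_mul]; exact hK.le (hnJ a ha)
  obtain ⟨A, B, hAB, -, hBF, -, hA', hB⟩ := split_fixed O ha hd (inv_mem hwU) (inv_mem hwF)
  have hx : (⟨B⁻¹, Fx_le O hK (inv_mem hBF)⟩ : K) ∈ XU O K a :=
    (mem_XU O ha 1).2 ⟨inv_mem hB, inv_mem hBF⟩
  obtain ⟨r, hr⟩ : ∃ r, r = (⟨B⁻¹, Fx_le O hK (inv_mem hBF)⟩ : K) * nK O hnJ ha := ⟨_, rfl⟩
  refine Or.inr ⟨_, hx, r⁻¹ * (b * melK O hK a * b'), ?_, by rw [← hr]; group⟩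
  rw [hr]
  show (B⁻¹ * nL hC F (O.J a))⁻¹ * ((b : GL D.Idx F) * mel hK a * (b' : GL D.Idx F)) ∈ _
  have hb2 : (b : GL D.Idx F) = (A * B)⁻¹ * n := by
    rw [← hAB, inv_inv, e, hwdef]; group
  rw [tor_one, one_mul] at hA'
  obtain ⟨c, hc⟩ := mel_eq hK ha
  have hN := nL_mem_N (F := F) hC (O.J_lt a ha)
  have hm : (nL hC F (O.J a))⁻¹ * (n * mel hK a) ∈ D.borelSubgroup F := by
    rw [hc, show (nL hC F (O.J a))⁻¹ * (n * (tor D c * nL hC F (O.J a))) =
      (nL hC F (O.J a))⁻¹ * (n * tor D c) * nL hC F (O.J a) by group]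
    have := H_conj hC (inv_mem hN) (mul_mem hnH (tor_mem_H hC c))
    rw [inv_inv] at this
    exact H_le_B this
  have hsq : nL hC F (O.J a) * nL hC F (O.J a) ∈ D.diagonalSubgroup F := by
    obtain ⟨d, hd'⟩ := exists_tor_of_pos (F := F) hC
      (L := O.J a ++ O.J a) (fun i hi => (List.mem_append.1 hi).elim (O.J_lt a ha i) (O.J_lt a ha i))
      fun i hi => by
        rw [wL_append, O.invol a ha _ (hC.simple_lt hi)]
        exact hC.phi_simple hi
    rw [← nL_append, hd']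
    exact tor_mem_H hC d
  rw [hb2, show (B⁻¹ * nL hC F (O.J a))⁻¹ * ((A * B)⁻¹ * n * mel hK a * (b' : GL D.Idx F)) =
      (nL hC F (O.J a) * nL hC F (O.J a))⁻¹ * (nL hC F (O.J a) * A * (nL hC F (O.J a))⁻¹)⁻¹ *
        (nL hC F (O.J a) * nL hC F (O.J a)) * ((nL hC F (O.J a))⁻¹ * (n * mel hK a)) *
          (b' : GL D.Idx F) by group]
  exact mul_mem (mul_mem (mul_mem (mul_mem (H_le_B (inv_mem hsq)) (inv_mem (Subgroup.mem_sup_left hA')))
    (H_le_B hsq)) hm) ((mem_bnKB O hK hne).1 hb')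

include hne hnJ in
/-- The rank one group has two cells. -/
theorem L_form (hmem : nK O hnJ ha ∈ L O hnJ ha) {g : K} (hg : g ∈ L O hnJ ha) :
    ∃ x ∈ XU O K a, ∃ t ∈ L O hnJ ha, (t : GL D.Idx F) ∈ D.diagonalSubgroup F ∧
      (g = x * t ∨ ∃ x' ∈ XU O K a, g = x * t * nK O hnJ ha * x') := by
  have hgP : g ∈ PG O hK hne a := by
    refine (sup_le ?_ (XV_le_PG O hK hne hnJ ha) : L O hnJ ha ≤ PG O hK hne a) hg
    exact fun x hx => BN.Parabolic.B_le_parabolic _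
      ((mem_bnKB O hK hne).2 (Subgroup.mem_sup_left (XU_le_U O ha hx)))
  -- a Borel element of the rank one group
  have borel : ∀ b ∈ L O hnJ ha, (b : GL D.Idx F) ∈ D.borelSubgroup F →
      ∃ x ∈ XU O K a, ∃ t ∈ L O hnJ ha, (t : GL D.Idx F) ∈ D.diagonalSubgroup F ∧ b = x * t := by
    intro b hbL hbB
    obtain ⟨v, hv, hvF, n, hn, hnF, u, hu, huF, e⟩ := fixed_form S (hK.le b.2)
    have hnB : n ∈ D.borelSubgroup F := by
      rw [show n = v⁻¹ * (b : GL D.Idx F) * u⁻¹ by rw [e]; group]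
      exact mul_mem (mul_mem (inv_mem (Subgroup.mem_sup_left hv)) hbB)
        (inv_mem (Subgroup.mem_sup_left (Uminus_le_U hC _ hu)))
    have hnH : n ∈ D.diagonalSubgroup F := mem_H_of_inf hC hnB hn
    obtain ⟨w, hw⟩ : ∃ w : K, (w : GL D.Idx F) = v * (n * u * n⁻¹) :=
      ⟨⟨_, Fx_le O hK (mul_mem hvF (mul_mem (mul_mem hnF huF) (inv_mem hnF)))⟩, rfl⟩
    have hwU : (w : GL D.Idx F) ∈ D.posUnipotent F := hw ▸ mul_mem hv
      ((Subgroup.mem_normalizer_iff.1 (H_normalizes_U hC hnH) u).1 (Uminus_le_U hC _ hu))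
    obtain ⟨t, ht⟩ : ∃ t : K, (t : GL D.Idx F) = n := ⟨⟨n, Fx_le O hK hnF⟩, rfl⟩
    have eb : b = w * t := Subtype.ext (by rw [Subgroup.coe_mul, hw, ht, e]; group)
    have hwz : Commute (tor D z) (w : GL D.Idx F) := by
      have h1 := z_comm O hK hnJ ha hz hbL
      have h2 : Commute (tor D z) n := by
        obtain ⟨d, rfl⟩ := (mem_H_iff hC).1 hnH
        rw [commute_iff_eq, tor_mul, tor_mul, mul_comm]
      have := h1.mul_right (ht ▸ h2 : Commute (tor D z) (t : GL D.Idx F)).inv_right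
      rwa [eb, Subgroup.coe_mul, mul_inv_cancel_right] at this
    have hwX := mem_XU_of_z O hK hnJ ha hz hwU hwz
    refine ⟨w, hwX, t, ?_, ht ▸ hnH, eb⟩
    rw [show t = w⁻¹ * b by rw [eb]; group]
    exact mul_mem (inv_mem (Subgroup.mem_sup_left hwX)) hbL
  rcases cells O hK hne hnJ ha hgP with h | ⟨x, hx, b, hb, e⟩
  · obtain ⟨x, hx, t, ht, htH, e⟩ := borel g hg h
    exact ⟨x, hx, t, ht, htH, Or.inl e⟩
  · have hbL : b ∈ L O hnJ ha := by
      rw [show b = (x * nK O hnJ ha)⁻¹ * g by rw [e]; group]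
      exact mul_mem (inv_mem (mul_mem (Subgroup.mem_sup_left hx) hmem)) hg
    obtain ⟨x', hx', t, ht, htH, eb⟩ := borel b hbL hb
    refine ⟨x, hx, nK O hnJ ha * t * (nK O hnJ ha)⁻¹, mul_mem (mul_mem hmem ht) (inv_mem hmem),
      H_conj hC (nL_mem_N hC (O.J_lt a ha)) htH, Or.inr ⟨t⁻¹ * x' * t, ?_, by rw [e, eb]; group⟩⟩
    have := (tor_L O hK hnJ ha (t := t⁻¹) (inv_mem htH)).1 x' hx'
    rwa [inv_inv] at this

include hne hnJ in
/-- The rank one relation. -/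
theorem rank1 (hmem : nK O hnJ ha ∈ L O hnJ ha) {x : K} (hx : x ∈ XU O K a) (hx1 : x ≠ 1) :
    ∃ x' ∈ XU O K a, ∃ t : K, (t : GL D.Idx F) ∈ D.diagonalSubgroup F ∧ t ∈ L O hnJ ha ∧
      ∃ x'' ∈ XU O K a, nK O hnJ ha * x * (nK O hnJ ha)⁻¹ = x' * t * nK O hnJ ha * x'' := by
  have hy : nK O hnJ ha * x * (nK O hnJ ha)⁻¹ ∈ XV O hnJ ha := ⟨x, hx, rfl⟩
  obtain ⟨x', hx', t, ht, htH, h | ⟨x'', hx'', h⟩⟩ :=
    L_form O hK hne hnJ ha hz hmem (Subgroup.mem_sup_right hy)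
  · exfalso
    have h1 : ((nK O hnJ ha * x * (nK O hnJ ha)⁻¹ : K) : GL D.Idx F) ∈
        D.borelSubgroup F ⊓ D.negUnipotent F := by
      refine Subgroup.mem_inf.2 ⟨?_, Subgroup.mem_subgroupOf.1 (XV_le_V O hnJ ha hy)⟩
      rw [h, Subgroup.coe_mul]
      exact mul_mem (Subgroup.mem_sup_left (XU_le_U O ha hx')) (H_le_B htH)
    rw [B_inf_V hC, Subgroup.mem_bot] at h1
    have h2 : nK O hnJ ha * x * (nK O hnJ ha)⁻¹ = 1 := Subtype.ext h1
    exact hx1 (mul_eq_left.1 (mul_inv_eq_one.1 h2))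
  · exact ⟨x', hx', t, htH, ht, x'', hx'', h⟩

omit hz ha

/-! ### Braids -/

/-- The map of the Weyl group of the pair into the Weyl group. -/
theorem exists_weyl : ∃ Ψ : BN.Basic.W (pair O hK hne hnJ) →* WG hC, Function.Injective Ψ ∧
    ∀ s, ∃ L' : List (Fin D.rank), L'.map Fin.val = O.J (idx O hK hne hnJ s) ∧
      Ψ (BN.Basic.gen s) = wordG hC L' := by
  classical
  obtain ⟨ψ, -, hψker, hψ⟩ := exists_hom_N (F := F) hC
  let ι : (pair O hK hne hnJ).N →* D.monomialSubgroup F :=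
    (K.subtype.comp (pair O hK hne hnJ).N.subtype).codRestrict _ fun n => n.2.1
  have hι : ∀ n, (ι n : GL D.Idx F) = ((n : K) : GL D.Idx F) := fun _ => rfl
  have hker : BN.Basic.T (pair O hK hne hnJ) ≤ (ψ.comp ι).ker := by
    intro n hn
    rw [Subgroup.mem_subgroupOf] at hn
    rw [MonoidHom.mem_ker, MonoidHom.comp_apply, ← MonoidHom.mem_ker, hψker, Subgroup.mem_subgroupOf, hι]
    exact mem_H_of_inf hC ((mem_pairB O hK hne hnJ).1 hn.1) hn.2.1
  refine ⟨QuotientGroup.lift _ (ψ.comp ι) hker, ?_, fun s => ?_⟩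
  · rw [injective_iff_map_eq_one]
    intro w
    induction w using QuotientGroup.induction_on with
    | H n =>
      intro h
      rw [QuotientGroup.lift_mk] at h
      rw [QuotientGroup.eq_one_iff, Subgroup.mem_subgroupOf]
      refine Subgroup.mem_inf.2 ⟨(mem_pairB O hK hne hnJ).2 ?_, n.2⟩
      have h' : ι n ∈ ψ.ker := h
      rw [hψker, Subgroup.mem_subgroupOf, hι] at h'
      exact H_le_B h'
  · refine ⟨(O.J (idx O hK hne hnJ s)).pmap (fun i h => (⟨i, h⟩ : Fin D.rank))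
      (O.J_lt _ (idx_lt O hK hne hnJ s)), by simp [List.map_pmap], ?_⟩
    have key : ∀ (L' : List (Fin D.rank)) (h : nL hC F (L'.map Fin.val) ∈ D.monomialSubgroup F),
        ψ ⟨_, h⟩ = wordG hC L' := by
      intro L'
      induction L' with
      | nil => intro h; exact (congrArg ψ (Subtype.ext rfl)).trans (map_one ψ)
      | cons i L' ih =>
        intro h
        have h1 : ng hC (D.simple i) (1 : F) ∈ D.monomialSubgroup F := ng_mem_N hC i.2
        have h2 : nL hC F (L'.map Fin.val) ∈ D.monomialSubgroup F := nL_mem_N hC (valid hC L')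
        rw [show (⟨_, h⟩ : D.monomialSubgroup F) = ⟨_, h1⟩ * ⟨_, h2⟩ from Subtype.ext (nL_cons hC _ _),
          map_mul, hψ i _ rfl, ih h2]
        simp [wordG]
    show ψ (ι ⟨(s : K), _⟩) = _
    rw [← key _ (nL_mem_N hC (valid hC _))]
    congr 1
    refine Subtype.ext ?_
    rw [hι]
    show (((s : K) : GL D.Idx F)) = _
    rw [idx_eq O hK hne hnJ s]
    simp [List.map_pmap]

omit hK in
/-- The check giving a braid condition between two orbits. -/
def BraidChk (D : ChevalleyDatum) (T : Tab) (J J' : List ℕ) : Prop :=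
  ∃ k, wordOrdChk T (J ++ J') (2 * (k + 1)) = true ∧
    ∀ r ∈ invList D T J', wL D ((List.replicate k (J ++ J')).flatten ++ J) r ∈ invList D T J' ∧
      Neg D T J' (wL D ((List.replicate k (J ++ J')).flatten ++ J) (wL D J' r))

theorem braidAt (s t : (pair O hK hne hnJ).S)
    (h : BraidChk D T (O.J (idx O hK hne hnJ s)) (O.J (idx O hK hne hnJ t))) :
    BraidAt (fun s => L O hnJ (idx_lt O hK hne hnJ s)) s t := by
  obtain ⟨Ψ, hΨi, hΨ⟩ := exists_weyl O hK hne hnJ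
  obtain ⟨k, h1, h2⟩ := h
  have hJs := O.J_lt _ (idx_lt O hK hne hnJ s)
  have hJt := O.J_lt _ (idx_lt O hK hne hnJ t)
  refine Or.inl ⟨k, ?_, fun x hx => ?_⟩
  · obtain ⟨L₁, hL, eL⟩ := hΨ s
    obtain ⟨L₂, hL', eL'⟩ := hΨ t
    rw [← orderOf_injective Ψ hΨi, map_mul, eL, eL',
      show wordG hC L₁ * wordG hC L₂ = wordG hC (L₁ ++ L₂) by simp [wordG]]
    exact orderOf_word hC (by rwa [List.map_append, hL, hL'])
  · have hst : (((s : K) * t : K) : GL D.Idx F) =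
        nL hC F (O.J (idx O hK hne hnJ s) ++ O.J (idx O hK hne hnJ t)) := by
      rw [Subgroup.coe_mul, idx_eq O hK hne hnJ s, idx_eq O hK hne hnJ t, nL_append]
    have hp : ∀ k, ((((s : K) * t) ^ k : K) : GL D.Idx F) =
        nL hC F (List.replicate k (O.J (idx O hK hne hnJ s) ++ O.J (idx O hK hne hnJ t))).flatten := by
      intro k
      induction k with
      | zero => simp [nL]
      | succ k ih =>
        rw [pow_succ', Subgroup.coe_mul, ih, hst, List.replicate_succ, List.flatten_cons]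
        simp only [nL_append]
    refine (conj_L O hK hnJ _ _ (c := 1) (n := ((s : K) * t) ^ k * s) (L' :=
      (List.replicate k (O.J (idx O hK hne hnJ s) ++ O.J (idx O hK hne hnJ t))).flatten ++
        O.J (idx O hK hne hnJ s)) ?_ ?_ (fun r hr => (h2 r hr).1) fun r hr => (h2 r hr).2).2.2 x hx
    · intro i hi
      rcases List.mem_append.1 hi with hi | hi
      · obtain ⟨l, hl, hil⟩ := List.mem_flatten.1 hi
        rw [List.eq_of_mem_replicate hl] at hil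
        exact (List.mem_append.1 hil).elim (hJs i) (hJt i)
      · exact hJs i hi
    · rw [tor_one, one_mul, Subgroup.coe_mul, hp, idx_eq O hK hne hnJ s, nL_append]

/-- The root data. -/
noncomputable def root (p : ℕ) (hU : IsPGroup p (UK D K))
    (hmem : ∀ b (hb : b < O.k), nK O hnJ hb ∈ L O hnJ hb)
    (zs : ℕ → ℕ → Fˣ) (hzs : ∀ b < O.k, SepZ O b (zs b))
    (htor : (pair O hK hne hnJ).B ⊓ (pair O hK hne hnJ).N ≤ ⨆ s : (pair O hK hne hnJ).S,
      ((pair O hK hne hnJ).B ⊓ (pair O hK hne hnJ).N) ⊓ L O hnJ (idx_lt O hK hne hnJ s))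
    (hbr : ∀ a < O.k, ∀ b < O.k, a ≠ b → BraidChk D T (O.J a) (O.J b)) :
    Root p (pair O hK hne hnJ) where
  U := UK D K
  T := (pair O hK hne hnJ).B ⊓ (pair O hK hne hnJ).N
  X s := XU O K (idx O hK hne hnJ s)
  Y s := XV O hnJ (idx_lt O hK hne hnJ s)
  pU := hU
  U_le g hg := (mem_pairB O hK hne hnJ).2 (Subgroup.mem_sup_left hg)
  hB b hb := by
    obtain ⟨v, hv, hvF, n, hn, hnF, u, hu, huF, e⟩ := fixed_form S (hK.le b.2)
    have hnB : n ∈ D.borelSubgroup F := by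
      rw [show n = v⁻¹ * (b : GL D.Idx F) * u⁻¹ by rw [e]; group]
      exact mul_mem (mul_mem (inv_mem (Subgroup.mem_sup_left hv)) ((mem_pairB O hK hne hnJ).1 hb))
        (inv_mem (Subgroup.mem_sup_left (Uminus_le_U hC _ hu)))
    have hnH : n ∈ D.diagonalSubgroup F := mem_H_of_inf hC hnB hn
    obtain ⟨nk, hnk⟩ : ∃ nk : K, (nk : GL D.Idx F) = n := ⟨⟨n, Fx_le O hK hnF⟩, rfl⟩
    refine ⟨b * nk⁻¹, ?_, nk, (mem_pairT O hK hne hnJ).2 (hnk ▸ hnH), by rw [inv_mul_cancel_right]⟩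
    rw [Subgroup.mem_subgroupOf, Subgroup.coe_mul, Subgroup.coe_inv, hnk, e,
      show v * n * u * n⁻¹ = v * (n * u * n⁻¹) by group]
    exact mul_mem hv ((Subgroup.mem_normalizer_iff.1 (H_normalizes_U hC hnH) u).1 (Uminus_le_U hC _ hu))
  hT := rfl
  disj := by
    rw [eq_bot_iff]
    intro g hg
    obtain ⟨hgU, hgT⟩ := Subgroup.mem_inf.1 hg
    refine Subtype.ext ?_
    have : (g : GL D.Idx F) ∈ D.posUnipotent F ⊓ D.diagonalSubgroup F :=
      Subgroup.mem_inf.2 ⟨hgU, (mem_pairT O hK hne hnJ).1 hgT⟩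
    rwa [U_inf_H hC, Subgroup.mem_bot] at this
  hTU t ht u hu := by
    rw [Subgroup.mem_subgroupOf] at hu ⊢
    exact (Subgroup.mem_normalizer_iff.1 (H_normalizes_U hC ((mem_pairT O hK hne hnJ).1 ht)) _).1 hu
  comm t ht t' ht' := by
    obtain ⟨c, hc⟩ := (mem_H_iff hC).1 ((mem_pairT O hK hne hnJ).1 ht)
    obtain ⟨c', hc'⟩ := (mem_H_iff hC).1 ((mem_pairT O hK hne hnJ).1 ht')
    refine Subtype.ext ?_
    simp only [Subgroup.coe_mul, hc, hc', tor_mul, mul_comm c c']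
  X_le s := XU_le_U O (idx_lt O hK hne hnJ s)
  hXY s x hx := ⟨x, hx, by rw [idx_eq O hK hne hnJ s]; rfl⟩
  pY s := (hU.to_le (XU_le_U O (idx_lt O hK hne hnJ s))).map _
  hTX s t ht x hx := (tor_L O hK hnJ (idx_lt O hK hne hnJ s) ((mem_pairT O hK hne hnJ).1 ht)).1 x hx
  hTY s t ht x hx := (tor_L O hK hnJ (idx_lt O hK hne hnJ s) ((mem_pairT O hK hne hnJ).1 ht)).2.1 x hx
  split s u hu := by
    have ha := idx_lt O hK hne hnJ s
    have hd : tor D 1 * nL hC F (O.J (idx O hK hne hnJ s)) ∈ Fx S := by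
      rw [tor_one, one_mul]; exact hK.le (hnJ _ ha)
    obtain ⟨A, B, e, hAF, hBF, hAU, hA', hB⟩ := split_fixed O ha hd hu (hK.le u.2)
    refine ⟨⟨A, Fx_le O hK hAF⟩, hAU, ⟨B, Fx_le O hK hBF⟩,
      (mem_XU O ha 1).2 ⟨hB, hBF⟩, ?_, Subtype.ext e⟩
    rw [idx_eq O hK hne hnJ s, Subgroup.mem_subgroupOf]
    rw [tor_one, one_mul] at hA'
    exact hA'
  root n hn s := by
    rcases root_dich O hK hnJ (idx_lt O hK hne hnJ s) (n := n⁻¹)
      (by rw [Subgroup.coe_inv]; exact inv_mem hn.1) with h | h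
    · exact Or.inl fun x hx => by simpa using h x hx
    · exact Or.inr fun x hx => by simpa using h x hx
  rank1 s x hx hx1 := by
    have ha := idx_lt O hK hne hnJ s
    obtain ⟨x', hx', t, htH, htL, x'', hx'', e⟩ := rank1 O hK hne hnJ ha (hzs _ ha) (hmem _ ha) hx hx1
    exact ⟨x', hx', t, Subgroup.mem_inf.2 ⟨(mem_pairT O hK hne hnJ).2 htH, htL⟩, x'', hx'',
      by rw [idx_eq O hK hne hnJ s]; exact e⟩
  memL s := by rw [idx_eq O hK hne hnJ s]; exact hmem _ _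
  torGen := htor
  braid s t hst := braidAt O hK hne hnJ s t (hbr _ (idx_lt O hK hne hnJ s) _ (idx_lt O hK hne hnJ t) fun h =>
    hst ((idx_bij O hK hne hnJ).1 (Fin.ext h)))

end Cfsg.Agent.TwistMult.Gen
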