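import Cfsg.Agent.Lib.TwistMult.Hat
import Cfsg.Agent.Lib.BN.Parabolic
import Cfsg.Agent.Lib.BN.Matsumoto

/-!
A perfect central extension of a group with a (B, N)-pair, of order prime to the characteristic: if the
rank one subgroups lift, the whole group lifts.
-/

set_option autoImplicit false
set_option linter.unusedSectionVars false

namespace Cfsg.Agent.TwistMult

open Cfsg.Agent.BN.Basic
open scoped commutatorElement

/-- The Weyl group is a Coxeter group on the distinguished generators. -/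
theorem exists_cs {G : Type*} [Group G] (P : Cfsg.BNPair G) :
    ∃ (M : CoxeterMatrix P.S) (cs : CoxeterSystem M (W P)), ∀ s, cs.simple s = gen s := by
  have hexch : Cfsg.Agent.BN.Matsumoto.Exchange (gen (P := P)) := by
    intro s L hr hn
    have hred : ∀ L : List P.S, Cfsg.Agent.BN.Matsumoto.Red (gen (P := P)) L ↔
        len (wordW L) = L.length := by
      intro L
      constructor
      · intro h
        obtain ⟨L', hl, hw⟩ := exists_reduced (wordW L)
        have h1 := h L' hw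
        have h2 := len_wordW_le L
        omega
      · intro h L' hL'
        have h1 := len_wordW_le L'
        have h2 : wordW L' = wordW L := hL'
        rw [h2, h] at h1
        exact h1
    refine exchange ((hred L).1 hr) ?_
    have h1 := (hred L).1 hr
    have h2 : len (gen s * wordW L) ≠ L.length + 1 := fun h =>
      hn ((hred (s :: L)).2 (by rw [wordW_cons, List.length_cons, h]))
    have h3 := len_gen_mul_le s (wordW L)
    have h4 := len_gen_mul_ne s (wordW L)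
    omega
  exact Cfsg.Agent.BN.Matsumoto.exists_coxeterSystem gen_injective gen_ne_one
    (fun w => exists_word w) hexch gen_mul_self

/-- An alternating word of odd length in two involutions is an involution. -/
theorem sq_alt {H : Type*} [Group H] {a b : H} (k : ℕ) (ha : a * a = 1) (hb : b * b = 1) :
    (a * b) ^ k * a * ((a * b) ^ k * a) = 1 := by
  have ia := inv_eq_of_mul_eq_one_right ha
  have ib := inv_eq_of_mul_eq_one_right hb
  have e : a * (a * b) ^ k * a⁻¹ = ((a * b) ^ k)⁻¹ := by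
    rw [← conj_pow, show a * (a * b) * a⁻¹ = (a * b)⁻¹ by
      rw [_root_.mul_inv_rev, ia, ib, ← mul_assoc a a b, ha, one_mul], inv_pow]
  rw [ia] at e
  rw [show (a * b) ^ k * a * ((a * b) ^ k * a) = (a * b) ^ k * (a * (a * b) ^ k * a) by group, e,
    mul_inv_cancel]

/-- The braid condition between two generators, one way round. -/
def BraidAt {G : Type*} [Group G] {P : Cfsg.BNPair G} (L : P.S → Subgroup G) (s t : P.S) : Prop :=
  (∃ k, orderOf (gen s * gen t) = 2 * (k + 1) ∧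
    ∀ x ∈ L t, ((s : G) * t) ^ k * s * x * (((s : G) * t) ^ k * s)⁻¹ ∈ L t) ∨
  (orderOf (gen s * gen t) = 3 ∧ ∀ x ∈ L s, (s : G) * t * x * ((s : G) * t)⁻¹ ∈ L t)

/-- The root data of a pair in characteristic `p`. -/
structure Root {G : Type*} [Group G] (p : ℕ) (P : Cfsg.BNPair G) where
  U : Subgroup G
  T : Subgroup G
  X : P.S → Subgroup G
  Y : P.S → Subgroup G
  pU : IsPGroup p U
  U_le : U ≤ P.B
  hB : ∀ b ∈ P.B, ∃ u ∈ U, ∃ t ∈ T, b = u * t
  hT : P.B ⊓ P.N = T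
  disj : U ⊓ T = ⊥
  hTU : ∀ t ∈ T, ∀ u ∈ U, t * u * t⁻¹ ∈ U
  comm : ∀ t ∈ T, ∀ t' ∈ T, Commute t t'
  X_le : ∀ s, X s ≤ U
  hXY : ∀ s : P.S, ∀ x ∈ X s, (s : G) * x * (s : G)⁻¹ ∈ Y s
  pY : ∀ s, IsPGroup p (Y s)
  hTX : ∀ s, ∀ t ∈ T, ∀ x ∈ X s, t * x * t⁻¹ ∈ X s
  hTY : ∀ s, ∀ t ∈ T, ∀ y ∈ Y s, t * y * t⁻¹ ∈ Y s
  split : ∀ s : P.S, ∀ u ∈ U, ∃ v ∈ U, ∃ x ∈ X s, (s : G) * v * (s : G)⁻¹ ∈ U ∧ u = v * x
  root : ∀ n ∈ P.N, ∀ s, (∀ x ∈ X s, n⁻¹ * x * n ∈ U) ∨ ∀ y ∈ Y s, n⁻¹ * y * n ∈ U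
  rank1 : ∀ s : P.S, ∀ x ∈ X s, x ≠ 1 →
    ∃ x' ∈ X s, ∃ t ∈ T ⊓ (X s ⊔ Y s), ∃ x'' ∈ X s, (s : G) * x * (s : G)⁻¹ = x' * t * s * x''
  memL : ∀ s : P.S, (s : G) ∈ X s ⊔ Y s
  torGen : T ≤ ⨆ s, T ⊓ (X s ⊔ Y s)
  braid : ∀ s t : P.S, s ≠ t → BraidAt (fun s => X s ⊔ Y s) s t

namespace Root

variable {E G : Type*} [Group E] [Finite E] [Group G] [Finite G] {p : ℕ} {π : E →* G}
  {P : Cfsg.BNPair G} (R : Root p P) (h : Ctx p π)

/-- A rank one subgroup. -/
abbrev L (s : P.S) : Subgroup G := R.X s ⊔ R.Y s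

/-- The lifted rank one torus. -/
abbrev TH (π : E →* G) (s : P.S) : Subgroup E := hat p π (R.L s) ⊓ R.T.comap π

/-- The lifted torus. -/
abbrev Tor (π : E →* G) : Subgroup E := ⨆ s, R.TH π s

theorem L_gen (s : P.S) : R.L s ≤ Subgroup.closure {y | y ∈ R.L s ∧ ∃ k, y ^ p ^ k = 1} :=
  sup_gen (pgroup_gen (R.pU.to_le (R.X_le s))) (pgroup_gen (R.pY s))

theorem T_conj_L {t : G} (ht : t ∈ R.T) (s : P.S) {x : G} (hx : x ∈ R.L s) : t * x * t⁻¹ ∈ R.L s := by
  have hle : R.L s ≤ (R.L s).comap (MulAut.conj t).toMonoidHom :=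
    sup_le (fun x hx => Subgroup.mem_sup_left (R.hTX s t ht x hx))
      fun y hy => Subgroup.mem_sup_right (R.hTY s t ht y hy)
  exact hle hx

theorem tor_image {x : E} (hx : x ∈ R.Tor π) : π x ∈ R.T :=
  (iSup_le fun s => inf_le_right : R.Tor π ≤ R.T.comap π) hx

theorem conj_TH {e : E} (he : π e ∈ R.T) (hgood : ∀ s, Good p π (R.L s)) {s : P.S} {x : E}
    (hx : x ∈ R.TH π s) : e * x * e⁻¹ = x := by
  refine eq_of_good (hgood s) (conj_mem_hat (fun y hy => R.T_conj_L he s hy) hx.1) hx.1 ?_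
  rw [map_mul, map_mul, map_inv, (R.comm _ he _ hx.2).eq, mul_inv_cancel_right]

theorem commute_TH (hgood : ∀ s, Good p π (R.L s)) {s t : P.S} {x y : E} (hx : x ∈ R.TH π s)
    (hy : y ∈ R.TH π t) : Commute x y := by
  have h1 := R.conj_TH hx.2 hgood hy
  exact mul_inv_eq_iff_eq_mul.1 h1

include h

theorem mem_tor_of_T {t : G} (ht : t ∈ R.T) : ∃ x ∈ R.Tor π, π x = t := by
  have hle : (⨆ s, R.T ⊓ R.L s) ≤ (R.Tor π).map π := by
    refine iSup_le fun s y hy => ?_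
    obtain ⟨x, hx, rfl⟩ := exists_mem_hat h (R.L_gen s) hy.2
    exact ⟨x, le_iSup (R.TH π) s ⟨hx, hy.1⟩, rfl⟩
  exact hle (R.torGen ht)

theorem tor_inf_ker [Fintype P.S] (hgood : ∀ s, Good p π (R.L s))
    (hcard : ∏ s, Nat.card (R.T ⊓ R.L s : Subgroup G) ≤ Nat.card R.T) : R.Tor π ⊓ π.ker = ⊥ := by
  classical
  have hcomm : Pairwise fun s t => ∀ x y, x ∈ R.TH π s → y ∈ R.TH π t → Commute x y :=
    fun s t _ x y hx hy => R.commute_TH hgood hx hy
  have h1 : Nat.card (R.Tor π) ≤ ∏ s, Nat.card (R.TH π s) := by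
    rw [← Nat.card_pi, Tor, ← Subgroup.noncommPiCoprod_range (hcomm := hcomm)]
    exact Nat.card_le_card_of_surjective _ (MonoidHom.rangeRestrict_surjective _)
  have h2 : ∀ s, Nat.card (R.TH π s) ≤ Nat.card (R.T ⊓ R.L s : Subgroup G) := fun s =>
    Nat.card_le_card_of_injective
      (fun x => ⟨π x.1, x.2.2, hat_mem_image x.2.1⟩) fun x y e =>
        Subtype.ext (eq_of_good (hgood s) x.2.1 y.2.1 (congrArg Subtype.val e))
  have h3 : Nat.card (R.Tor π) ≤ Nat.card R.T :=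
    h1.trans ((Finset.prod_le_prod' fun s _ => h2 s).trans hcard)
  let f : R.Tor π → R.T := fun x => ⟨π x.1, R.tor_image x.2⟩
  have hf : Function.Surjective f := fun t => by
    obtain ⟨x, hx, e⟩ := R.mem_tor_of_T h t.2
    exact ⟨⟨x, hx⟩, Subtype.ext e⟩
  have hfi := ((Nat.bijective_iff_surjective_and_card f).2
    ⟨hf, le_antisymm h3 (Nat.card_le_card_of_surjective f hf)⟩).1
  rw [eq_bot_iff]
  rintro x ⟨hx, hk⟩
  have e : f ⟨x, hx⟩ = f 1 := Subtype.ext (show π x = π 1 from (MonoidHom.mem_ker.1 hk).trans (map_one π).symm)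
  exact congrArg Subtype.val (hfi e)

/-- The kernel lies in the lifted torus. -/
theorem ker_le_tor (hperf : commutator E = ⊤) (hgood : ∀ s, Good p π (R.L s)) : π.ker ≤ R.Tor π := by
  classical
  obtain ⟨hUgood, hUp⟩ := good_pgroup h R.pU
  have lift : ∀ s : P.S, ∃ e ∈ hat p π (R.L s), π e = s := fun s =>
    exists_mem_hat h (R.L_gen s) (R.memL s)
  choose ns hns hnsπ using lift
  have TN : ∀ {x : E}, x ∈ R.Tor π → π x ∈ P.B ⊓ P.N := fun hx => R.hT ▸ R.tor_image hx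
  have hsq : ∀ s, ns s * ns s ∈ R.Tor π := fun s => by
    refine le_iSup (R.TH π) s ⟨mul_mem (hns s) (hns s), ?_⟩
    show π (ns s * ns s) ∈ R.T
    rw [← R.hT, map_mul, hnsπ]
    exact ⟨P.sq_mem _ s.2, mul_mem (P.subset s.2) (P.subset s.2)⟩
  -- the generators normalise the torus
  have hconjT : ∀ s, ∀ x ∈ R.Tor π, ns s * x * (ns s)⁻¹ ∈ R.Tor π := by
    intro s
    have hle : R.Tor π ≤ (R.Tor π).comap (MulAut.conj (ns s)).toMonoidHom := iSup_le fun t x hx => by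
      show ns s * x * (ns s)⁻¹ ∈ R.Tor π
      have hxT : x ∈ R.Tor π := le_iSup (R.TH π) t hx
      have h1 : ns s * x * (ns s)⁻¹ * x⁻¹ ∈ R.TH π s := by
        refine ⟨?_, ?_⟩
        · rw [show ns s * x * (ns s)⁻¹ * x⁻¹ = ns s * (x * (ns s)⁻¹ * x⁻¹) by group]
          exact mul_mem (hns s) (conj_mem_hat (fun y hy => R.T_conj_L hx.2 s hy) (inv_mem (hns s)))
        · show π (ns s * x * (ns s)⁻¹ * x⁻¹) ∈ R.T
          rw [map_mul, map_mul, map_mul, map_inv, map_inv, hnsπ]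
          refine mul_mem ?_ (inv_mem (show π x ∈ R.T from hx.2))
          have hx2 : π x ∈ P.B ⊓ P.N := R.hT.symm ▸ hx.2
          rw [← R.hT]
          exact Subgroup.mem_inf.2 ⟨P.conj_mem _ (P.subset s.2) _ hx2,
            mul_mem (mul_mem (P.subset s.2) hx2.2) (inv_mem (P.subset s.2))⟩
      have := mul_mem (le_iSup (R.TH π) s h1) hxT
      rwa [inv_mul_cancel_right] at this
    exact fun x hx => hle hx
  obtain ⟨NN, hNN⟩ : ∃ NN, NN = Subgroup.closure (Set.range ns ∪ (R.Tor π : Set E)) := ⟨_, rfl⟩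
  have hsNN : ∀ s, ns s ∈ NN := fun s => hNN ▸ Subgroup.subset_closure (Or.inl ⟨s, rfl⟩)
  have hTNN : R.Tor π ≤ NN := fun x hx => hNN ▸ Subgroup.subset_closure (Or.inr hx)
  have hnorm : ∀ g ∈ NN, ∀ x, x ∈ R.Tor π ↔ g * x * g⁻¹ ∈ R.Tor π := by
    have hle : NN ≤ Subgroup.normalizer (R.Tor π : Set E) := by
      rw [hNN, Subgroup.closure_le]
      rintro g (⟨s, rfl⟩ | hg)
      · rw [SetLike.mem_coe, Subgroup.mem_normalizer_iff]
        refine fun x => ⟨hconjT s x, fun hx => ?_⟩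
        have h2 := hconjT s _ hx
        have h3 := mul_mem (mul_mem (inv_mem (hsq s)) h2) (hsq s)
        rwa [show (ns s * ns s)⁻¹ * (ns s * (ns s * x * (ns s)⁻¹) * (ns s)⁻¹) * (ns s * ns s) = x by group] at h3
      · exact Subgroup.le_normalizer hg
    exact fun g hg x => Subgroup.mem_normalizer_iff.1 (hle hg) x
  have hπN : ∀ x ∈ NN, π x ∈ P.N := by
    intro x hx
    rw [hNN] at hx
    induction hx using Subgroup.closure_induction with
    | mem y hy =>
      rcases hy with ⟨s, rfl⟩ | hy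
      · rw [hnsπ]; exact P.subset s.2
      · exact (TN hy).2
    | one => rw [map_one]; exact one_mem _
    | mul a b _ _ ha hb => rw [map_mul]; exact mul_mem ha hb
    | inv a _ ha => rw [map_inv]; exact inv_mem ha
  obtain ⟨T', hT'⟩ : ∃ T' : Subgroup NN, T' = (R.Tor π).subgroupOf NN := ⟨_, rfl⟩
  haveI : T'.Normal := ⟨fun n hn g => by
    rw [hT', Subgroup.mem_subgroupOf] at hn ⊢
    exact (hnorm g.1 g.2 n.1).1 hn⟩
  let g : P.S → NN ⧸ T' := fun s => QuotientGroup.mk ⟨ns s, hsNN s⟩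
  have hqone : ∀ (x : NN), (x : E) ∈ R.Tor π → (QuotientGroup.mk x : NN ⧸ T') = 1 := fun x hx =>
    (QuotientGroup.eq_one_iff x).2 (by rw [hT', Subgroup.mem_subgroupOf]; exact hx)
  have g2 : ∀ s, g s * g s = 1 := fun s =>
    (QuotientGroup.mk_mul T' _ _).symm.trans (hqone (⟨ns s, hsNN s⟩ * ⟨ns s, hsNN s⟩) (hsq s))
  have ginv : ∀ s, (g s)⁻¹ = g s := fun s => inv_eq_of_mul_eq_one_right (g2 s)
  -- a conjugate of a rank one element
  have hmove : ∀ (y : E) (hy : y ∈ NN) (a b : P.S), (∀ x ∈ R.L a, π y * x * (π y)⁻¹ ∈ R.L b) →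
      mkW (hπN y hy) * gen a * (mkW (hπN y hy))⁻¹ = gen b →
      (QuotientGroup.mk (⟨y, hy⟩ : NN) : NN ⧸ T') * g a * (QuotientGroup.mk (⟨y, hy⟩ : NN))⁻¹ = g b := by
    intro y hy a b hconj hW
    rw [← mul_inv_eq_one, ginv b]
    refine hqone (⟨y, hy⟩ * ⟨ns a, hsNN a⟩ * ⟨y, hy⟩⁻¹ * ⟨ns b, hsNN b⟩) ?_
    show y * ns a * y⁻¹ * ns b ∈ R.Tor π
    refine le_iSup (R.TH π) b ⟨mul_mem (conj_mem_hat hconj (hns a)) (hns b), ?_⟩
    show π (y * ns a * y⁻¹ * ns b) ∈ R.T
    have hmem : π (y * ns a * y⁻¹ * ns b) ∈ P.N := by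
      rw [map_mul, map_mul, map_mul, map_inv, hnsπ, hnsπ]
      exact mul_mem (mul_mem (mul_mem (hπN y hy) (P.subset a.2)) (inv_mem (hπN y hy))) (P.subset b.2)
    rw [← R.hT]
    refine ⟨(mkW_eq_one_iff hmem).1 ?_, hmem⟩
    have e : mkW hmem = mkW (hπN y hy) * gen a * (mkW (hπN y hy))⁻¹ * gen b := by
      rw [gen, gen, ← mkW_inv, ← mkW_mul, ← mkW_mul, ← mkW_mul]
      congr 1
      rw [map_mul, map_mul, map_mul, map_inv, hnsπ, hnsπ]
    rw [e, hW, gen_mul_self]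
  have hbr : ∀ s t, (g s * g t) ^ orderOf (gen s * gen t) = 1 := by
    intro s t
    rcases eq_or_ne s t with rfl | hst
    · rw [g2, one_pow]
    rcases R.braid s t hst with ⟨k, hk, hL⟩ | ⟨h3, hL⟩
    · obtain ⟨y, hy_def⟩ : ∃ y, y = (ns s * ns t) ^ k * ns s := ⟨_, rfl⟩
      have hy : y ∈ NN := hy_def ▸ mul_mem (pow_mem (mul_mem (hsNN s) (hsNN t)) k) (hsNN s)
      have hπy : π y = ((s : G) * t) ^ k * s := by
        rw [hy_def, map_mul, map_pow, map_mul, hnsπ, hnsπ]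
      have hW0 : mkW (hπN y hy) = (gen s * gen t) ^ k * gen s := by
        rw [gen, gen, ← mkW_mul]
        have : ∀ (n : G) (hn : n ∈ P.N) (j : ℕ), mkW (pow_mem hn j) = mkW hn ^ j := fun n hn j => rfl
        rw [← this, ← mkW_mul]
        congr 1
      have hY2 := sq_alt k (gen_mul_self s) (gen_mul_self t)
      have hWpow : ((gen s * gen t) ^ k * gen s * gen t) * ((gen s * gen t) ^ k * gen s * gen t) = 1 := by
        rw [mul_assoc _ (gen s) (gen t), ← pow_succ, ← pow_add,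
          show k + 1 + (k + 1) = 2 * (k + 1) by ring, ← hk, pow_orderOf_eq_one]
      have hW : mkW (hπN y hy) * gen t * (mkW (hπN y hy))⁻¹ = gen t := by
        rw [hW0]
        generalize (gen s * gen t) ^ k * gen s = c at hY2 hWpow ⊢
        have e1 := eq_inv_of_mul_eq_one_left hWpow
        rw [inv_eq_of_mul_eq_one_right hY2, e1, _root_.mul_inv_rev, gen_inv,
          inv_eq_of_mul_eq_one_right hY2, mul_assoc, hY2, mul_one]
      have hg := hmove y hy t t (by rw [hπy]; exact hL) hW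
      have hy' : (QuotientGroup.mk (⟨y, hy⟩ : NN) : NN ⧸ T') = (g s * g t) ^ k * g s := by
        subst hy_def; rfl
      rw [hy'] at hg
      have hq2 := sq_alt k (g2 s) (g2 t)
      rw [hk, show 2 * (k + 1) = k + 1 + (k + 1) by ring, pow_add, pow_succ, ← mul_assoc _ (g s) (g t)]
      generalize (g s * g t) ^ k * g s = c at hg hq2 ⊢
      calc c * g t * (c * g t) = (c * g t * c⁻¹) * (c * c) * g t := by group
        _ = 1 := by rw [hg, hq2, mul_one, g2]
    · obtain ⟨y, hy_def⟩ : ∃ y, y = ns s * ns t := ⟨_, rfl⟩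
      have hy : y ∈ NN := hy_def ▸ mul_mem (hsNN s) (hsNN t)
      have hπy : π y = (s : G) * t := by rw [hy_def, map_mul, hnsπ, hnsπ]
      have hW0 : mkW (hπN y hy) = gen s * gen t := by
        rw [gen, gen, ← mkW_mul]
        congr 1
      have hW : mkW (hπN y hy) * gen s * (mkW (hπN y hy))⁻¹ = gen t := by
        have e := pow_orderOf_eq_one (gen s * gen t)
        rw [h3, pow_succ, pow_two] at e
        rw [hW0, _root_.mul_inv_rev, gen_inv, gen_inv]
        calc gen s * gen t * gen s * (gen t * gen s)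
            = (gen s * gen t * (gen s * gen t) * (gen s * gen t)) * gen t := by
              rw [show gen s * gen t * (gen s * gen t) * (gen s * gen t) * gen t =
                gen s * gen t * gen s * gen t * gen s * (gen t * gen t) by group, gen_mul_self, mul_one]
              group
          _ = gen t := by rw [e, one_mul]
      have hg := hmove y hy s t (by rw [hπy]; exact hL) hW
      have hy' : (QuotientGroup.mk (⟨y, hy⟩ : NN) : NN ⧸ T') = g s * g t := by
        subst hy_def; rfl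
      rw [hy', _root_.mul_inv_rev, ginv, ginv] at hg
      rw [h3, pow_succ, pow_two]
      calc g s * g t * (g s * g t) * (g s * g t) = g s * g t * g s * (g t * g s) * g t := by group
        _ = g t * g t := by rw [hg]
        _ = 1 := g2 t
  obtain ⟨M, cs, hcs⟩ := exists_cs P
  have hlift : M.IsLiftable g := fun s t => by
    have h2 : (gen s * gen t) ^ M s t = 1 := by
      rw [← hcs, ← hcs]; exact cs.simple_mul_simple_pow s t
    obtain ⟨c, hc⟩ := orderOf_dvd_of_pow_eq_one h2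
    rw [hc, pow_mul, hbr, one_pow]
  let hW : W P →* NN ⧸ T' := cs.lift ⟨g, hlift⟩
  let ω : NN →* W P :=
    { toFun := fun x => mkW (hπN x.1 x.2)
      map_one' := (mkW_eq_one_iff _).2 (by rw [show π ((1 : NN) : E) = 1 from map_one π]; exact one_mem _)
      map_mul' := fun x y => by
        rw [← mkW_mul]
        congr 1
        exact map_mul π x.1 y.1 }
  have hωg : ∀ (y : NN), (y : E) ∈ R.Tor π ∨ (∃ s, (y : E) = ns s) → hW (ω y) = QuotientGroup.mk y := by
    rintro y (hy | ⟨s, hs⟩)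
    · rw [hqone y hy, show ω y = 1 from (mkW_eq_one_iff _).2 (TN hy).1, map_one]
    · have e : ω y = gen s := by
        show mkW (hπN y.1 y.2) = mkW (P.subset s.2)
        congr 1
        rw [hs, hnsπ]
      rw [e, ← hcs]
      show cs.lift ⟨g, hlift⟩ (cs.simple s) = _
      rw [cs.lift_apply_simple hlift s]
      exact congrArg QuotientGroup.mk (Subtype.ext hs.symm)
  have hcore : ∀ x ∈ NN, π x ∈ P.B → x ∈ R.Tor π := by
    intro x hx hB
    have key : ∀ (z : E) (hz : z ∈ NN), hW (ω ⟨z, hz⟩) = QuotientGroup.mk (⟨z, hz⟩ : NN) := by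
      intro z hz
      suffices hall : ∀ z ∈ Subgroup.closure (Set.range ns ∪ (R.Tor π : Set E)),
          ∃ hz : z ∈ NN, hW (ω ⟨z, hz⟩) = QuotientGroup.mk (⟨z, hz⟩ : NN) by
        obtain ⟨_, e⟩ := hall z (hNN ▸ hz)
        exact e
      intro z hz
      induction hz using Subgroup.closure_induction with
      | mem y hy =>
        rcases hy with ⟨s, rfl⟩ | hy
        · exact ⟨hsNN s, hωg _ (Or.inr ⟨s, rfl⟩)⟩
        · exact ⟨hTNN hy, hωg _ (Or.inl hy)⟩
      | one => exact ⟨one_mem _, (congrArg hW (map_one ω)).trans (map_one hW)⟩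
      | mul a b _ _ ha hb =>
        obtain ⟨ha, ea⟩ := ha
        obtain ⟨hb, eb⟩ := hb
        refine ⟨mul_mem ha hb, ?_⟩
        show hW (ω (⟨a, ha⟩ * ⟨b, hb⟩)) = QuotientGroup.mk ((⟨a, ha⟩ : NN) * ⟨b, hb⟩)
        rw [map_mul, map_mul, ea, eb, QuotientGroup.mk_mul]
      | inv a _ ha =>
        obtain ⟨ha, ea⟩ := ha
        refine ⟨inv_mem ha, ?_⟩
        show hW (ω (⟨a, ha⟩⁻¹)) = QuotientGroup.mk ((⟨a, ha⟩ : NN)⁻¹)
        rw [map_inv, map_inv, ea, QuotientGroup.mk_inv]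
    have e := key x hx
    rw [show ω ⟨x, hx⟩ = 1 from (mkW_eq_one_iff _).2 hB, map_one, eq_comm, QuotientGroup.eq_one_iff, hT',
      Subgroup.mem_subgroupOf] at e
    exact e
  -- the cells
  obtain ⟨UH, hUH⟩ : ∃ UH, UH = hat p π R.U := ⟨_, rfl⟩
  obtain ⟨Xc, hXc⟩ : ∃ Xc : Set E, Xc = {e | ∃ u ∈ UH, ∃ n ∈ NN, ∃ u' ∈ UH, e = u * n * u'} := ⟨_, rfl⟩
  have liftU : ∀ {y}, y ∈ R.U → ∃ x ∈ UH, π x = y := fun hy =>
    hUH ▸ exists_mem_hat h (pgroup_gen R.pU) hy
  have conjU : ∀ {e x : E}, x ∈ UH → π e * π x * (π e)⁻¹ ∈ R.U → e * x * e⁻¹ ∈ UH := by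
    intro e x hx he
    obtain ⟨k, hk⟩ := hUp x (hUH ▸ hx)
    rw [hUH]
    refine Subgroup.subset_closure ⟨⟨k, ?_⟩, ?_⟩
    · rw [← MulAut.conj_apply, ← map_pow, hk, map_one]
    · rwa [map_mul, map_mul, map_inv]
  have leftT : ∀ t ∈ R.Tor π, ∀ e ∈ Xc, t * e ∈ Xc := by
    intro t ht e he
    rw [hXc] at he ⊢
    obtain ⟨u, hu, n, hn, u', hu', rfl⟩ := he
    exact ⟨t * u * t⁻¹, conjU hu (R.hTU _ (R.tor_image ht) _ (hat_mem_image (hUH ▸ hu))), t * n,
      mul_mem (hTNN ht) hn, u', hu', by group⟩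
  have leftU : ∀ a ∈ UH, ∀ e ∈ Xc, a * e ∈ Xc := by
    intro a ha e he
    rw [hXc] at he ⊢
    obtain ⟨u, hu, n, hn, u', hu', rfl⟩ := he
    exact ⟨a * u, mul_mem ha hu, n, hn, u', hu', by group⟩
  have leftS : ∀ s, ∀ e ∈ Xc, ns s * e ∈ Xc := by
    intro s e he
    rw [hXc] at he
    obtain ⟨u, hu, n, hn, u', hu', rfl⟩ := he
    obtain ⟨v, hv, x, hx, hvs, huv⟩ := R.split s (π u) (hat_mem_image (hUH ▸ hu))
    obtain ⟨v', hv', rfl⟩ := liftU hv
    obtain ⟨x', hx', rfl⟩ := liftU (R.X_le s hx)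
    have hu2 : u = v' * x' :=
      eq_of_good hUgood (hUH ▸ hu) (hUH ▸ mul_mem hv' hx') (by rw [map_mul, ← huv])
    rw [show ns s * (u * n * u') = ns s * v' * (ns s)⁻¹ * (ns s * x' * n * u') by rw [hu2]; group]
    refine leftU _ (conjU hv' (by rw [hnsπ]; exact hvs)) _ ?_
    rcases R.root (π n) (hπN n hn) s with hpos | hneg
    · have hmem : n⁻¹ * x' * n ∈ UH := by
        have := conjU (e := n⁻¹) hx' (by rw [map_inv, inv_inv]; exact hpos _ hx)
        rwa [inv_inv] at this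
      rw [hXc]
      exact ⟨1, one_mem _, ns s * n, mul_mem (hsNN s) hn, n⁻¹ * x' * n * u', mul_mem hmem hu', by group⟩
    · by_cases hx1 : π x' = 1
      · have : x' = 1 := eq_of_good hUgood (hUH ▸ hx') (one_mem _) (by rw [hx1, map_one])
        subst this
        rw [hXc]
        exact ⟨1, one_mem _, ns s * n, mul_mem (hsNN s) hn, u', hu', by group⟩
      obtain ⟨a, ha, t, ht, b, hb, hr⟩ := R.rank1 s _ hx hx1
      obtain ⟨a', ha', rfl⟩ := liftU (R.X_le s ha)
      obtain ⟨b', hb', rfl⟩ := liftU (R.X_le s hb)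
      obtain ⟨t', ht', rfl⟩ := exists_mem_hat h (R.L_gen s) ht.2
      have inL : ∀ {z : E}, z ∈ UH → π z ∈ R.X s → z ∈ hat p π (R.L s) := fun {z} hz hzX =>
        Subgroup.subset_closure ⟨hUp z (hUH ▸ hz), Subgroup.mem_sup_left hzX⟩
      have e1 : ns s * x' * (ns s)⁻¹ = a' * t' * ns s * b' :=
        eq_of_good (hgood s) (mul_mem (mul_mem (hns s) (inL hx' hx)) (inv_mem (hns s)))
          (mul_mem (mul_mem (mul_mem (inL ha' ha) ht') (hns s)) (inL hb' hb))
          (by rw [map_mul, map_mul, map_inv, map_mul, map_mul, map_mul, hnsπ]; exact hr)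
      have hY : π ((ns s)⁻¹ * b' * ns s) ∈ R.Y s := by
        have hs2 : ((s : G) * s) ∈ R.T := R.hT ▸ ⟨P.sq_mem _ s.2, mul_mem (P.subset s.2) (P.subset s.2)⟩
        have := R.hXY s _ (R.hTX s _ (inv_mem hs2) _ hb)
        rw [map_mul, map_mul, map_inv, hnsπ]
        convert this using 1
        group
      have hy' : n⁻¹ * ((ns s)⁻¹ * b' * ns s) * n ∈ UH := by
        have := conjU (e := n⁻¹ * (ns s)⁻¹) hb' (by
          have := hneg _ hY
          rw [map_mul, map_mul, map_inv] at this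
          rw [map_mul, map_inv, map_inv, _root_.mul_inv_rev, inv_inv, inv_inv]
          simpa only [mul_assoc] using this)
        convert this using 1
        group
      rw [hXc]
      refine ⟨a', ha', t' * (ns s * ns s) * n, mul_mem (mul_mem (hTNN (le_iSup (R.TH π) s ⟨ht', ht.1⟩))
        (hTNN (hsq s))) hn, n⁻¹ * ((ns s)⁻¹ * b' * ns s) * n * u', mul_mem hy' hu', ?_⟩
      calc ns s * x' * n * u' = (ns s * x' * (ns s)⁻¹) * ns s * n * u' := by group
        _ = _ := by rw [e1]; group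
  obtain ⟨MM, hMM⟩ : ∃ MM, MM = Subgroup.closure (Set.range ns ∪ (R.Tor π : Set E) ∪ (UH : Set E)) :=
    ⟨_, rfl⟩
  have hgen : ∀ e ∈ MM, e ∈ Xc := by
    intro e he
    rw [hMM] at he
    induction he using Subgroup.closure_induction_left with
    | one => rw [hXc]; exact ⟨1, one_mem _, 1, one_mem _, 1, one_mem _, by group⟩
    | mul_left x hx y _ hy =>
      rcases hx with (⟨s, rfl⟩ | hx) | hx
      · exact leftS s y hy
      · exact leftT x hx y hy
      · exact leftU x hx y hy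
    | inv_mul_cancel x hx y _ hy =>
      rcases hx with (⟨s, rfl⟩ | hx) | hx
      · rw [show (ns s)⁻¹ * y = (ns s * ns s)⁻¹ * (ns s * y) by group]
        exact leftT _ (inv_mem (hsq s)) _ (leftS s y hy)
      · exact leftT _ (inv_mem hx) y hy
      · exact leftU _ (inv_mem hx) y hy
  have htop : MM = ⊤ := by
    have hG : ∀ y : G, y ∈ MM.map π := by
      intro y
      have hy : y ∈ P.B ⊔ P.N := P.sup_eq_top ▸ Subgroup.mem_top y
      have hTm : R.T ≤ MM.map π := fun t ht => by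
        obtain ⟨x, hx, e⟩ := R.mem_tor_of_T h ht
        exact ⟨x, hMM ▸ Subgroup.subset_closure (Or.inl (Or.inr hx)), e⟩
      refine (sup_le ?_ ?_ : P.B ⊔ P.N ≤ MM.map π) hy
      · intro b hb
        obtain ⟨u, hu, t, ht, rfl⟩ := R.hB b hb
        obtain ⟨x, hx, e⟩ := liftU hu
        exact mul_mem ⟨x, hMM ▸ Subgroup.subset_closure (Or.inr hx), e⟩ (hTm ht)
      · rw [← P.closure_sup]
        refine sup_le ((Subgroup.closure_le _).2 fun s hs => ?_) fun t ht => hTm (R.hT.le ht)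
        exact ⟨ns ⟨s, hs⟩, hMM ▸ Subgroup.subset_closure (Or.inl (Or.inl ⟨_, rfl⟩)), hnsπ ⟨s, hs⟩⟩
    rw [eq_top_iff, ← hperf, _root_.commutator_def, Subgroup.commutator_le]
    intro x _ y _
    obtain ⟨x', hx', ex⟩ := hG (π x)
    obtain ⟨y', hy', ey⟩ := hG (π y)
    have cx : ∀ z ∈ π.ker, ∀ w, Commute z w := fun z hz w => (Subgroup.mem_center_iff.1 (h.cen hz) w).symm
    obtain ⟨z, hz, rfl⟩ : ∃ z ∈ π.ker, x = z * x' := ⟨x * x'⁻¹, by
      rw [MonoidHom.mem_ker, map_mul, map_inv, ex, mul_inv_cancel], by group⟩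
    obtain ⟨w, hw, rfl⟩ : ∃ w ∈ π.ker, y = w * y' := ⟨y * y'⁻¹, by
      rw [MonoidHom.mem_ker, map_mul, map_inv, ey, mul_inv_cancel], by group⟩
    have e : ⁅z * x', w * y'⁆ = ⁅x', y'⁆ := by
      simp only [commutatorElement_def, _root_.mul_inv_rev]
      calc z * x' * (w * y') * (x'⁻¹ * z⁻¹) * (y'⁻¹ * w⁻¹)
          = z * (x' * w) * y' * x'⁻¹ * z⁻¹ * y'⁻¹ * w⁻¹ := by group
        _ = z * (w * x') * y' * x'⁻¹ * z⁻¹ * y'⁻¹ * w⁻¹ := by rw [(cx w hw x').eq]
        _ = z * w * (x' * y' * x'⁻¹) * z⁻¹ * (y'⁻¹ * w⁻¹) := by group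
        _ = z * w * z⁻¹ * (x' * y' * x'⁻¹) * (w⁻¹ * y'⁻¹) := by
            rw [mul_assoc (z * w) _ z⁻¹, ← ((cx z⁻¹ (inv_mem hz) _).eq), ← mul_assoc (z * w) z⁻¹,
              (cx w⁻¹ (inv_mem hw) y'⁻¹).eq]
        _ = w * (z * z⁻¹) * (x' * y' * x'⁻¹) * w⁻¹ * y'⁻¹ := by rw [(cx z hz w).eq]; group
        _ = w * (x' * y' * x'⁻¹) * w⁻¹ * y'⁻¹ := by group
        _ = _ := by rw [(cx w hw _).eq, mul_inv_cancel_right]
    rw [e, commutatorElement_def]
    exact mul_mem (mul_mem (mul_mem hx' hy') (inv_mem hx')) (inv_mem hy')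
  intro z hz
  have hzX : z ∈ Xc := hgen z (htop ▸ Subgroup.mem_top z)
  rw [hXc] at hzX
  obtain ⟨u, hu, n, hn, u', hu', rfl⟩ := hzX
  have hu0 := hat_mem_image (hUH ▸ hu : u ∈ hat p π R.U)
  have hu0' := hat_mem_image (hUH ▸ hu' : u' ∈ hat p π R.U)
  have hπn : π n = (π u)⁻¹ * (π u')⁻¹ := by
    have hk : π u * π n * π u' = 1 := by rw [← map_mul, ← map_mul]; exact hz
    rw [eq_inv_mul_iff_mul_eq]
    exact eq_inv_of_mul_eq_one_left hk
  have hnU : π n ∈ R.U := hπn ▸ mul_mem (inv_mem hu0) (inv_mem hu0')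
  have hnT : n ∈ R.Tor π := hcore n hn (R.U_le hnU)
  have hn1 : π n = 1 := by
    have : π n ∈ R.U ⊓ R.T := ⟨hnU, R.tor_image hnT⟩
    rwa [R.disj, Subgroup.mem_bot] at this
  have hc : n * u' = u' * n := (Subgroup.mem_center_iff.1 (h.cen (MonoidHom.mem_ker.2 hn1)) u').symm
  rw [mul_assoc, hc, ← mul_assoc] at hz ⊢
  have h2 : u * u' ∈ hat p π R.U ⊓ π.ker := ⟨hUH ▸ mul_mem hu hu', by
    have e : π (u * u' * n) = 1 := hz
    rw [map_mul, hn1, mul_one] at e
    exact e⟩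
  rw [hUgood, Subgroup.mem_bot] at h2
  rw [h2, one_mul]
  exact hnT

/-- The kernel is trivial. -/
theorem ker_eq_bot [Fintype P.S] (hperf : commutator E = ⊤) (hgood : ∀ s, Good p π (R.L s))
    (hcard : ∏ s, Nat.card (R.T ⊓ R.L s : Subgroup G) ≤ Nat.card R.T) : π.ker = ⊥ := by
  rw [← R.tor_inf_ker h hgood hcard, inf_eq_right.2 (R.ker_le_tor h hperf hgood)]

/-- The order of the kernel divides the excess of the rank one tori over the torus. -/
theorem card_ker_dvd [Fintype P.S] (hperf : commutator E = ⊤) (hgood : ∀ s, Good p π (R.L s)) {g : ℕ}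
    (hcard : ∏ s, Nat.card (R.T ⊓ R.L s : Subgroup G) = g * Nat.card R.T) : Nat.card π.ker ∣ g := by
  classical
  have hcomm : Pairwise fun s t => ∀ x y, x ∈ R.TH π s → y ∈ R.TH π t → Commute x y :=
    fun s t _ x y hx hy => R.commute_TH hgood hx hy
  have hbij : ∀ s, Nat.card (R.TH π s) = Nat.card (R.T ⊓ R.L s : Subgroup G) := fun s =>
    Nat.card_eq_of_bijective (fun x : R.TH π s => (⟨π x.1, x.2.2, hat_mem_image x.2.1⟩ :
      (R.T ⊓ R.L s : Subgroup G)))
      ⟨fun x y e => Subtype.ext (eq_of_good (hgood s) x.2.1 y.2.1 (congrArg Subtype.val e)), fun y => by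
        obtain ⟨x, hx, e⟩ := exists_mem_hat h (R.L_gen s) y.2.2
        exact ⟨⟨x, hx, show π x ∈ R.T from e.symm ▸ y.2.1⟩, Subtype.ext e⟩⟩
  have hdvd : Nat.card (R.Tor π) ∣ g * Nat.card R.T := by
    rw [← hcard, Tor, ← Subgroup.noncommPiCoprod_range (hcomm := hcomm),
      ← Finset.prod_congr rfl (fun s _ => hbij s), ← Nat.card_pi]
    exact Subgroup.card_dvd_of_surjective _ (MonoidHom.rangeRestrict_surjective _)
  let f : R.Tor π →* R.T := (π.comp (R.Tor π).subtype).codRestrict R.T fun x => R.tor_image (π := π) x.2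
  have hf : Function.Surjective f := fun t => by
    obtain ⟨x, hx, e⟩ := R.mem_tor_of_T h t.2
    exact ⟨⟨x, hx⟩, Subtype.ext e⟩
  have hker : Nat.card f.ker = Nat.card π.ker := Nat.card_congr
    { toFun := fun x => ⟨x.1.1, congrArg Subtype.val (MonoidHom.mem_ker.1 x.2)⟩
      invFun := fun x => ⟨⟨x.1, R.ker_le_tor h hperf hgood x.2⟩, MonoidHom.mem_ker.2 (Subtype.ext x.2)⟩
      left_inv := fun _ => rfl
      right_inv := fun _ => rfl }
  rw [← Subgroup.card_mul_index f.ker, hker, Subgroup.index_ker, MonoidHom.range_eq_top.2 hf,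
    Subgroup.card_top] at hdvd
  exact (Nat.mul_dvd_mul_iff_right Nat.card_pos).1 hdvd

end Root

end Cfsg.Agent.TwistMult
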