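import Cfsg.Agent.Lib.TwistMult.OrthRoot
import Cfsg.Agent.Lib.TwistMult.GoodSL2

/-!
The rank one subgroups of a fixed group with orthogonal orbits as images of `SL₂`.
-/

set_option autoImplicit false
set_option linter.unusedSectionVars false

open scoped Matrix

namespace Cfsg.Agent.TwistMult.Orth

open Cfsg.Lie Cfsg.Agent.Chevalley Cfsg.Agent.Chevalley.Table Cfsg.Agent.Chevalley.Cert
  Cfsg.Agent.Chevalley.Group Cfsg.Agent.Chevalley.Weight Cfsg.Agent.Chevalley.Unip
  Cfsg.Agent.Chevalley.Borel Cfsg.Agent.Chevalley.Weyl Cfsg.Agent.Chevalley.Bruhat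
  Cfsg.Agent.Chevalley.NormalForm Cfsg.Agent.Chevalley.WeylEnum Cfsg.Agent.Chevalley.AutThm
  Cfsg.Agent.Chevalley.Twist

variable {D : ChevalleyDatum} {F : Type*} [Field F] {T : Tab} {hC : Certified D T} {S : Tw hC F}
  (O : Orbits S) {K : Subgroup (GL D.Idx F)} (hK : GenData O K) {π : ℕ → ℕ} (hπ : S.π = π)
  (hO : ∀ a < O.k, Orth hC π (O.J a)) {a : ℕ} (ha : a < O.k) {E : Type*} [Field E]
  (P : Par S (O.J a) E)

include hK hπ hO ha

/-- The map of `SL₂` onto a rank one subgroup. -/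
theorem exists_phi : ∃ φ : Matrix.SpecialLinearGroup (Fin 2) E →* K,
    (∀ t, φ (SL2.sx t) = xp O hK hπ hO ha P t) ∧ ∀ t, φ (SL2.sy t) = xn O hK hπ hO ha P t := by
  classical
  have hJ := hO a ha
  choose φ hφx hφy _hφk using fun (j : {j // j ∈ O.J a}) => exists_rank1 (F := F) hC (hJ.lt j.1 j.2)
  let φ' : ℕ → Matrix.SpecialLinearGroup (Fin 2) F →* D.group F :=
    fun j => if h : j ∈ O.J a then φ ⟨j, h⟩ else 1
  have hx : ∀ j ∈ O.J a, ∀ t, ((φ' j (SL2.sx t) : D.group F) : GL D.Idx F) = xg hC (D.simple j) t :=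
    fun j hj t => by simp [φ', hj, hφx]
  have hy : ∀ j ∈ O.J a, ∀ t,
      ((φ' j (SL2.sy t) : D.group F) : GL D.Idx F) = xg hC (D.neg (D.simple j)) t :=
    fun j hj t => by simp [φ', hj, hφy]
  have hcomm : ∀ j ∈ O.J a, ∀ l ∈ O.J a, j ≠ l → ∀ g g', Commute (φ' j g) (φ' l g') := by
    intro j hj l hl hne g
    refine sl2_induction (P := fun g => ∀ g', Commute (φ' j g) (φ' l g')) ?_ ?_ ?_ g
    · intro t
      refine sl2_induction (fun t' => ?_) (fun t' => ?_) fun b c hb hc => by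
        rw [map_mul]; exact hb.mul_right hc
      · refine Subtype.ext ?_
        simp only [Subgroup.coe_mul, hx j hj, hx l hl]
        exact orth_commute hJ hj hl hne (Or.inl rfl) (Or.inl rfl) t t'
      · refine Subtype.ext ?_
        simp only [Subgroup.coe_mul, hx j hj, hy l hl]
        exact orth_commute hJ hj hl hne (Or.inl rfl) (Or.inr rfl) t t'
    · intro t
      refine sl2_induction (fun t' => ?_) (fun t' => ?_) fun b c hb hc => by
        rw [map_mul]; exact hb.mul_right hc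
      · refine Subtype.ext ?_
        simp only [Subgroup.coe_mul, hy j hj, hx l hl]
        exact orth_commute hJ hj hl hne (Or.inr rfl) (Or.inl rfl) t t'
      · refine Subtype.ext ?_
        simp only [Subgroup.coe_mul, hy j hj, hy l hl]
        exact orth_commute hJ hj hl hne (Or.inr rfl) (Or.inr rfl) t t'
    · intro b c hb hc g'
      rw [map_mul]
      exact (hb g').mul_left (hc g')
  let em : ℕ → Matrix.SpecialLinearGroup (Fin 2) E →* Matrix.SpecialLinearGroup (Fin 2) F :=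
    fun j => Matrix.SpecialLinearGroup.map (P.em j)
  let Q : List ℕ → Matrix.SpecialLinearGroup (Fin 2) E → D.group F :=
    fun l g => (l.map fun j => φ' j (em j g)).prod
  have hQmul : ∀ l : List ℕ, l.Nodup → (∀ j ∈ l, j ∈ O.J a) → ∀ g g', Q l (g * g') = Q l g * Q l g' := by
    intro l
    induction l with
    | nil => intro _ _ g g'; simp [Q]
    | cons b l ih =>
      intro hnd hl g g'
      rw [List.nodup_cons] at hnd
      have e := ih hnd.2 (fun j hj => hl j (List.mem_cons_of_mem b hj)) g g'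
      have hc : Commute (φ' b (em b g')) (Q l g) := Commute.list_prod_right _ _ fun x hx' => by
        obtain ⟨j, hj, rfl⟩ := List.mem_map.1 hx'
        exact hcomm b (hl b List.mem_cons_self) j (hl j (List.mem_cons_of_mem b hj))
          (fun e => hnd.1 (e ▸ hj)) _ _
      simp only [Q, List.map_cons, List.prod_cons, map_mul] at e hc ⊢
      rw [e, mul_assoc (φ' b (em b g)) (φ' b (em b g')), ← mul_assoc (φ' b (em b g')), hc.eq]
      simp only [mul_assoc]
  let ψ : Matrix.SpecialLinearGroup (Fin 2) E →* GL D.Idx F :=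
    (D.group F).subtype.comp (MonoidHom.mk' (Q (O.J a)) (hQmul _ (orth_nodup hJ) fun _ h => h))
  have hmx : ∀ j t, em j (SL2.sx t) = SL2.sx (P.em j t) := fun j t => by
    ext u v; fin_cases u <;> fin_cases v <;> simp [em]
  have hmy : ∀ j t, em j (SL2.sy t) = SL2.sy (P.em j t) := fun j t => by
    ext u v; fin_cases u <;> fin_cases v <;> simp [em]
  have ex : ∀ t, ψ (SL2.sx t) = (xp O hK hπ hO ha P t : GL D.Idx F) := fun t => by
    rw [coe_xp]
    show (D.group F).subtype (Q (O.J a) (SL2.sx t)) = _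
    simp only [Q, map_list_prod, List.map_map, opr]
    exact congrArg List.prod (List.map_congr_left fun j hj => by
      rw [Function.comp_apply, hmx]; exact hx j hj _)
  have ey : ∀ t, ψ (SL2.sy t) = (xn O hK hπ hO ha P t : GL D.Idx F) := fun t => by
    rw [coe_xn]
    show (D.group F).subtype (Q (O.J a) (SL2.sy t)) = _
    simp only [Q, map_list_prod, List.map_map, opr]
    exact congrArg List.prod (List.map_congr_left fun j hj => by
      rw [Function.comp_apply, hmy]; exact hy j hj _)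
  have hmem : ∀ g, ψ g ∈ K := fun g =>
    sl2_induction (P := fun g => ψ g ∈ K)
      (fun t => by rw [ex]; exact (xp O hK hπ hO ha P t).2)
      (fun t => by rw [ey]; exact (xn O hK hπ hO ha P t).2)
      (fun b c hb hc => by rw [map_mul]; exact mul_mem hb hc) g
  exact ⟨ψ.codRestrict _ hmem, fun t => Subtype.ext (ex t), fun t => Subtype.ext (ey t)⟩

/-- Torus elements of an orbit are diagonal. -/
theorem xh_mem_H {t : E} (ht : t ≠ 0) :
    ∃ d : ℕ → Fˣ, (xh O hK hπ hO ha P t : GL D.Idx F) = tor D d := by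
  classical
  let c : ℕ → Fˣ := fun i => Units.mk0 (P.em i t) ((map_ne_zero _).2 ht)
  obtain ⟨d, -, e⟩ := onr_tor (hC := hC) (O.J a) (orth_nodup (hO a ha)) (O.J_lt a ha) c
  rw [hg_prod_eq (hO a ha) _ _ (orth_nodup (hO a ha)) fun _ h => h] at e
  refine ⟨d, ?_⟩
  rw [← e]
  simp only [xh, Subgroup.coe_mul, coe_xw, map_neg, map_one]
  rfl

variable {φ : Matrix.SpecialLinearGroup (Fin 2) E →* K} (hx : ∀ t, φ (SL2.sx t) = xp O hK hπ hO ha P t)
  (hy : ∀ t, φ (SL2.sy t) = xn O hK hπ hO ha P t)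
include hx hy

theorem phi_range : φ.range = Xs O hπ hO K false ha ⊔ Xs O hπ hO K true ha := by
  refine le_antisymm ?_ (sup_le (fun g hg => ?_) fun g hg => ?_)
  · rintro _ ⟨g, rfl⟩
    exact sl2_induction (P := fun g => φ g ∈ Xs O hπ hO K false ha ⊔ Xs O hπ hO K true ha)
      (fun t => hx t ▸ Subgroup.mem_sup_left ((mem_Xp_iff O hK hπ hO ha P).2 ⟨t, rfl⟩))
      (fun t => hy t ▸ Subgroup.mem_sup_right ((mem_Xn_iff O hK hπ hO ha P).2 ⟨t, rfl⟩))
      (fun b c hb hc => by rw [map_mul]; exact mul_mem hb hc) g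
  · obtain ⟨t, rfl⟩ := (mem_Xp_iff O hK hπ hO ha P).1 hg
    exact ⟨_, hx t⟩
  · obtain ⟨t, rfl⟩ := (mem_Xn_iff O hK hπ hO ha P).1 hg
    exact ⟨_, hy t⟩

/-- A diagonal image comes from a diagonal matrix. -/
theorem phi_diag {g : Matrix.SpecialLinearGroup (Fin 2) E}
    (hg : (φ g : GL D.Idx F) ∈ D.diagonalSubgroup F) :
    SL2.el g 1 0 = 0 ∧ SL2.el g 0 1 = 0 ∧ SL2.el g 0 0 ≠ 0 ∧
      φ g = xh O hK hπ hO ha P (SL2.el g 0 0) := by
  have hU : ∀ v, (xp O hK hπ hO ha P v : GL D.Idx F) ∈ D.posUnipotent F := fun v =>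
    Xp_le_U O hπ hO ha ((mem_Xp_iff O hK hπ hO ha P).2 ⟨v, rfl⟩)
  have hV : ∀ v, (xn O hK hπ hO ha P v : GL D.Idx F) ∈ D.negUnipotent F := fun v =>
    Xn_le_V O hπ hO ha ((mem_Xn_iff O hK hπ hO ha P).2 ⟨v, rfl⟩)
  have hc : SL2.el g 1 0 = 0 := by
    by_contra hc
    have h1 := hg
    rw [SL2.decomp hc, map_mul, map_mul, hx, hx, hy] at h1
    simp only [Subgroup.coe_mul] at h1
    have h2 : (xn O hK hπ hO ha P (SL2.el g 1 0) : GL D.Idx F) ∈
        D.borelSubgroup F ⊓ D.negUnipotent F := by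
      refine Subgroup.mem_inf.2 ⟨?_, hV _⟩
      have h3 := mul_mem (mul_mem (inv_mem (Subgroup.mem_sup_left (hU
          ((SL2.el g 0 0 - 1) / SL2.el g 1 0)))) (H_le_B h1))
        (inv_mem (Subgroup.mem_sup_left (hU ((SL2.el g 1 1 - 1) / SL2.el g 1 0))) :
          _ ∈ D.borelSubgroup F)
      show _ ∈ D.posUnipotent F ⊔ D.diagonalSubgroup F
      simpa [mul_assoc] using h3
    rw [B_inf_V hC, Subgroup.mem_bot] at h2
    refine hc (xn_injective O hK hπ hO ha P (Subtype.ext ?_))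
    rw [h2, coe_xn]
    conv_lhs => rw [← opr_zero (hC := hC) (rt := fun i => D.neg (D.simple i)) (O.J a)]
    exact opr_congr fun i _ => by simp
  have hdet := SL2.el_det g
  rw [hc, mul_zero, sub_zero] at hdet
  have ha0 : SL2.el g 0 0 ≠ 0 := left_ne_zero_of_mul (hdet ▸ one_ne_zero)
  obtain ⟨b, hb⟩ : ∃ b, b = SL2.el g 0 0 := ⟨_, rfl⟩
  obtain ⟨c, hcd⟩ : ∃ c, c = SL2.el g 0 1 := ⟨_, rfl⟩
  rw [← hb] at hdet ha0 ⊢
  have hd : SL2.el g 1 1 = b⁻¹ := eq_inv_of_mul_eq_one_right hdet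
  have e : g = SL2.sx (c * b) *
      (SL2.sx b * SL2.sy (-b⁻¹) * SL2.sx b * (SL2.sx (-1) * SL2.sy 1 * SL2.sx (-1))) := by
    ext i j
    fin_cases i <;> fin_cases j <;>
      simp [Matrix.mul_apply, Fin.sum_univ_two, SL2.el] at hb hcd hd hc ⊢ <;>
      simp [hc, hd, ← hb, ← hcd, ha0, mul_assoc]
  have hh : φ (SL2.sx b * SL2.sy (-b⁻¹) * SL2.sx b * (SL2.sx (-1) * SL2.sy 1 * SL2.sx (-1))) =
      xh O hK hπ hO ha P b := by
    simp only [map_mul, hx, hy, xh, xw, inv_neg, inv_one, neg_neg]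
  rw [e, map_mul, hx, hh] at hg ⊢
  obtain ⟨d, hd'⟩ := xh_mem_H O hK hπ hO ha P ha0
  have h4 : (xp O hK hπ hO ha P (c * b) : GL D.Idx F) ∈ D.posUnipotent F ⊓ D.diagonalSubgroup F := by
    refine Subgroup.mem_inf.2 ⟨hU _, ?_⟩
    rw [Subgroup.coe_mul, hd'] at hg
    simpa using mul_mem hg (inv_mem (tor_mem_H (F := F) hC d))
  rw [U_inf_H hC, Subgroup.mem_bot] at h4
  have hx0 : xp O hK hπ hO ha P (c * b) = 1 := Subtype.ext h4
  have hcb : c * b = 0 := by
    refine xp_injective O hK hπ hO ha P (hx0.trans (Subtype.ext ?_))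
    rw [coe_xp, OneMemClass.coe_one, ← opr_zero (hC := hC) (rt := D.simple) (O.J a)]
    exact opr_congr fun i _ => by simp
  rw [← e, hc]
  refine ⟨rfl, by rw [← hcd]; exact (mul_eq_zero.1 hcb).resolve_right ha0, ha0, ?_⟩
  rw [hx0, one_mul]

/-- The map is injective when only one torus element of the orbit is trivial. -/
theorem phi_injective (hinj : ∀ t : E, t ≠ 0 → xh O hK hπ hO ha P t = 1 → t = 1) :
    Function.Injective φ := by
  rw [injective_iff_map_eq_one]
  intro g hg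
  obtain ⟨h10, h01, h00, e⟩ := phi_diag O hK hπ hO ha P hx hy (g := g) (by
    rw [hg]; exact one_mem _)
  have h1 : SL2.el g 0 0 = 1 := hinj _ h00 (e ▸ hg)
  have hdet := SL2.el_det g
  rw [h1, h10, one_mul, mul_zero, sub_zero] at hdet
  simp only [SL2.el] at h1 h01 h10 hdet
  ext i j
  fin_cases i <;> fin_cases j <;> simp [h1, h01, h10, hdet]

/-- The rank one torus is small. -/
theorem card_tor_le [Fintype E] {T₀ : Subgroup K}
    (hT₀ : ∀ g ∈ T₀, (g : GL D.Idx F) ∈ D.diagonalSubgroup F) :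
    Nat.card (T₀ ⊓ (Xs O hπ hO K false ha ⊔ Xs O hπ hO K true ha) : Subgroup K) ≤ Fintype.card E - 1 := by
  rw [← phi_range O hK hπ hO ha P hx hy]
  have key : ∀ x : (T₀ ⊓ φ.range : Subgroup K), ∃ t : Eˣ, (x : K) = xh O hK hπ hO ha P (t : E) := by
    intro x
    obtain ⟨h1, g, hg⟩ := Subgroup.mem_inf.1 x.2
    obtain ⟨-, -, h00, e⟩ := phi_diag O hK hπ hO ha P hx hy (g := g) (by rw [hg]; exact hT₀ _ h1)
    exact ⟨Units.mk0 _ h00, hg.symm.trans e⟩
  choose f hf using key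
  calc Nat.card (T₀ ⊓ φ.range : Subgroup K) ≤ Nat.card Eˣ := Nat.card_le_card_of_injective f fun x y h =>
        Subtype.ext (by rw [hf x, hf y, h])
    _ = _ := by rw [Nat.card_units, Nat.card_eq_fintype_card]

/-- A rank one subgroup lifts. -/
theorem good {H : Type*} [Group H] [Finite H] {p : ℕ} {σ : H →* K} (h : Ctx p σ) [Fintype E] [CharP E p]
    (hU : IsPGroup p (UK D K))
    (hinj : ∀ t : E, t ≠ 0 → xh O hK hπ hO ha P t = 1 → t = 1) :
    Good p σ (Xs O hπ hO K false ha ⊔ Xs O hπ hO K true ha) := by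
  refine good_sl2 h φ (phi_injective O hK hπ hO ha P hx hy hinj) (phi_range O hK hπ hO ha P hx hy) ?_
  refine sup_gen (pgroup_gen (hU.to_le (Xp_le_U O hπ hO _))) (pgroup_gen ?_)
  rw [← map_nL_Xp O hK hπ hO ha]
  exact (hU.to_le (Xp_le_U O hπ hO _)).map _

end Cfsg.Agent.TwistMult.Orth
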