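import Cfsg.Agent.Lib.TwistMult.LiftBN
import Cfsg.Agent.Lib.TwistMult.ReSign
import Cfsg.Agent.Lib.Chevalley.Twist.AutParam
import Cfsg.Agent.Lib.Chevalley.Twist.Coxeter

/-!
The root data of a fixed group with orthogonal orbits.
-/

set_option autoImplicit false
set_option linter.unusedSectionVars false

open scoped Matrix

namespace Cfsg.Agent.TwistMult.Orth

open Cfsg.Lie Cfsg.Agent.Chevalley Cfsg.Agent.Chevalley.Table Cfsg.Agent.Chevalley.Cert
  Cfsg.Agent.Chevalley.Group Cfsg.Agent.Chevalley.Weight Cfsg.Agent.Chevalley.Unip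
  Cfsg.Agent.Chevalley.Borel Cfsg.Agent.Chevalley.Weyl Cfsg.Agent.Chevalley.Bruhat
  Cfsg.Agent.Chevalley.NormalForm Cfsg.Agent.Chevalley.WeylEnum Cfsg.Agent.Chevalley.AutThm
  Cfsg.Agent.Chevalley.Twist Cfsg.Agent.Chevalley.WeylGroup

variable {D : ChevalleyDatum} {F : Type*} [Field F] {T : Tab} {hC : Certified D T} {S : Tw hC F}
  (O : Orbits S) {K : Subgroup (GL D.Idx F)} (hK : GenData O K) {π : ℕ → ℕ} (hπ : S.π = π)
  (hO : ∀ a < O.k, Orth hC π (O.J a))

/-- The standard representative of an orbit involution. -/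
def nK {a : ℕ} (ha : a < O.k) : K := ⟨nL hC F (O.J a), nL_mem_K O hK hπ hO ha⟩

/-- The fundamental roots or their negatives. -/
abbrev rtOf (D : ChevalleyDatum) (neg : Bool) : ℕ → ℕ :=
  fun i => if neg then D.neg (D.simple i) else D.simple i

theorem rtOf_signed (neg : Bool) : Signed D (rtOf D neg) := by
  cases neg <;> first | exact Or.inl rfl | exact Or.inr rfl

include hK hπ hO

/-- An element of the group built from the roots of an orbit lies in its root subgroup. -/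
theorem mem_Xs_of_closure {a : ℕ} (ha : a < O.k) (neg : Bool) {z : K}
    (h : (z : GL D.Idx F) ∈
      Subgroup.closure {x | ∃ i ∈ O.J a, ∃ t : F, x = xg hC (rtOf D neg i) t}) :
    z ∈ Xs O hπ hO K neg ha := by
  classical
  have hJ := hO a ha
  have hrt := rtOf_signed (D := D) neg
  obtain ⟨f, hf⟩ : ∃ f : ℕ → F, (z : GL D.Idx F) = opr hC (rtOf D neg) (O.J a) f := by
    obtain ⟨w, hw⟩ : ∃ w, w = (z : GL D.Idx F) := ⟨_, rfl⟩
    rw [← hw] at h ⊢
    clear hw
    induction h using Subgroup.closure_induction with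
    | mem x hx =>
      obtain ⟨i, hi, t, rfl⟩ := hx
      refine ⟨fun j => if j = i then t else 0, ?_⟩
      have : ∀ l : List ℕ, l.Nodup → opr hC (rtOf D neg) l (fun j => if j = i then t else 0) =
          if i ∈ l then xg hC (rtOf D neg i) t else 1 := by
        intro l
        induction l with
        | nil => intro _; simp [opr]
        | cons b l ihl =>
          intro hnd
          rw [List.nodup_cons] at hnd
          have := ihl hnd.2
          simp only [opr, List.map_cons, List.prod_cons] at this ⊢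
          rw [this]
          by_cases hb : b = i
          · subst hb
            simp [hnd.1]
          · simp [hb, Ne.symm hb, xg_zero hC]
      rw [this (O.J a) (orth_nodup hJ), if_pos hi]
    | one => exact ⟨0, (opr_zero (O.J a)).symm⟩
    | mul x y _ _ hx hy =>
      obtain ⟨f, rfl⟩ := hx
      obtain ⟨g, rfl⟩ := hy
      exact ⟨f + g, (opr_add hJ hrt (O.J a) (orth_nodup hJ) (fun _ h => h) f g).symm⟩
    | inv x _ hx =>
      obtain ⟨f, rfl⟩ := hx
      exact ⟨-f, opr_inv hJ hrt f⟩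
  refine ⟨f, ?_, hf⟩
  have hinj : ∀ x ∈ O.J a, ∀ y ∈ O.J a, S.π x = S.π y → x = y := fun x hx y hy e => by
    refine hC.simple_inj (hJ.lt x hx) (hJ.lt y hy) (ρ_inj S (hC.simple_lt (hJ.lt x hx))
      (hC.simple_lt (hJ.lt y hy)) ?_)
    rw [S.ρ_simple x (hJ.lt x hx), S.ρ_simple y (hJ.lt y hy), e]
  let g : ℕ → F := fun j => (((O.J a).filter fun i => Nat.beq (S.π i) j).map fun i => S.hom i (f i)).sum
  have hg : ∀ i ∈ O.J a, g (S.π i) = S.hom i (f i) := by
    intro j hj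
    have : ((O.J a).filter fun k => Nat.beq (S.π k) (S.π j)) = [j] := by
      refine List.perm_singleton.1 ((List.perm_ext_iff_of_nodup ((orth_nodup hJ).filter _)
        (List.nodup_singleton j)).2 fun x => ?_)
      simp only [List.mem_filter, List.mem_singleton]
      exact ⟨fun hx => hinj x hx.1 j hj (Nat.eq_of_beq_eq_true hx.2),
        fun hx => by subst hx; exact ⟨hj, Nat.beq_refl _⟩⟩
    simp [g, this]
  have h := (img_opr hJ hπ hrt f g hg).unique (hf ▸ hK.le z.2)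
  intro i hi
  rw [← hg i hi]
  cases neg
  · exact (opr_unique hJ h _ (hπ ▸ hJ.stable i hi)).symm
  · exact (opr_unique_neg hJ h _ (hπ ▸ hJ.stable i hi)).symm

/-- Monomial elements carrying the roots of one orbit to those of another carry the root subgroups. -/
theorem conj_Xs {a b : ℕ} (ha : a < O.k) (hb : b < O.k) (neg neg' : Bool) {n : K} {c : ℕ → Fˣ}
    {L : List ℕ} (hL : ∀ i ∈ L, i < D.rank) (hn : (n : GL D.Idx F) = tor D c * nL hC F L)
    (hw : ∀ i ∈ O.J a, ∃ j ∈ O.J b, wL D L (rtOf D neg i) = rtOf D neg' j) {x : K}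
    (hx : x ∈ Xs O hπ hO K neg ha) : n * x * n⁻¹ ∈ Xs O hπ hO K neg' hb := by
  refine mem_Xs_of_closure O hK hπ hO hb neg' ?_
  obtain ⟨f, -, e⟩ := hx
  rw [Subgroup.coe_mul, Subgroup.coe_mul, Subgroup.coe_inv, hn, e]
  show MulAut.conj (tor D c * nL hC F L) (opr hC (rtOf D neg) (O.J a) f) ∈ _
  rw [opr, map_list_prod]
  refine list_prod_mem fun y hy => ?_
  simp only [List.mem_map] at hy
  obtain ⟨_, ⟨i, hi, rfl⟩, rfl⟩ := hy
  have hr : rtOf D neg i < D.nroots := by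
    cases neg
    · exact hC.simple_lt (O.J_lt a ha i hi)
    · exact hC.neg_lt (hC.simple_lt (O.J_lt a ha i hi))
  obtain ⟨η, -, hη⟩ := NormalForm.conj_xg (F := F) hC hL c hr
  obtain ⟨j, hj, e'⟩ := hw i hi
  rw [MulAut.conj_apply, hη, e']
  exact Subgroup.subset_closure ⟨j, hj, _, rfl⟩

/-- The torus keeps the root subgroups. -/
theorem tor_Xs {a : ℕ} (ha : a < O.k) (neg : Bool) {t : K}
    (ht : (t : GL D.Idx F) ∈ D.diagonalSubgroup F) {x : K} (hx : x ∈ Xs O hπ hO K neg ha) :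
    t * x * t⁻¹ ∈ Xs O hπ hO K neg ha := by
  obtain ⟨c, hc⟩ := (mem_H_iff hC).1 ht
  exact conj_Xs O hK hπ hO ha ha neg neg (L := []) (c := c) (fun i hi => absurd hi (List.not_mem_nil))
    (by rw [hc]; simp [nL]) (fun i hi => ⟨i, hi, rfl⟩) hx

omit hK in
/-- Fixed functions on an orbit vanish everywhere or nowhere. -/
theorem fixF_ne_zero {a : ℕ} (ha : a < O.k) {f : ℕ → F} (hf : FixF S (O.J a) f) {i : ℕ}
    (hi : i ∈ O.J a) (h0 : f i ≠ 0) : ∀ j ∈ O.J a, f j ≠ 0 := by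
  intro j hj
  obtain ⟨n, rfl⟩ := O.trans a ha i hi j hj
  clear hj
  have key : ∀ n, S.π^[n] i ∈ O.J a ∧ f (S.π^[n] i) ≠ 0 := by
    intro n
    induction n with
    | zero => exact ⟨hi, h0⟩
    | succ n ih =>
      rw [Function.iterate_succ', Function.comp_apply]
      refine ⟨?_, by rw [hf _ ih.1]; exact (map_ne_zero _).2 ih.2⟩
      have h1 := (hO a ha).stable _ ih.1
      rw [← congrFun hπ] at h1
      exact h1
  exact (key n).2

/-- The standard representative lies in the rank one group. -/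
theorem nK_mem {a : ℕ} (ha : a < O.k) :
    nK O hK hπ hO ha ∈ Xs O hπ hO K false ha ⊔ Xs O hπ hO K true ha := by
  have e : nK O hK hπ hO ha =
      ⟨_, opr_mem_K O hK hπ hO (Or.inl rfl) ha (FixF.one _)⟩ *
      ⟨_, opr_mem_K O hK hπ hO (Or.inr rfl) ha (FixF.one (S := S) (O.J a)).neg_inv⟩ *
      ⟨_, opr_mem_K O hK hπ hO (Or.inl rfl) ha (FixF.one _)⟩ := Subtype.ext (by
    show nL hC F (O.J a) = _ * _ * _
    rw [← onr_one (hC := hC), onr_eq (hO a ha) _ _ (orth_nodup (hO a ha)) fun _ h => h])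
  have h1 : (⟨_, opr_mem_K O hK hπ hO (Or.inl rfl) ha (FixF.one (S := S) (O.J a))⟩ : K) ∈
      Xs O hπ hO K false ha ⊔ Xs O hπ hO K true ha :=
    Subgroup.mem_sup_left ⟨_, FixF.one _, rfl⟩
  rw [e]
  exact mul_mem (mul_mem h1 (Subgroup.mem_sup_right ⟨_, (FixF.one _).neg_inv, rfl⟩)) h1

/-- The rank one relation. -/
theorem nK_rank1 {a : ℕ} (ha : a < O.k) {x : K} (hx : x ∈ Xs O hπ hO K false ha) (hx1 : x ≠ 1) :
    ∃ x' ∈ Xs O hπ hO K false ha, ∃ t : K, (t : GL D.Idx F) ∈ D.diagonalSubgroup F ∧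
      t ∈ Xs O hπ hO K false ha ⊔ Xs O hπ hO K true ha ∧ ∃ x'' ∈ Xs O hπ hO K false ha,
      nK O hK hπ hO ha * x * (nK O hK hπ hO ha)⁻¹ = x' * t * nK O hK hπ hO ha * x'' := by
  classical
  obtain ⟨f, hf, e⟩ := hx
  replace e : (x : GL D.Idx F) = opr hC D.simple (O.J a) f := e
  have hJ := hO a ha
  have hne : ∀ j ∈ O.J a, f j ≠ 0 := by
    obtain ⟨i, hi, h0⟩ : ∃ i ∈ O.J a, f i ≠ 0 := by
      by_contra hcon
      simp only [not_exists, not_and, not_not] at hcon
      refine hx1 (Subtype.ext ?_)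
      rw [e, OneMemClass.coe_one, ← opr_zero (hC := hC) (rt := D.simple) (O.J a)]
      exact opr_congr fun i hi => hcon i hi
    exact fixF_ne_zero O hπ hO ha hf hi h0
  let α : ℕ → F := fun i => (f i)⁻¹
  have hα : FixF S (O.J a) α := fun i hi => by simp only [α, hf i hi, map_inv₀]
  let c : ℕ → Fˣ := fun i => if h : f i = 0 then 1 else Units.mk0 _ (inv_ne_zero h)
  obtain ⟨d, -, ed⟩ := onr_tor (hC := hC) (O.J a) (orth_nodup hJ) (O.J_lt a ha) c
  rw [hg_prod_eq hJ _ _ (orth_nodup hJ) fun _ h => h] at ed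
  obtain ⟨d', hd', ed'⟩ := onr_tor (hC := hC) (O.J a) (orth_nodup hJ) (O.J_lt a ha) (1 : ℕ → Fˣ)
  rw [hg_prod_eq hJ _ _ (orth_nodup hJ) fun _ h => h] at ed'
  have hd1 : d' = 1 := funext fun i => by rw [hd' i]; simp
  rw [hd1, tor_one] at ed'
  simp only [Pi.one_apply, Units.val_one] at ed'
  have econg : onr hC (O.J a) (fun i => (c i : F)) = onr hC (O.J a) α := by
    rw [onr, onr]
    exact congrArg List.prod (List.map_congr_left fun i hi => by simp [c, α, hne i hi])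
  rw [econg, eq_inv_of_mul_eq_one_right ed', onr_one] at ed
  obtain ⟨t, ht⟩ : ∃ t : K, (t : GL D.Idx F) = onr hC (O.J a) α * (nL hC F (O.J a))⁻¹ :=
    ⟨⟨_, onr_mem_K O hK hπ hO ha hα⟩ * (nK O hK hπ hO ha)⁻¹, rfl⟩
  let xa : K := ⟨_, opr_mem_K O hK hπ hO (Or.inl rfl) ha hα.neg⟩
  have hxa : xa ∈ Xs O hπ hO K false ha := ⟨_, hα.neg, rfl⟩
  refine ⟨xa, hxa, t, ?_, ?_, xa, hxa, Subtype.ext ?_⟩
  · rw [ht, ed]; exact tor_mem_H hC _
  · have e2 : t = ⟨_, opr_mem_K O hK hπ hO (Or.inl rfl) ha hα⟩ *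
        ⟨_, opr_mem_K O hK hπ hO (Or.inr rfl) ha hα.neg_inv⟩ *
        ⟨_, opr_mem_K O hK hπ hO (Or.inl rfl) ha hα⟩ * (nK O hK hπ hO ha)⁻¹ := Subtype.ext (by
      rw [ht, onr_eq hJ _ _ (orth_nodup hJ) fun _ h => h]; rfl)
    have h1 : (⟨_, opr_mem_K O hK hπ hO (Or.inl rfl) ha hα⟩ : K) ∈
        Xs O hπ hO K false ha ⊔ Xs O hπ hO K true ha :=
      Subgroup.mem_sup_left ⟨_, hα, rfl⟩
    rw [e2]
    exact mul_mem (mul_mem (mul_mem h1 (Subgroup.mem_sup_right ⟨_, hα.neg_inv, rfl⟩)) h1)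
      (inv_mem (nK_mem O hK hπ hO ha))
  · simp only [Subgroup.coe_mul, Subgroup.coe_inv, ht, e, nK]
    have key : nL hC F (O.J a) * opr hC D.simple (O.J a) f * (nL hC F (O.J a))⁻¹ =
        opr hC (fun i => D.neg (D.simple i)) (O.J a) (-f) := by
      rw [← onr_one (hC := hC), onr_mul_opr hJ _ f (fun _ _ => one_ne_zero) _
        (orth_nodup hJ) fun _ h => h, mul_inv_cancel_right]
      congr 1
      funext i
      simp
    show nL hC F (O.J a) * opr hC D.simple (O.J a) f * (nL hC F (O.J a))⁻¹ =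
      (xa : GL D.Idx F) * (onr hC (O.J a) α * (nL hC F (O.J a))⁻¹) * nL hC F (O.J a) * (xa : GL D.Idx F)
    rw [key, inv_mul_cancel_right_aux, onr_eq hJ _ _ (orth_nodup hJ) fun _ h => h,
      show ((xa : K) : GL D.Idx F) = (opr hC D.simple (O.J a) α)⁻¹ from (opr_inv hJ (Or.inl rfl) α).symm,
      show opr hC (fun i => D.neg (D.simple i)) (O.J a) (fun i => -(α i)⁻¹) =
        opr hC (fun i => D.neg (D.simple i)) (O.J a) (-f) from opr_congr fun i _ => by simp [α]]
    group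
where inv_mul_cancel_right_aux {G : Type _} [Group G] {x a n : G} : x * (a * n⁻¹) * n = x * a := by group

/-- The pair with the standard representatives. -/
noncomputable def pair : Cfsg.BNPair K :=
  reSign (bnO O hK hπ hO) (fun s => nK O hK hπ hO s.2.choose_spec.1) fun s => by
    have ha := s.2.choose_spec.1
    have hs : ((s : K) : GL D.Idx F) = mel hK s.2.choose := s.2.choose_spec.2
    obtain ⟨c, hc⟩ := mel_eq hK ha
    have hmem : nL hC F (O.J s.2.choose) * (mel hK s.2.choose)⁻¹ ∈ D.diagonalSubgroup F := by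
      rw [hc, mul_inv_rev, mul_inv_cancel_left]
      exact inv_mem (tor_mem_H hC _)
    have e : ((nK O hK hπ hO ha * (s : K)⁻¹ : K) : GL D.Idx F) =
        nL hC F (O.J s.2.choose) * (mel hK s.2.choose)⁻¹ := by
      rw [Subgroup.coe_mul, Subgroup.coe_inv]
      exact congrArg (fun x : GL D.Idx F => nL hC F (O.J s.2.choose) * x⁻¹) hs
    refine Subgroup.mem_inf.2 ⟨(mem_bnB O hK hπ hO).2 (e ▸ H_le_B hmem), ⟨?_, (nK O hK hπ hO ha * (s : K)⁻¹ : K).2⟩⟩
    show ((nK O hK hπ hO ha * (s : K)⁻¹ : K) : GL D.Idx F) ∈ D.monomialSubgroup F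
    rw [e]
    exact Subgroup.mem_sup_left hmem

theorem exists_idx (s : (pair O hK hπ hO).S) : ∃ a, ∃ ha : a < O.k, (s : K) = nK O hK hπ hO ha := by
  obtain ⟨t, e⟩ := s.2
  exact ⟨_, t.2.choose_spec.1, e.symm⟩

/-- The orbit of a representative. -/
noncomputable def idx (s : (pair O hK hπ hO).S) : ℕ := (exists_idx O hK hπ hO s).choose

theorem idx_lt (s : (pair O hK hπ hO).S) : idx O hK hπ hO s < O.k :=
  (exists_idx O hK hπ hO s).choose_spec.choose

theorem idx_eq (s : (pair O hK hπ hO).S) :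
    (s : K) = nK O hK hπ hO (idx_lt O hK hπ hO s) :=
  (exists_idx O hK hπ hO s).choose_spec.choose_spec

theorem idx_bij : Function.Bijective
    (fun s => (⟨idx O hK hπ hO s, idx_lt O hK hπ hO s⟩ : Fin O.k)) := by
  refine ⟨fun s t h => Subtype.ext ?_, fun ⟨a, ha⟩ => ?_⟩
  · have h' : idx O hK hπ hO s = idx O hK hπ hO t := congrArg Fin.val h
    rw [idx_eq O hK hπ hO s, idx_eq O hK hπ hO t]
    refine Subtype.ext ?_
    show nL hC F (O.J _) = nL hC F (O.J _)
    rw [h']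
  · have hs : melK O hK a ∈ (bnO O hK hπ hO).S := melK_mem_S O hK hπ hO ha
    obtain ⟨s', hs'⟩ : ∃ s' : (bnO O hK hπ hO).S, (s' : K) = melK O hK a := ⟨⟨_, hs⟩, rfl⟩
    refine ⟨⟨_, s', rfl⟩, Fin.ext ?_⟩
    obtain ⟨b, hb, e⟩ := exists_idx O hK hπ hO ⟨_, s', rfl⟩
    have hab : s'.2.choose = a := by
      refine mel_inj hK s'.2.choose_spec.1 ha ?_
      rw [← s'.2.choose_spec.2, hs']
      show (mel hK a)⁻¹ * mel hK a ∈ _
      rw [inv_mul_cancel]
      exact one_mem _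
    have h1 := idx_eq O hK hπ hO ⟨_, s', rfl⟩
    have h2 : nL hC F (O.J s'.2.choose) = nL hC F (O.J (idx O hK hπ hO ⟨_, s', rfl⟩)) :=
      congrArg Subtype.val h1
    rw [hab] at h2
    show idx O hK hπ hO ⟨_, s', rfl⟩ = a
    refine (mel_inj hK (idx_lt O hK hπ hO _) ha ?_)
    obtain ⟨c, hc⟩ := mel_eq hK (idx_lt O hK hπ hO ⟨_, s', rfl⟩)
    obtain ⟨c', hc'⟩ := mel_eq hK ha
    rw [hc, hc', ← h2, mul_inv_rev, mul_assoc, ← mul_assoc (tor D c)⁻¹]
    obtain ⟨d, hd⟩ : ∃ d, d = (tor D c)⁻¹ * tor D c' := ⟨_, rfl⟩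
    rw [← hd]
    have h3 := H_conj hC (inv_mem (nL_mem_N hC (O.J_lt a ha) (F := F)))
      (show d ∈ D.diagonalSubgroup F from hd ▸ mul_mem (inv_mem (tor_mem_H hC _)) (tor_mem_H hC _))
    simpa [mul_assoc] using h3

/-- A fixed monomial element keeps or reverses the sign of an orbit root subgroup. -/
theorem root_dich {a : ℕ} (ha : a < O.k) {n : K} (hn : (n : GL D.Idx F) ∈ D.monomialSubgroup F) :
    (∀ x ∈ Xs O hπ hO K false ha, n * x * n⁻¹ ∈ UK D K) ∨
      ∀ y ∈ Xs O hπ hO K true ha, n * y * n⁻¹ ∈ UK D K := by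
  obtain ⟨c, L, hL, e⟩ := (mem_N_iff hC).1 hn
  have hE := equiv_of_fixed (S := S) hL (e ▸ hK.le n.2)
  obtain ⟨i₀, hi₀⟩ := List.exists_mem_of_ne_nil _ (O.ne a ha)
  have hne := hC.phi_ne_zero (wL_lt hC hL (hC.simple_lt (O.J_lt a ha i₀ hi₀)))
  have key : ∀ neg, (∀ j ∈ O.J a, 0 < T.phi (wL D L (rtOf D neg j))) →
      ∀ x ∈ Xs O hπ hO K neg ha, n * x * n⁻¹ ∈ UK D K := by
    rintro neg hpos x ⟨f, -, ex⟩
    rw [Subgroup.mem_subgroupOf, Subgroup.coe_mul, Subgroup.coe_mul, Subgroup.coe_inv, e, ex]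
    show MulAut.conj (tor D c * nL hC F L) (opr hC (rtOf D neg) (O.J a) f) ∈ _
    rw [opr, map_list_prod]
    refine list_prod_mem fun y hy => ?_
    simp only [List.mem_map] at hy
    obtain ⟨_, ⟨i, hi, rfl⟩, rfl⟩ := hy
    have hr : rtOf D neg i < D.nroots := by
      cases neg
      · exact hC.simple_lt (O.J_lt a ha i hi)
      · exact hC.neg_lt (hC.simple_lt (O.J_lt a ha i hi))
    obtain ⟨η, -, hη⟩ := NormalForm.conj_xg (F := F) hC hL c hr
    rw [MulAut.conj_apply, hη]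
    exact xg_mem_U hC (wL_lt hC hL hr) (hpos i hi) _
  rcases lt_or_gt_of_ne hne with h | h
  · refine Or.inr (key true fun j hj => ?_)
    have h1 := orbit_pos O hO hL hE ha hi₀ (-1) (by omega) j hj
    have hs := hC.simple_lt (O.J_lt a ha j hj)
    show 0 < T.phi (wL D L (D.neg (D.simple j)))
    rw [wL_neg hC hL hs, hC.phi_neg (wL_lt hC hL hs)]
    omega
  · refine Or.inl (key false fun j hj => ?_)
    have h1 := orbit_pos O hO hL hE ha hi₀ 1 (by omega) j hj
    show 0 < T.phi (wL D L (D.simple j))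
    omega

/-- The map of the Weyl group of the pair into the Weyl group. -/
theorem exists_weyl : ∃ Ψ : BN.Basic.W (pair O hK hπ hO) →* WG hC, Function.Injective Ψ ∧
    ∀ s, ∃ L : List (Fin D.rank), L.map Fin.val = O.J (idx O hK hπ hO s) ∧
      Ψ (BN.Basic.gen s) = wordG hC L := by
  classical
  obtain ⟨ψ, -, hψker, hψ⟩ := exists_hom_N (F := F) hC
  let ι : (pair O hK hπ hO).N →* D.monomialSubgroup F :=
    ((D.group F ⊔ ⊤).subtype.comp ((Subgroup.inclusion (le_top.trans le_sup_right : K ≤ _)).comp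
      (pair O hK hπ hO).N.subtype)).codRestrict _ fun n => n.2.1
  have hι : ∀ n, (ι n : GL D.Idx F) = ((n : K) : GL D.Idx F) := fun _ => rfl
  have hker : BN.Basic.T (pair O hK hπ hO) ≤ (ψ.comp ι).ker := by
    intro n hn
    rw [Subgroup.mem_subgroupOf] at hn
    rw [MonoidHom.mem_ker, MonoidHom.comp_apply, ← MonoidHom.mem_ker, hψker, Subgroup.mem_subgroupOf, hι]
    exact mem_H_of_inf hC ((mem_bnB O hK hπ hO).1 hn.1) hn.2.1
  refine ⟨QuotientGroup.lift _ (ψ.comp ι) hker, ?_, fun s => ?_⟩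
  · rw [injective_iff_map_eq_one]
    intro w
    induction w using QuotientGroup.induction_on with
    | H n =>
      intro h
      rw [QuotientGroup.lift_mk] at h
      rw [QuotientGroup.eq_one_iff, Subgroup.mem_subgroupOf]
      refine Subgroup.mem_inf.2 ⟨(mem_bnB O hK hπ hO).2 ?_, n.2⟩
      have h' : ι n ∈ ψ.ker := h
      rw [hψker, Subgroup.mem_subgroupOf, hι] at h'
      exact H_le_B h'
  · refine ⟨(O.J (idx O hK hπ hO s)).pmap (fun i h => (⟨i, h⟩ : Fin D.rank))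
      (O.J_lt _ (idx_lt O hK hπ hO s)), by simp [List.map_pmap], ?_⟩
    have key : ∀ (L : List (Fin D.rank)) (h : nL hC F (L.map Fin.val) ∈ D.monomialSubgroup F),
        ψ ⟨_, h⟩ = wordG hC L := by
      intro L
      induction L with
      | nil => intro h; exact (congrArg ψ (Subtype.ext rfl)).trans (map_one ψ)
      | cons i L ih =>
        intro h
        have h1 : ng hC (D.simple i) (1 : F) ∈ D.monomialSubgroup F := ng_mem_N hC i.2
        have h2 : nL hC F (L.map Fin.val) ∈ D.monomialSubgroup F := nL_mem_N hC (valid hC L)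
        rw [show (⟨_, h⟩ : D.monomialSubgroup F) = ⟨_, h1⟩ * ⟨_, h2⟩ from Subtype.ext (nL_cons hC _ _),
          map_mul, hψ i _ rfl, ih h2]
        simp [wordG]
    show ψ (ι ⟨(s : K), _⟩) = _
    rw [← key _ (nL_mem_N hC (valid hC _))]
    congr 1
    refine Subtype.ext ?_
    rw [hι]
    show (((s : K) : GL D.Idx F)) = _
    rw [idx_eq O hK hπ hO s]
    simp [nK, List.map_pmap]

omit hK hπ hO in
/-- The check giving a braid condition between two orbits. -/
def BraidChk (T : Tab) (J J' : List ℕ) : Prop :=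
  (∃ k, wordOrdChk T (J ++ J') (2 * (k + 1)) = true ∧
    ∀ i ∈ J', ∃ j ∈ J', applyW T ((List.replicate k (J ++ J')).flatten ++ J) (T.simple i) = T.simple j) ∨
  (wordOrdChk T (J ++ J') 3 = true ∧ ∀ i ∈ J, ∃ j ∈ J', applyW T (J ++ J') (T.simple i) = T.simple j)

theorem braidAt (s t : (pair O hK hπ hO).S)
    (h : BraidChk T (O.J (idx O hK hπ hO s)) (O.J (idx O hK hπ hO t))) :
    BraidAt (fun s => Xs O hπ hO K false (idx_lt O hK hπ hO s) ⊔
      Xs O hπ hO K true (idx_lt O hK hπ hO s)) s t := by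
  obtain ⟨Ψ, hΨi, hΨ⟩ := exists_weyl O hK hπ hO
  have hJs := O.J_lt _ (idx_lt O hK hπ hO s)
  have hJt := O.J_lt _ (idx_lt O hK hπ hO t)
  have hord : ∀ m, wordOrdChk T (O.J (idx O hK hπ hO s) ++ O.J (idx O hK hπ hO t)) m = true →
      orderOf (BN.Basic.gen s * BN.Basic.gen t) = m := fun m hm => by
    obtain ⟨L, hL, eL⟩ := hΨ s
    obtain ⟨L', hL', eL'⟩ := hΨ t
    rw [← orderOf_injective Ψ hΨi, map_mul, eL, eL',
      show wordG hC L * wordG hC L' = wordG hC (L ++ L') by simp [wordG]]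
    exact orderOf_word hC (by rwa [List.map_append, hL, hL'])
  have hst : (((s : K) * t : K) : GL D.Idx F) =
      nL hC F (O.J (idx O hK hπ hO s) ++ O.J (idx O hK hπ hO t)) := by
    rw [Subgroup.coe_mul, idx_eq O hK hπ hO s, idx_eq O hK hπ hO t, nL_append]; rfl
  have hboth : ∀ i ∈ O.J (idx O hK hπ hO s) ++ O.J (idx O hK hπ hO t), i < D.rank := fun i hi =>
    (List.mem_append.1 hi).elim (hJs i) (hJt i)
  have move : ∀ (n : K) (L : List ℕ) (a : ℕ) (ha : a < O.k), (∀ i ∈ L, i < D.rank) →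
      (n : GL D.Idx F) = nL hC F L →
      (∀ i ∈ O.J a, ∃ j ∈ O.J (idx O hK hπ hO t), applyW T L (T.simple i) = T.simple j) →
      ∀ x ∈ Xs O hπ hO K false ha ⊔ Xs O hπ hO K true ha, n * x * n⁻¹ ∈
        Xs O hπ hO K false (idx_lt O hK hπ hO t) ⊔ Xs O hπ hO K true (idx_lt O hK hπ hO t) := by
    intro n L a ha hL en hw
    have hw1 : ∀ i ∈ O.J a, ∃ j ∈ O.J (idx O hK hπ hO t),
        wL D L (rtOf D false i) = rtOf D false j := fun i hi => by
      obtain ⟨j, hj, e⟩ := hw i hi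
      refine ⟨j, hj, ?_⟩
      show wL D L (D.simple i) = D.simple j
      rw [← hC.simple_eq (O.J_lt a ha i hi), ← hC.simple_eq (hJt j hj), ← e]
      exact (StConj.actT_foldr hC hL (by rw [hC.simple_eq (O.J_lt a ha i hi)]; exact hC.simple_lt (O.J_lt a ha i hi))).symm
    have hw2 : ∀ i ∈ O.J a, ∃ j ∈ O.J (idx O hK hπ hO t),
        wL D L (rtOf D true i) = rtOf D true j := fun i hi => by
      obtain ⟨j, hj, e⟩ := hw1 i hi
      refine ⟨j, hj, ?_⟩
      show wL D L (D.neg (D.simple i)) = D.neg (D.simple j)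
      rw [wL_neg hC hL (hC.simple_lt (O.J_lt a ha i hi))]
      exact congrArg D.neg e
    have en' : (n : GL D.Idx F) = tor D 1 * nL hC F L := by rw [en, tor_one, one_mul]
    have hle : Xs O hπ hO K false ha ⊔ Xs O hπ hO K true ha ≤
        (Xs O hπ hO K false (idx_lt O hK hπ hO t) ⊔ Xs O hπ hO K true (idx_lt O hK hπ hO t)).comap
          (MulAut.conj n).toMonoidHom :=
      sup_le (fun x hx => Subgroup.mem_sup_left (conj_Xs O hK hπ hO ha _ false false hL en' hw1 hx))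
        fun x hx => Subgroup.mem_sup_right (conj_Xs O hK hπ hO ha _ true true hL en' hw2 hx)
    exact fun x hx => hle hx
  rcases h with ⟨k, h1, h2⟩ | ⟨h1, h2⟩
  · refine Or.inl ⟨k, hord _ h1, fun x hx => move _ _ _ _ ?_ ?_ h2 x hx⟩
    · intro i hi
      rcases List.mem_append.1 hi with hi | hi
      · obtain ⟨l, hl, hil⟩ := List.mem_flatten.1 hi
        rw [List.eq_of_mem_replicate hl] at hil
        exact hboth i hil
      · exact hJs i hi
    · have hp : ∀ k, ((((s : K) * t) ^ k : K) : GL D.Idx F) =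
          nL hC F (List.replicate k (O.J (idx O hK hπ hO s) ++ O.J (idx O hK hπ hO t))).flatten := by
        intro k
        induction k with
        | zero => simp [nL]
        | succ k ih =>
          rw [pow_succ', Subgroup.coe_mul, ih, hst, List.replicate_succ, List.flatten_cons]
          simp only [nL_append]
      rw [Subgroup.coe_mul, hp, idx_eq O hK hπ hO s, nL_append]
      rfl
  · exact Or.inr ⟨hord 3 h1, fun x hx => move _ _ _ _ hboth hst h2 x hx⟩

/-- The root data. -/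
noncomputable def root (p : ℕ) (hU : IsPGroup p (UK D K))
    (htor : (pair O hK hπ hO).B ⊓ (pair O hK hπ hO).N ≤ ⨆ s : (pair O hK hπ hO).S,
      ((pair O hK hπ hO).B ⊓ (pair O hK hπ hO).N) ⊓
        (Xs O hπ hO K false (idx_lt O hK hπ hO s) ⊔ Xs O hπ hO K true (idx_lt O hK hπ hO s)))
    (hbr : ∀ a < O.k, ∀ b < O.k, a ≠ b → BraidChk T (O.J a) (O.J b)) :
    Root p (pair O hK hπ hO) where
  U := UK D K
  T := (pair O hK hπ hO).B ⊓ (pair O hK hπ hO).N
  X s := Xs O hπ hO K false (idx_lt O hK hπ hO s)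
  Y s := Xs O hπ hO K true (idx_lt O hK hπ hO s)
  pU := hU
  U_le g hg := (mem_bnB O hK hπ hO).2 (Subgroup.mem_sup_left hg)
  hB b hb := by
    obtain ⟨v, hv, hvF, n, hn, hnF, u, hu, huF, e⟩ := fixed_form S (hK.le b.2)
    have hnB : n ∈ D.borelSubgroup F := by
      rw [show n = v⁻¹ * (b : GL D.Idx F) * u⁻¹ by rw [e]; group]
      exact mul_mem (mul_mem (inv_mem (Subgroup.mem_sup_left hv)) ((mem_bnB O hK hπ hO).1 hb))
        (inv_mem (Subgroup.mem_sup_left (Uminus_le_U hC _ hu)))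
    have hnH : n ∈ D.diagonalSubgroup F := mem_H_of_inf hC hnB hn
    obtain ⟨nk, hnk⟩ : ∃ nk : K, (nk : GL D.Idx F) = n := ⟨⟨n, Fx_le O hK hnF⟩, rfl⟩
    obtain ⟨w, hw⟩ : ∃ w : K, w = b * nk⁻¹ := ⟨_, rfl⟩
    refine ⟨w, ?_, nk, Subgroup.mem_inf.2 ⟨(mem_bnB O hK hπ hO).2 (hnk ▸ H_le_B hnH),
      ⟨show (nk : GL D.Idx F) ∈ D.monomialSubgroup F by rw [hnk]; exact hn, nk.2⟩⟩, by rw [hw, inv_mul_cancel_right]⟩
    rw [Subgroup.mem_subgroupOf, hw, Subgroup.coe_mul, Subgroup.coe_inv, hnk, e,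
      show v * n * u * n⁻¹ = v * (n * u * n⁻¹) by group]
    exact mul_mem hv ((Subgroup.mem_normalizer_iff.1 (H_normalizes_U hC hnH) u).1 (Uminus_le_U hC _ hu))
  hT := rfl
  disj := by
    rw [eq_bot_iff]
    intro g hg
    obtain ⟨hgU, hgT⟩ := Subgroup.mem_inf.1 hg
    obtain ⟨hgB, hgN⟩ := Subgroup.mem_inf.1 hgT
    refine Subtype.ext ?_
    have : (g : GL D.Idx F) ∈ D.posUnipotent F ⊓ D.diagonalSubgroup F :=
      Subgroup.mem_inf.2 ⟨hgU, mem_H_of_inf hC ((mem_bnB O hK hπ hO).1 hgB) hgN.1⟩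
    rwa [U_inf_H hC, Subgroup.mem_bot] at this
  hTU t ht u hu := by
    have htH := mem_H_of_inf hC ((mem_bnB O hK hπ hO).1 (Subgroup.mem_inf.1 ht).1) (Subgroup.mem_inf.1 ht).2.1
    rw [Subgroup.mem_subgroupOf] at hu ⊢
    exact (Subgroup.mem_normalizer_iff.1 (H_normalizes_U hC htH) _).1 hu
  comm t ht t' ht' := by
    have h1 := mem_H_of_inf hC ((mem_bnB O hK hπ hO).1 (Subgroup.mem_inf.1 ht).1) (Subgroup.mem_inf.1 ht).2.1
    have h2 := mem_H_of_inf hC ((mem_bnB O hK hπ hO).1 (Subgroup.mem_inf.1 ht').1) (Subgroup.mem_inf.1 ht').2.1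
    obtain ⟨c, hc⟩ := (mem_H_iff hC).1 h1
    obtain ⟨c', hc'⟩ := (mem_H_iff hC).1 h2
    refine Subtype.ext ?_
    simp only [Subgroup.coe_mul, hc, hc', tor_mul, mul_comm c c']
  X_le s := Xp_le_U O hπ hO _
  hXY s x hx := by
    rw [← map_nL_Xp O hK hπ hO (idx_lt O hK hπ hO s)]
    exact ⟨x, hx, by rw [idx_eq O hK hπ hO s]; rfl⟩
  pY s := by
    rw [← map_nL_Xp O hK hπ hO (idx_lt O hK hπ hO s)]
    exact (hU.to_le (Xp_le_U O hπ hO _)).map _
  hTX s t ht x hx := tor_Xs O hK hπ hO _ false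
    (mem_H_of_inf hC ((mem_bnB O hK hπ hO).1 (Subgroup.mem_inf.1 ht).1) (Subgroup.mem_inf.1 ht).2.1) hx
  hTY s t ht x hx := tor_Xs O hK hπ hO _ true
    (mem_H_of_inf hC ((mem_bnB O hK hπ hO).1 (Subgroup.mem_inf.1 ht).1) (Subgroup.mem_inf.1 ht).2.1) hx
  split s u hu := by
    have ha := idx_lt O hK hπ hO s
    have hd : tor D 1 * nL hC F (O.J (idx O hK hπ hO s)) ∈ Fx S := by
      rw [tor_one, one_mul]; exact hK.le (nL_mem_K O hK hπ hO ha)
    obtain ⟨A, B, e, hAF, hBF, hAU, hA', hB⟩ := split_fixed O ha hd hu (hK.le u.2)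
    refine ⟨⟨A, Fx_le O hK hAF⟩, hAU, ⟨B, Fx_le O hK hBF⟩,
      mem_Xp_of_Uminus O hK hπ hO ha (c := 1) hB, ?_, Subtype.ext e⟩
    rw [idx_eq O hK hπ hO s, Subgroup.mem_subgroupOf]
    rw [tor_one, one_mul] at hA'
    exact hA'
  root n hn s := by
    rcases root_dich O hK hπ hO (idx_lt O hK hπ hO s) (n := n⁻¹)
      (by rw [Subgroup.coe_inv]; exact inv_mem hn.1) with h | h
    · exact Or.inl fun x hx => by simpa using h x hx
    · exact Or.inr fun x hx => by simpa using h x hx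
  rank1 s x hx hx1 := by
    obtain ⟨x', hx', t, htH, htL, x'', hx'', e⟩ := nK_rank1 O hK hπ hO _ hx hx1
    exact ⟨x', hx', t, Subgroup.mem_inf.2 ⟨Subgroup.mem_inf.2 ⟨(mem_bnB O hK hπ hO).2 (H_le_B htH),
      ⟨Subgroup.mem_sup_left htH, t.2⟩⟩, htL⟩, x'', hx'', by rw [idx_eq O hK hπ hO s]; exact e⟩
  memL s := by rw [idx_eq O hK hπ hO s]; exact nK_mem O hK hπ hO _
  torGen := htor
  braid s t hst := braidAt O hK hπ hO s t (hbr _ (idx_lt O hK hπ hO s) _ (idx_lt O hK hπ hO t) fun h =>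
    hst ((idx_bij O hK hπ hO).1 (Fin.ext h)))

end Cfsg.Agent.TwistMult.Orth
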