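import Cfsg.Agent.Lib.Chevalley.Cover.Lift
import Cfsg.Agent.SimpleFacts.SLTwoMultiplier

/-!
A central extension splits over a unipotent group made of a special radical and an abelian rank one part,
given the torus elements of the triality twisted groups.
-/

set_option autoImplicit false
set_option linter.unusedSectionVars false

namespace Cfsg.Agent.TwistMult

open scoped commutatorElement
open Cfsg.Agent.Chevalley.Cover

universe u v w w'

/-- Root subgroups of a special radical `Q` and of the rank one part acting on it. -/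
structure Rad (p : ℕ) (G : Type v) [Group G] (E₀ : Type w) [Field E₀] (K : Type w') [Field K] where
  xb : E₀ → G
  x3 : E₀ → G
  zz : E₀ → G
  aa : K → G
  bb : K → G
  u1 : K → G
  Q : Subgroup G
  h : G
  n : G
  xb_add : ∀ s t, xb (s + t) = xb s * xb t
  x3_add : ∀ s t, x3 (s + t) = x3 s * x3 t
  zz_add : ∀ s t, zz (s + t) = zz s * zz t
  aa_add : ∀ s t, aa (s + t) = aa s * aa t
  bb_add : ∀ s t, bb (s + t) = bb s * bb t
  u1_add : ∀ s t, u1 (s + t) = u1 s * u1 t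
  zz_inj : Function.Injective zz
  u1_inj : Function.Injective u1
  hQ : Q = Subgroup.closure
    (Set.range xb ∪ Set.range x3 ∪ Set.range zz ∪ Set.range aa ∪ Set.range bb)
  zb : ∀ s t, Commute (zz s) (xb t)
  z3 : ∀ s t, Commute (zz s) (x3 t)
  za : ∀ s t, Commute (zz s) (aa t)
  zB : ∀ s t, Commute (zz s) (bb t)
  zu : ∀ s t, Commute (zz s) (u1 t)
  ab : ∀ s t, Commute (aa s) (xb t)
  a3 : ∀ s t, Commute (aa s) (x3 t)
  aA : ∀ s t, Commute (aa s) (aa t)
  Bb : ∀ s t, Commute (bb s) (xb t)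
  B3 : ∀ s t, Commute (bb s) (x3 t)
  BB : ∀ s t, Commute (bb s) (bb t)
  u3 : ∀ s t, Commute (u1 s) (x3 t)
  br : ∃ ε : E₀, ε ≠ 0 ∧ ∀ t t', ⁅xb t, x3 t'⁆ = zz (ε * (t * t'))
  brAB : ∀ s t, ∃ c, ⁅aa s, bb t⁆ = zz c
  zgen : ∀ c, ∃ s t, ⁅aa s, bb t⁆ = zz c
  α : K
  β : K
  γ : K
  α1 : α ≠ 1
  β1 : β ≠ 1
  γ1 : γ ≠ 1
  hu : ∀ s, h * u1 s * h⁻¹ = u1 (α * s)
  ha : ∀ s, h * aa s * h⁻¹ = aa (β * s)
  hB : ∀ s, h * bb s * h⁻¹ = bb (γ * s)
  hb : ∀ t, Commute h (xb t)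
  h3 : ∀ t, Commute h (x3 t)
  hz : ∀ t, Commute h (zz t)
  hord : ∃ m, Nat.Coprime m p ∧ h ^ m = 1
  normU : ∀ s, ∀ x ∈ Q, u1 s * x * (u1 s)⁻¹ ∈ Q
  normH : ∀ x ∈ Q, h⁻¹ * x * h ∈ Q
  move : ∃ ε : E₀, ε ≠ 0 ∧ ∀ t, ∃ a b c,
    u1 1 * xb t * (u1 1)⁻¹ = xb t * aa a * bb b * x3 (ε * t) * zz c
  weyl : ∀ t, ∃ t', n * xb t * n⁻¹ = x3 t'
  tor : ∀ t : E₀, t ≠ 0 → ∃ (τ : G) (m : ℕ), Nat.Coprime m p ∧ τ ^ m = 1 ∧ (∀ c, Commute τ (zz c)) ∧
    τ * xb t * τ⁻¹ = xb 1 ∧ ∀ t', ∃ t'', τ * x3 t' * τ⁻¹ = x3 t''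
  sq : ∀ l : K, l ≠ 0 → ∃ g, ∀ s, g * u1 s * g⁻¹ = u1 (l * l * s)
  disj : ∀ s, u1 s ∈ Q → u1 s = 1
  gen : ∀ M : Subgroup G, (∀ t, xb t ∈ M) → (∀ c, zz c ∈ M) → (∀ s, ∀ x ∈ M, u1 s * x * (u1 s)⁻¹ ∈ M) →
    (∀ x ∈ M, h * x * h⁻¹ ∈ M) → Q ≤ M

/-- A torus element commuting with the rank one part and moving every root subgroup of the radical. -/
structure Scalar {p : ℕ} {G : Type v} [Group G] {E₀ : Type w} [Field E₀] {K : Type w'} [Field K]
    (R : Rad p G E₀ K) where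
  ζ : G
  l₁ : E₀
  l₃ : E₀
  μ : E₀
  la : K
  lb : K
  l₁1 : l₁ ≠ 1
  l₃1 : l₃ ≠ 1
  la1 : la ≠ 1
  lb1 : lb ≠ 1
  sb : ∀ t, ζ * R.xb t * ζ⁻¹ = R.xb (l₁ * t)
  s3 : ∀ t, ζ * R.x3 t * ζ⁻¹ = R.x3 (l₃ * t)
  sz : ∀ t, ζ * R.zz t * ζ⁻¹ = R.zz (μ * t)
  sa : ∀ s, ζ * R.aa s * ζ⁻¹ = R.aa (la * s)
  sB : ∀ s, ζ * R.bb s * ζ⁻¹ = R.bb (lb * s)
  su : ∀ s, Commute ζ (R.u1 s)

namespace Rad

variable {p : ℕ} {G : Type v} [Group G] {E₀ : Type w} [Field E₀] {K : Type w'} [Field K] (R : Rad p G E₀ K)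

theorem map_zero' {A : Type*} [AddGroup A] {f : A → G} (hf : ∀ s t, f (s + t) = f s * f t) : f 0 = 1 := by
  have := hf 0 0
  rwa [add_zero, left_eq_mul] at this

theorem map_neg' {A : Type*} [AddGroup A] {f : A → G} (hf : ∀ s t, f (s + t) = f s * f t) (s : A) :
    f (-s) = (f s)⁻¹ :=
  eq_inv_of_mul_eq_one_left (by rw [← hf, neg_add_cancel, map_zero' hf])

theorem mem_gens {x : G}
    (hx : x ∈ Set.range R.xb ∪ Set.range R.x3 ∪ Set.range R.zz ∪ Set.range R.aa ∪ Set.range R.bb) :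
    x ∈ R.Q := R.hQ ▸ Subgroup.subset_closure hx

theorem xb_mem (t : E₀) : R.xb t ∈ R.Q := R.mem_gens (by simp)
theorem x3_mem (t : E₀) : R.x3 t ∈ R.Q := R.mem_gens (by simp)
theorem zz_mem (t : E₀) : R.zz t ∈ R.Q := R.mem_gens (by simp)
theorem aa_mem (t : K) : R.aa t ∈ R.Q := R.mem_gens (by simp)
theorem bb_mem (t : K) : R.bb t ∈ R.Q := R.mem_gens (by simp)

theorem induction_Q {P : G → Prop} (hb : ∀ t, P (R.xb t)) (h3 : ∀ t, P (R.x3 t)) (hz : ∀ t, P (R.zz t))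
    (ha : ∀ t, P (R.aa t)) (hB : ∀ t, P (R.bb t)) (h1 : P 1)
    (hm : ∀ x y, x ∈ R.Q → y ∈ R.Q → P x → P y → P (x * y)) {x : G} (hx : x ∈ R.Q) : P x := by
  have hx' := hx
  rw [R.hQ] at hx'
  induction hx' using Subgroup.closure_induction'' with
  | one => exact h1
  | mem y hy =>
    rcases hy with (((⟨t, rfl⟩ | ⟨t, rfl⟩) | ⟨t, rfl⟩) | ⟨t, rfl⟩) | ⟨t, rfl⟩
    exacts [hb t, h3 t, hz t, ha t, hB t]
  | inv_mem y hy =>
    rcases hy with (((⟨t, rfl⟩ | ⟨t, rfl⟩) | ⟨t, rfl⟩) | ⟨t, rfl⟩) | ⟨t, rfl⟩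
    · rw [← map_neg' R.xb_add]; exact hb _
    · rw [← map_neg' R.x3_add]; exact h3 _
    · rw [← map_neg' R.zz_add]; exact hz _
    · rw [← map_neg' R.aa_add]; exact ha _
    · rw [← map_neg' R.bb_add]; exact hB _
  | mul a b ha' hb' iha ihb =>
    have ha2 : a ∈ R.Q := R.hQ.symm ▸ ha'
    have hb2 : b ∈ R.Q := R.hQ.symm ▸ hb'
    exact hm a b ha2 hb2 (iha ha2) (ihb hb2)

theorem z_central (c : E₀) {x : G} (hx : x ∈ R.Q) : Commute (R.zz c) x := by
  refine R.induction_Q (P := Commute (R.zz c)) (R.zb c) (R.z3 c) (fun t => ?_) (R.za c) (R.zB c)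
    (Commute.one_right _) (fun _ _ _ _ => Commute.mul_right) hx
  show R.zz c * R.zz t = R.zz t * R.zz c
  rw [← R.zz_add, add_comm, R.zz_add]

/-- Commutators of the radical lie in the centre part. -/
theorem comm_mem {x y : G} (hx : x ∈ R.Q) (hy : y ∈ R.Q) : ∃ c, ⁅x, y⁆ = R.zz c := by
  have one : ∀ {x y : G}, Commute x y → ∃ c, ⁅x, y⁆ = R.zz c := fun {x y} e =>
    ⟨0, by rw [map_zero' R.zz_add, commutatorElement_eq_one_iff_commute]; exact e⟩
  have inv : ∀ {x y : G}, (∃ c, ⁅x, y⁆ = R.zz c) → ∃ c, ⁅y, x⁆ = R.zz c := fun ⟨c, hc⟩ =>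
    ⟨-c, by rw [map_neg' R.zz_add, ← hc, commutatorElement_inv]⟩
  obtain ⟨ε, -, hbr⟩ := R.br
  have key : ∀ x, x ∈ Set.range R.xb ∪ Set.range R.x3 ∪ Set.range R.zz ∪ Set.range R.aa ∪ Set.range R.bb →
      ∀ y ∈ R.Q, ∃ c, ⁅x, y⁆ = R.zz c := by
    intro x hx y hy
    have hm : ∀ a b, a ∈ R.Q → b ∈ R.Q → (∃ c, ⁅x, a⁆ = R.zz c) → (∃ c, ⁅x, b⁆ = R.zz c) →
        ∃ c, ⁅x, a * b⁆ = R.zz c := fun a b ha _ ⟨c, hc⟩ ⟨d, hd⟩ =>
      ⟨c + d, by rw [Lift.comm_mul_right, hc, hd, ← (R.z_central d ha).eq, mul_inv_cancel_right, R.zz_add]⟩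
    refine R.induction_Q (P := fun y => ∃ c, ⁅x, y⁆ = R.zz c) ?_ ?_ ?_ ?_ ?_
      (one (Commute.one_right x)) hm hy <;> intro t <;>
      rcases hx with (((⟨s, rfl⟩ | ⟨s, rfl⟩) | ⟨s, rfl⟩) | ⟨s, rfl⟩) | ⟨s, rfl⟩
    · exact one (show R.xb s * R.xb t = R.xb t * R.xb s by rw [← R.xb_add, add_comm, R.xb_add])
    · exact inv ⟨_, hbr t s⟩
    · exact one (R.zb s t)
    · exact one (R.ab s t)
    · exact one (R.Bb s t)
    · exact ⟨_, hbr s t⟩
    · exact one (show R.x3 s * R.x3 t = R.x3 t * R.x3 s by rw [← R.x3_add, add_comm, R.x3_add])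
    · exact one (R.z3 s t)
    · exact one (R.a3 s t)
    · exact one (R.B3 s t)
    · exact one (R.zb t s).symm
    · exact one (R.z3 t s).symm
    · exact one (show R.zz s * R.zz t = R.zz t * R.zz s by rw [← R.zz_add, add_comm, R.zz_add])
    · exact one (R.za t s).symm
    · exact one (R.zB t s).symm
    · exact one (R.ab t s).symm
    · exact one (R.a3 t s).symm
    · exact one (R.za s t)
    · exact one (R.aA s t)
    · exact inv (R.brAB t s)
    · exact one (R.Bb t s).symm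
    · exact one (R.B3 t s).symm
    · exact one (R.zB s t)
    · exact R.brAB s t
    · exact one (R.BB s t)
  refine R.induction_Q (P := fun x => ∀ y, y ∈ R.Q → ∃ c, ⁅x, y⁆ = R.zz c)
    (fun t => key _ (by simp)) (fun t => key _ (by simp)) (fun t => key _ (by simp))
    (fun t => key _ (by simp)) (fun t => key _ (by simp)) (fun y _ => one (Commute.one_left y))
    (fun a b ha _ iha ihb y hy => ?_) hx y hy
  obtain ⟨c, hc⟩ := iha y hy
  obtain ⟨d, hd⟩ := ihb y hy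
  exact ⟨d + c, by
    rw [Lift.comm_mul_left, hd, hc, ← (R.z_central d ha).eq, mul_inv_cancel_right, R.zz_add]⟩

end Rad

/-! ### Commutators of lifts -/

section lifts

variable {E : Type u} {G : Type v} [Group E] [Group G] {π : E →* G}

/-- A surjective homomorphism with central kernel. -/
structure Cen (π : E →* G) : Prop where
  surj : Function.Surjective π
  cen : π.ker ≤ Subgroup.center E

variable (C : Cen π)
include C

/-- A chosen lift. -/
noncomputable def lft (x : G) : E := Function.surjInv C.surj x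

theorem π_lft (x : G) : π (lft C x) = x := Function.surjInv_eq C.surj x

/-- The commutator of two lifts. -/
noncomputable def cl (x y : G) : E := ⁅lft C x, lft C y⁆

theorem π_cl (x y : G) : π (cl C x y) = ⁅x, y⁆ := by rw [cl, map_commutatorElement, π_lft, π_lft]

theorem cl_eq (X Y : E) : ⁅X, Y⁆ = cl C (π X) (π Y) :=
  Lift.comm_congr C.cen (π_lft C _).symm (π_lft C _).symm

theorem cl_ker {x y : G} (h : Commute x y) : π (cl C x y) = 1 := by
  rw [π_cl]; exact commutatorElement_eq_one_iff_commute.2 h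

theorem ker_central {z : E} (hz : π z = 1) (e : E) : Commute z e := Lift.comm_central C.cen hz e

theorem cl_conj (e : E) (x y : G) :
    e * cl C x y * e⁻¹ = cl C (π e * x * (π e)⁻¹) (π e * y * (π e)⁻¹) := by
  rw [show e * cl C x y * e⁻¹ = ⁅e * lft C x * e⁻¹, e * lft C y * e⁻¹⁆ by
    simp only [cl, commutatorElement_def]; group, cl_eq C]
  simp only [map_mul, map_inv, π_lft]

theorem cl_left {x x' y : G} : cl C (x * x') y = lft C x * cl C x' y * (lft C x)⁻¹ * cl C x y := by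
  have e : cl C (x * x') y = ⁅lft C x * lft C x', lft C y⁆ := by
    rw [cl_eq C (lft C x * lft C x'), map_mul, π_lft, π_lft, π_lft]
  rw [e, Lift.comm_mul_left]; rfl

theorem cl_right {x y y' : G} : cl C x (y * y') = cl C x y * (lft C y * cl C x y' * (lft C y)⁻¹) := by
  have e : cl C x (y * y') = ⁅lft C x, lft C y * lft C y'⁆ := by
    rw [cl_eq C (lft C x) (lft C y * lft C y'), map_mul, π_lft, π_lft, π_lft]
  rw [e, Lift.comm_mul_right]; rfl

theorem cl_add_left {x x' y : G} (h : Commute x' y) : cl C (x * x') y = cl C x y * cl C x' y := by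
  have h1 := ker_central C (cl_ker C h)
  rw [cl_left C, ← (h1 _).eq, mul_inv_cancel_right, (h1 _).eq]

theorem cl_add_right {x y y' : G} (h : Commute x y') : cl C x (y * y') = cl C x y * cl C x y' := by
  rw [cl_right C, ← (ker_central C (cl_ker C h) _).eq, mul_inv_cancel_right]

theorem cl_swap {x y : G} (h : cl C x y = 1) : cl C y x = 1 := by
  rw [cl, ← commutatorElement_inv]
  rw [cl] at h
  rw [h, inv_one]

theorem cl_one_left (y : G) : cl C 1 y = 1 := by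
  have e : cl C 1 y = ⁅(1 : E), lft C y⁆ := by rw [cl_eq C (1 : E), map_one, π_lft]
  rw [e, commutatorElement_eq_one_iff_commute]; exact Commute.one_left _

theorem cl_one_right (x : G) : cl C x 1 = 1 := cl_swap C (cl_one_left C x)

/-- Lifts of commuting elements whose commutator vanishes commute. -/
theorem commute_of_cl {x y : G} (h : cl C x y = 1) {X Y : E} (hX : π X = x) (hY : π Y = y) :
    Commute X Y := by
  rw [← commutatorElement_eq_one_iff_commute, cl_eq C, hX, hY, h]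

/-- A torus element fixing `y` kills the part of `x` that it moves. -/
theorem kill {g x x' y : G} (hg : g * y * g⁻¹ = y) (hx : g * x * g⁻¹ = x * x') (h1 : Commute x y)
    (h2 : Commute x' y) : cl C x' y = 1 := by
  have e := cl_conj C (lft C g) x y
  rw [π_lft, hg, hx, cl_add_left C h2, ← (ker_central C (cl_ker C h1) _).eq, mul_inv_cancel_right] at e
  exact mul_eq_left.1 e.symm

/-- An element commuting with two elements commutes with lifts of their commutator. -/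
theorem bracket {s a b : G} (h1 : Commute s a) (h2 : Commute s b) : cl C s ⁅a, b⁆ = 1 := by
  rw [cl, commutatorElement_eq_one_iff_commute]
  refine Lift.commute_bracket C.cen (a := lft C a) (b := lft C b) ?_ ?_ ?_
  · rw [map_commutatorElement, π_lft, π_lft]; exact commutatorElement_eq_one_iff_commute.2 h1
  · rw [map_commutatorElement, π_lft, π_lft]; exact commutatorElement_eq_one_iff_commute.2 h2
  · rw [π_lft, map_commutatorElement, π_lft, π_lft]

/-- Coprime orders give a trivial pairing. -/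
theorem cl_coprime {g z : G} (hgz : Commute g z) {m k : ℕ} (hco : Nat.Coprime m k) (hm : g ^ m = 1)
    (hk : z ^ k = 1) : cl C g z = 1 := by
  have hl : ∀ i : ℕ, cl C (g ^ i) z = cl C g z ^ i := by
    intro i
    induction i with
    | zero => rw [pow_zero, pow_zero, cl_one_left]
    | succ i ih => rw [pow_succ, pow_succ, cl_add_left C hgz, ih]
  have hr : ∀ i : ℕ, cl C g (z ^ i) = cl C g z ^ i := by
    intro i
    induction i with
    | zero => rw [pow_zero, pow_zero, cl_one_right]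
    | succ i ih => rw [pow_succ, pow_succ, cl_add_right C hgz, ih]
  have e1 : cl C g z ^ m = 1 := by rw [← hl, hm, cl_one_left]
  have e2 : cl C g z ^ k = 1 := by rw [← hr, hk, cl_one_right]
  exact orderOf_eq_one_iff.1 (Nat.eq_one_of_dvd_coprimes hco (orderOf_dvd_of_pow_eq_one e1)
    (orderOf_dvd_of_pow_eq_one e2))

end lifts

/-! ### The pairing on the radical -/

namespace Rad

variable {E : Type u} {G : Type v} [Group E] [Group G] {π : E →* G} (C : Cen π) {p : ℕ}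
  {E₀ : Type w} [Field E₀] [CharP E₀ p] {K : Type w'} [Field K] (R : Rad p G E₀ K)
include C

theorem cl_aa {y : G} (hy : R.h * y * R.h⁻¹ = y) (hc : ∀ s, Commute (R.aa s) y) (s : K) :
    cl C (R.aa s) y = 1 := by
  have e : R.β - 1 ≠ 0 := sub_ne_zero.2 R.β1
  refine kill C (g := R.h) (x := R.aa (s / (R.β - 1))) hy ?_ (hc _) (hc _)
  rw [R.ha, ← R.aa_add]
  congr 1
  field_simp
  ring

theorem cl_bb {y : G} (hy : R.h * y * R.h⁻¹ = y) (hc : ∀ s, Commute (R.bb s) y) (s : K) :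
    cl C (R.bb s) y = 1 := by
  have e : R.γ - 1 ≠ 0 := sub_ne_zero.2 R.γ1
  refine kill C (g := R.h) (x := R.bb (s / (R.γ - 1))) hy ?_ (hc _) (hc _)
  rw [R.hB, ← R.bb_add]
  congr 1
  field_simp
  ring

theorem cl_u1z (s : K) (c : E₀) : cl C (R.u1 s) (R.zz c) = 1 := by
  have e : R.α - 1 ≠ 0 := sub_ne_zero.2 R.α1
  refine kill C (g := R.h) (x := R.u1 (s / (R.α - 1))) ?_ ?_ (R.zu c _).symm (R.zu c _).symm
  · rw [(R.hz c).eq, mul_inv_cancel_right]
  rw [R.hu, ← R.u1_add]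
  congr 1
  field_simp
  ring

theorem cl_bracket_z {x : G} (hA : ∀ s, Commute x (R.aa s)) (hB : ∀ s, Commute x (R.bb s)) (c : E₀) :
    cl C x (R.zz c) = 1 := by
  obtain ⟨s, t, e⟩ := R.zgen c
  rw [← e]
  exact bracket C (hA s) (hB t)

/-- Lifts of the centre part commute with lifts of the radical. -/
theorem cl_z (c : E₀) {x : G} (hx : x ∈ R.Q) : cl C x (R.zz c) = 1 := by
  have hh : R.h * R.zz c * R.h⁻¹ = R.zz c := by rw [(R.hz c).eq, mul_inv_cancel_right]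
  refine R.induction_Q (P := fun x => cl C x (R.zz c) = 1) (fun t => ?_) (fun t => ?_) (fun t => ?_)
    (R.cl_aa C hh fun s => (R.za c s).symm) (R.cl_bb C hh fun s => (R.zB c s).symm) (cl_one_left C _)
    (fun a b _ hb ha' hb' => ?_) hx
  · exact R.cl_bracket_z C (fun s => (R.ab s t).symm) (fun s => (R.Bb s t).symm) c
  · exact R.cl_bracket_z C (fun s => (R.a3 s t).symm) (fun s => (R.B3 s t).symm) c
  · exact R.cl_bracket_z C (fun s => R.za t s) (fun s => R.zB t s) c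
  · rw [cl_add_left C (R.z_central c hb).symm, ha', hb', mul_one]

theorem lift_z_commute {c : E₀} {x : G} (hx : x ∈ R.Q) {X Z : E} (hX : π X = x) (hZ : π Z = R.zz c) :
    Commute X Z := commute_of_cl C (R.cl_z C c hx) hX hZ

theorem cl_mul_left {x x' y : G} (hx : x ∈ R.Q) (hx' : x' ∈ R.Q) (hy : y ∈ R.Q) :
    cl C (x * x') y = cl C x' y * cl C x y := by
  obtain ⟨c, hc⟩ := R.comm_mem hx' hy
  rw [cl_left C, (R.lift_z_commute C hx (π_lft C x) (by rw [π_cl, hc])).eq, mul_inv_cancel_right]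

theorem cl_mul_right {x y y' : G} (hx : x ∈ R.Q) (hy : y ∈ R.Q) (hy' : y' ∈ R.Q) :
    cl C x (y * y') = cl C x y * cl C x y' := by
  obtain ⟨c, hc⟩ := R.comm_mem hx hy'
  rw [cl_right C, (R.lift_z_commute C hy (π_lft C y) (by rw [π_cl, hc])).eq, mul_inv_cancel_right]

theorem cl_33 (t t' : E₀) : cl C (R.x3 t) (R.x3 t') = 1 := by
  obtain ⟨ε, hε, hmv⟩ := R.move
  obtain ⟨ε', -, hbr⟩ := R.br
  obtain ⟨a, b, c, hu⟩ := hmv (t / ε)
  rw [mul_div_cancel₀ _ hε] at hu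
  have e := cl_conj C (lft C (R.u1 1)) (R.xb (t / ε)) (R.x3 t')
  rw [π_lft, hu, (R.u3 1 t').eq, mul_inv_cancel_right] at e
  have hv : π (cl C (R.xb (t / ε)) (R.x3 t')) = R.zz (ε' * (t / ε * t')) := by rw [π_cl, hbr]
  rw [(commute_of_cl C (R.cl_u1z C 1 _) (π_lft C _) hv).eq, mul_inv_cancel_right] at e
  have hc3 : ∀ s, R.h * R.x3 s * R.h⁻¹ = R.x3 s := fun s => by rw [(R.h3 s).eq, mul_inv_cancel_right]
  have c33 : Commute (R.x3 t) (R.x3 t') := by
    show R.x3 t * R.x3 t' = R.x3 t' * R.x3 t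
    rw [← R.x3_add, add_comm, R.x3_add]
  rw [cl_add_left C (R.z3 c t'), cl_add_left C c33, cl_add_left C (R.B3 b t'), cl_add_left C (R.a3 a t'),
    R.cl_aa C (hc3 t') (fun s => R.a3 s t'), R.cl_bb C (hc3 t') (fun s => R.B3 s t'),
    cl_swap C (R.cl_z C c (R.x3_mem t')), mul_one, mul_one, mul_one] at e
  exact mul_eq_left.1 e.symm

theorem cl_bb' (t t' : E₀) : cl C (R.xb t) (R.xb t') = 1 := by
  obtain ⟨s, hs⟩ := R.weyl t
  obtain ⟨s', hs'⟩ := R.weyl t'
  have hc : Commute (R.xb t) (R.xb t') := by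
    show R.xb t * R.xb t' = R.xb t' * R.xb t
    rw [← R.xb_add, add_comm, R.xb_add]
  have e := cl_conj C (lft C R.n) (R.xb t) (R.xb t')
  rw [π_lft, hs, hs', R.cl_33 C, ← (ker_central C (cl_ker C hc) _).eq, mul_inv_cancel_right] at e
  exact e

/-- The basic values. -/
noncomputable def φ (t : E₀) : E := cl C (R.xb 1) (R.x3 t)

theorem φ_add (s t : E₀) : R.φ C (s + t) = R.φ C s * R.φ C t := by
  rw [φ, R.x3_add, R.cl_mul_right C (R.xb_mem 1) (R.x3_mem s) (R.x3_mem t)]; rfl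

theorem π_φ : ∃ ε : E₀, ε ≠ 0 ∧ ∀ t, π (R.φ C t) = R.zz (ε * t) := by
  obtain ⟨ε, hε, hbr⟩ := R.br
  exact ⟨ε, hε, fun t => by rw [φ, π_cl, hbr, one_mul]⟩

/-- The subgroup of the basic values. -/
noncomputable def C1 : Subgroup E where
  carrier := Set.range (R.φ C)
  one_mem' := ⟨0, map_zero' (R.φ_add C)⟩
  mul_mem' := fun {x y} ⟨s, hs⟩ ⟨t, ht⟩ => ⟨s + t, by rw [R.φ_add C, hs, ht]⟩
  inv_mem' := fun {x} ⟨s, hs⟩ => ⟨-s, by rw [map_neg' (R.φ_add C), hs]⟩

theorem φ_mem (t : E₀) : R.φ C t ∈ R.C1 C := ⟨t, rfl⟩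

theorem C1_image {x : E} (hx : x ∈ R.C1 C) : ∃ c, π x = R.zz c := by
  obtain ⟨t, rfl⟩ := hx
  obtain ⟨ε, -, e⟩ := R.π_φ C
  exact ⟨_, e t⟩

theorem C1_surj (c : E₀) : ∃ x ∈ R.C1 C, π x = R.zz c := by
  obtain ⟨ε, hε, e⟩ := R.π_φ C
  exact ⟨_, R.φ_mem C (c / ε), by rw [e, mul_div_cancel₀ _ hε]⟩

theorem C1_inj {x : E} (hx : x ∈ R.C1 C) (h : π x = 1) : x = 1 := by
  obtain ⟨t, rfl⟩ := hx
  obtain ⟨ε, hε, e⟩ := R.π_φ C
  rw [e, ← map_zero' R.zz_add] at h
  have ht := (mul_eq_zero.1 (R.zz_inj h)).resolve_left hε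
  rw [ht]
  exact map_zero' (R.φ_add C)

theorem C1_commute {g : G} (hg : ∀ c, cl C g (R.zz c) = 1) {e x : E} (he : π e = g) (hx : x ∈ R.C1 C) :
    e * x * e⁻¹ = x := by
  obtain ⟨c, hc⟩ := R.C1_image C hx
  rw [(commute_of_cl C (hg c) he hc).eq, mul_inv_cancel_right]

omit C in
theorem zz_pow (c : E₀) : R.zz c ^ p = 1 := by
  have h : ∀ i : ℕ, R.zz c ^ i = R.zz ((i : E₀) * c) := fun i => by
    induction i with
    | zero => rw [pow_zero, Nat.cast_zero, zero_mul, map_zero' R.zz_add]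
    | succ i ih => rw [pow_succ, ih, ← R.zz_add, Nat.cast_succ, add_mul, one_mul]
  rw [h, CharP.cast_eq_zero, zero_mul, map_zero' R.zz_add]

theorem cl_hz (c : E₀) : cl C R.h (R.zz c) = 1 := by
  obtain ⟨m, hm, e⟩ := R.hord
  exact cl_coprime C (R.hz c) hm e (R.zz_pow c)

theorem cl_b3 (t t' : E₀) : cl C (R.xb t) (R.x3 t') ∈ R.C1 C := by
  by_cases ht : t = 0
  · rw [ht, map_zero' R.xb_add, cl_one_left]; exact one_mem _
  obtain ⟨τ, m, hm, hτ, hτz, hτb, hτ3⟩ := R.tor t ht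
  obtain ⟨ε, -, hbr⟩ := R.br
  obtain ⟨t'', ht''⟩ := hτ3 t'
  have e := cl_conj C (lft C τ) (R.xb t) (R.x3 t')
  have hz0 : cl C τ (R.zz (ε * (t * t'))) = 1 := cl_coprime C (hτz _) hm hτ (R.zz_pow _)
  rw [π_lft, hτb, ht'', (commute_of_cl C hz0 (π_lft C τ) (by rw [π_cl, hbr])).eq,
    mul_inv_cancel_right] at e
  rw [e]
  exact R.φ_mem C t''

/-- All values lie in the subgroup of the basic values. -/
theorem cl_mem {x y : G} (hx : x ∈ R.Q) (hy : y ∈ R.Q) : cl C x y ∈ R.C1 C := by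
  let S : Subgroup G :=
    { carrier := {x | x ∈ R.Q ∧ ∀ y ∈ R.Q, cl C x y ∈ R.C1 C}
      one_mem' := ⟨one_mem _, fun y _ => by rw [cl_one_left]; exact one_mem _⟩
      mul_mem' := fun {a b} ha hb => ⟨mul_mem ha.1 hb.1, fun y hy => by
        rw [R.cl_mul_left C ha.1 hb.1 hy]; exact mul_mem (hb.2 y hy) (ha.2 y hy)⟩
      inv_mem' := fun {a} ha => ⟨inv_mem ha.1, fun y hy => by
        have e := R.cl_mul_left C ha.1 (inv_mem ha.1) hy
        rw [mul_inv_cancel, cl_one_left] at e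
        rw [eq_inv_of_mul_eq_one_left e.symm]
        exact inv_mem (ha.2 y hy)⟩ }
  have hh : ∀ t, R.h * R.xb t * R.h⁻¹ = R.xb t := fun t => by rw [(R.hb t).eq, mul_inv_cancel_right]
  have hle : R.Q ≤ S := by
    refine R.gen S (fun t => ⟨R.xb_mem t, fun y hy => ?_⟩) (fun c => ⟨R.zz_mem c, fun y hy => ?_⟩)
      (fun s x hx => ⟨R.normU s x hx.1, fun y hy => ?_⟩) fun x hx => ⟨?_, fun y hy => ?_⟩
    · refine R.induction_Q (P := fun y => cl C (R.xb t) y ∈ R.C1 C) (fun t' => ?_) (R.cl_b3 C t)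
        (fun c => ?_) (fun s => ?_) (fun s => ?_) ?_ (fun a b ha hb iha ihb => ?_) hy
      · rw [R.cl_bb' C]; exact one_mem _
      · rw [R.cl_z C c (R.xb_mem t)]; exact one_mem _
      · rw [cl_swap C (R.cl_aa C (hh t) (fun s => R.ab s t) s)]; exact one_mem _
      · rw [cl_swap C (R.cl_bb C (hh t) (fun s => R.Bb s t) s)]; exact one_mem _
      · rw [cl_one_right]; exact one_mem _
      · rw [R.cl_mul_right C (R.xb_mem t) ha hb]; exact mul_mem iha ihb
    · rw [cl_swap C (R.cl_z C c hy)]; exact one_mem _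
    · have hy' : (R.u1 s)⁻¹ * y * R.u1 s ∈ R.Q := by
        have := R.normU (-s) y hy
        rwa [map_neg' R.u1_add, inv_inv] at this
      have e := cl_conj C (lft C (R.u1 s)) x ((R.u1 s)⁻¹ * y * R.u1 s)
      rw [π_lft, show R.u1 s * ((R.u1 s)⁻¹ * y * R.u1 s) * (R.u1 s)⁻¹ = y by group,
        R.C1_commute C (R.cl_u1z C s) (π_lft C _) (hx.2 _ hy')] at e
      rw [← e]
      exact hx.2 _ hy'
    · obtain ⟨m, hco, hm⟩ := R.hord
      have key : ∀ i : ℕ, ∀ x ∈ R.Q, R.h⁻¹ ^ i * x * R.h ^ i ∈ R.Q := by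
        intro i
        induction i with
        | zero => intro x hx; simpa using hx
        | succ i ih =>
          intro x hx
          have := R.normH _ (ih x hx)
          rwa [pow_succ', pow_succ, show R.h⁻¹ * R.h⁻¹ ^ i * x * (R.h ^ i * R.h) =
            R.h⁻¹ * (R.h⁻¹ ^ i * x * R.h ^ i) * R.h by group]
      rcases Nat.eq_zero_or_pos m with rfl | hmpos
      · -- the exponent zero only for `p = 1`, excluded by the characteristic
        exact absurd (by simpa using hco) (CharP.char_ne_one E₀ p)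
      have := key (m - 1) x hx.1
      have e : R.h ^ (m - 1) = R.h⁻¹ :=
        eq_inv_of_mul_eq_one_left (by rw [← pow_succ, Nat.sub_add_cancel hmpos, hm])
      rwa [inv_pow, e, inv_inv] at this
    · have hy' := R.normH y hy
      have e := cl_conj C (lft C R.h) x (R.h⁻¹ * y * R.h)
      rw [π_lft, show R.h * (R.h⁻¹ * y * R.h) * R.h⁻¹ = y by group,
        R.C1_commute C (R.cl_hz C) (π_lft C _) (hx.2 _ hy')] at e
      rw [← e]
      exact hx.2 _ hy'
  exact (hle hx).2 y hy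

end Rad

end Cfsg.Agent.TwistMult
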