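import Cfsg.Agent.Lib.Chevalley.Group
import Cfsg.Agent.Lib.Chevalley.Unip

/-!
The action of a subgroup on a coordinate subquotient spanned by root vectors.
-/

set_option autoImplicit false
set_option linter.unusedSectionVars false

open scoped Matrix

namespace Cfsg.Agent.TwistMult.Res

open Cfsg.Lie Cfsg.Agent.Chevalley Cfsg.Agent.Chevalley.Table Cfsg.Agent.Chevalley.Cert
  Cfsg.Agent.Chevalley.Group Cfsg.Agent.Chevalley.Root

variable {D : ChevalleyDatum} {F : Type*} [Field F] {n : ℕ} (P : Fin n → Fin D.nroots)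
  (W : List (Fin D.nroots))

/-- The matrix on the chosen root vectors. -/
def res (g : GL D.Idx F) : Matrix (Fin n) (Fin n) F :=
  Matrix.of fun i j => (g : Matrix D.Idx D.Idx F) (Sum.inr (P i)) (Sum.inr (P j))

/-- Invariance of the span of the second set and of the span of both sets. -/
structure Blk (g : GL D.Idx F) : Prop where
  col : ∀ (j : Fin n) (k : D.Idx), (∀ i, k ≠ Sum.inr (P i)) → (∀ w ∈ W, k ≠ Sum.inr w) →
    (g : Matrix D.Idx D.Idx F) k (Sum.inr (P j)) = 0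
  low : ∀ w ∈ W, ∀ k : D.Idx, (∀ w' ∈ W, k ≠ Sum.inr w') → (g : Matrix D.Idx D.Idx F) k (Sum.inr w) = 0

variable {P W} (hP : Function.Injective P) (hPW : ∀ i, P i ∉ W)
include hP hPW

theorem blk_one : Blk P W (1 : GL D.Idx F) := by
  refine ⟨fun j k h _ => ?_, fun w hw k h => ?_⟩ <;> rw [Units.val_one, Matrix.one_apply_ne]
  · exact h j
  · exact h w hw

theorem blk_mul {g h : GL D.Idx F} (hg : Blk P W g) (hh : Blk P W h) : Blk P W (g * h) := by
  refine ⟨fun j k h1 h2 => ?_, fun w hw k h1 => ?_⟩ <;>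
    rw [Units.val_mul, Matrix.mul_apply] <;> refine Finset.sum_eq_zero fun l _ => ?_
  · by_cases hl : ∃ i, l = Sum.inr (P i)
    · obtain ⟨i, rfl⟩ := hl
      rw [hg.col i k h1 h2, zero_mul]
    by_cases hw : ∃ w ∈ W, l = Sum.inr w
    · obtain ⟨w, hw, rfl⟩ := hw
      rw [hg.low w hw k h2, zero_mul]
    rw [hh.col j l (fun i e => hl ⟨i, e⟩) (fun w hw' e => hw ⟨w, hw', e⟩), mul_zero]
  · by_cases hw' : ∃ w' ∈ W, l = Sum.inr w'
    · obtain ⟨w', hw', rfl⟩ := hw'
      rw [hg.low w' hw' k h1, zero_mul]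
    rw [hh.low w hw l fun w' hm e => hw' ⟨w', hm, e⟩, mul_zero]

theorem res_one : res P (1 : GL D.Idx F) = 1 := by
  ext i j
  show (1 : Matrix D.Idx D.Idx F) (Sum.inr (P i)) (Sum.inr (P j)) = _
  by_cases h : i = j
  · subst h; rw [Matrix.one_apply_eq, Matrix.one_apply_eq]
  · rw [Matrix.one_apply_ne h, Matrix.one_apply_ne fun e => h (hP (Sum.inr.inj e))]

theorem res_mul {g h : GL D.Idx F} (hg : Blk P W g) (hh : Blk P W h) :
    res P (g * h) = res P g * res P h := by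
  classical
  ext i j
  show ((g * h : GL D.Idx F) : Matrix D.Idx D.Idx F) _ _ = _
  rw [Units.val_mul, Matrix.mul_apply, Matrix.mul_apply]
  let f : Fin n ↪ D.Idx := ⟨fun l => Sum.inr (P l), fun a b e => hP (Sum.inr.inj e)⟩
  rw [← Finset.sum_subset (Finset.subset_univ (Finset.univ.map f)) fun l _ hl => ?_, Finset.sum_map]
  · rfl
  have hl' : ∀ a, l ≠ Sum.inr (P a) := fun a e => hl (Finset.mem_map.2 ⟨a, Finset.mem_univ _, e.symm⟩)
  by_cases hw : ∃ w ∈ W, l = Sum.inr w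
  · obtain ⟨w, hw, rfl⟩ := hw
    rw [hg.low w hw _ fun w' hw' e => hPW i ((Sum.inr.inj e : P i = w') ▸ hw'), zero_mul]
  · rw [hh.col j l hl' fun w hw' e => hw ⟨w, hw', e⟩, mul_zero]

theorem blk_pow {g : GL D.Idx F} (hg : Blk P W g) : ∀ k : ℕ, Blk P W (g ^ k)
  | 0 => by rw [pow_zero]; exact blk_one hP hPW
  | k + 1 => by rw [pow_succ]; exact blk_mul hP hPW (blk_pow hg k) hg

theorem blk_inv [Finite F] {g : GL D.Idx F} (hg : Blk P W g) : Blk P W g⁻¹ := by
  have h : g ^ (orderOf g - 1) = g⁻¹ := by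
    rw [eq_inv_iff_mul_eq_one, ← pow_succ, Nat.sub_add_cancel (orderOf_pos g), pow_orderOf_eq_one]
  exact h ▸ blk_pow hP hPW hg _

/-- The elements acting as members of a given matrix group. -/
def target [Finite F] {H : Type*} [Group H] (ι : H →* Matrix (Fin n) (Fin n) F) :
    Subgroup (GL D.Idx F) where
  carrier := {g | Blk P W g ∧ ∃ h, ι h = res P g}
  one_mem' := ⟨blk_one hP hPW, 1, by rw [map_one, res_one hP hPW]⟩
  mul_mem' := by
    rintro a b ⟨ha, x, hx⟩ ⟨hb, y, hy⟩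
    exact ⟨blk_mul hP hPW ha hb, x * y, by rw [map_mul, hx, hy, res_mul hP hPW ha hb]⟩
  inv_mem' := by
    rintro a ⟨ha, x, hx⟩
    refine ⟨blk_inv hP hPW ha, x⁻¹, ?_⟩
    have e : res P a⁻¹ * res P a = 1 := by
      rw [← res_mul hP hPW (blk_inv hP hPW ha) ha, inv_mul_cancel, res_one hP hPW]
    calc ι x⁻¹ = res P a⁻¹ * res P a * ι x⁻¹ := by rw [e, one_mul]
      _ = res P a⁻¹ * (ι x * ι x⁻¹) := by rw [mul_assoc, hx]
      _ = _ := by rw [← map_mul, mul_inv_cancel, map_one, mul_one]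

/-- The homomorphism into the matrix group. -/
theorem exists_hom [Finite F] {K : Subgroup (GL D.Idx F)} (L : Subgroup K) {H : Type*} [Group H]
    (ι : H →* Matrix (Fin n) (Fin n) F) (hι : Function.Injective ι)
    (hL : ∀ g ∈ L, (g : GL D.Idx F) ∈ target hP hPW ι) :
    ∃ R : L →* H, ∀ g : L, ι (R g) = res P ((g : K) : GL D.Idx F) := by
  choose R hR using fun g : L => (hL g g.2).2
  refine ⟨MonoidHom.mk' R fun a b => hι ?_, hR⟩
  rw [map_mul, hR, hR, hR, ← res_mul hP hPW (hL a a.2).1 (hL b b.2).1]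
  rfl

end Cfsg.Agent.TwistMult.Res
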